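/-
The elements of order 2 and 3 of `M24`: each is conjugate to one of two explicit tables.
-/
import Mathlib
import Cfsg.Prelude.Def_Sporadic_a
import Cfsg.Agent.Lib.helper94.M24EltsData

set_option autoImplicit false

namespace Cfsg.Agent.Lib.helper94

open Cfsg
open scoped Pointwise
open Cfsg.Agent.Lib.helper33 (IsTable validTbl exists_perm_of_validTbl)
open Cfsg.Agent.Lib.helper9 (idx pt bp base orbL t456 compT stabL mem_stabL nf4 chkTbl
  mem_M24_of_table isTable_mul idx_bp five_trans)

theorem conj_img {k g : Equiv.Perm GolayPt} {p q p' q' : GolayPt} (hp : k p = p') (hq : k q = q')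
    (h : g p = q) : (k * g * k⁻¹) p' = q' := by
  subst hp hq h
  simp

theorem exists_notMem_golay (s : Finset GolayPt) (h : s.card < 24) : ∃ x, x ∉ s := by
  by_contra hcon
  push Not at hcon
  have : s = Finset.univ := Finset.eq_univ_iff_forall.mpr hcon
  rw [this, Finset.card_univ, card_golayPt] at h
  exact lt_irrefl _ h

/-- Conjugacy class of an element through a framed enumeration. -/
theorem class_of_frame (k kinv : List ℕ) (hk : validTbl k kinv = true) (hkM : chkTbl k = true)
    (hyp : ℕ → Bool) (reps : List ℕ) (certs : List (ℕ × ℕ × ℕ))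
    (hreps : ∀ X ∈ reps, validPerm X = true)
    (hchk : frameCheck k (classP hyp reps certs) = true)
    (g : Equiv.Perm GolayPt) (hg : g ∈ M24) (u : Equiv.Perm GolayPt) (hu : u ∈ M24)
    (himg : ∀ j < 4, (u * g * u⁻¹) (bp j) = pt (k.getD (base.getD j 0) 0))
    (hhyp : ∀ E, validPerm E = true → u * g * u⁻¹ = tperm E → hyp E = true) :
    ∃ X ∈ reps, ∃ c ∈ M24, g = c * tperm X * c⁻¹ := by
  obtain ⟨E, hv, hP, hE⟩ := frame4 k kinv hk hkM _ hchk (u * g * u⁻¹)
    (M24.mul_mem (M24.mul_mem hu hg) (M24.inv_mem hu)) himg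
  obtain ⟨X, hX, c, hc, hconj⟩ := classP_sound hP (hhyp E hv hE) hv hreps
  refine ⟨X, hX, u⁻¹ * c, M24.mul_mem (M24.inv_mem hu) hc, ?_⟩
  have h1 : g = u⁻¹ * (u * g * u⁻¹) * u := by group
  rw [h1, hE, hconj]
  group

theorem imgAt_of_fix {E : ℕ} (hv : validPerm E = true) {i : ℕ} (hi : i < 24)
    (h : tperm E (idxPt i) = idxPt i) : Nat.beq (imgAt E i) i = true := by
  have := (tperm_eq_iff hv (idxPt i)).mp h
  rw [ptIdx_idxPt hi] at this
  rw [this]
  exact Nat.beq_refl _

/-- Every element of order 3 of `M24` is conjugate to one of two explicit elements. -/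
theorem order3_class (g : Equiv.Perm GolayPt) (hg : g ∈ M24) (h3 : orderOf g = 3) :
    ∃ X ∈ [X3A, X3B], ∃ c ∈ M24, g = c * tperm X * c⁻¹ := by
  have hg3 : g ^ 3 = 1 := by rw [← h3]; exact pow_orderOf_eq_one g
  have hne : g ≠ 1 := by rintro rfl; simp at h3
  obtain ⟨a, ha⟩ : ∃ a, g a ≠ a := by
    by_contra hcon
    push Not at hcon
    exact hne (Equiv.ext hcon)
  have h3pt : ∀ p, g (g (g p)) = p := fun p => by
    have := congrArg (fun f : Equiv.Perm GolayPt => f p) hg3
    simpa [pow_succ] using this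
  have hreps : ∀ X ∈ [X3A, X3B], validPerm X = true := by
    intro X hX
    simp only [List.mem_cons, List.not_mem_nil, or_false] at hX
    rcases hX with rfl | rfl
    · exact repsElts_ok.1
    · exact repsElts_ok.2.1
  have hab : g a ≠ a := ha
  have hbc : g (g a) ≠ g a := fun h => ha (g.injective h)
  have hca : g (g a) ≠ a := fun h => ha (by have := h3pt a; rw [h] at this; exact this)
  by_cases hex : ∃ d, d ≠ a ∧ d ≠ g a ∧ d ≠ g (g a) ∧ g d ≠ d
  · obtain ⟨d, hda, hdb, hdc, hd⟩ := hex
    have hea : g d ≠ a := fun h => hdc (g.injective (by rw [h, h3pt a]))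
    have heb : g d ≠ g a := fun h => hda (g.injective h)
    have hec : g d ≠ g (g a) := fun h => hdb (g.injective h)
    obtain ⟨u, hu, h0, h1, h2, h3', h4⟩ := exists_frame a (g a) (g (g a)) d (g d) (by
      simp only [List.nodup_cons, List.mem_cons, List.not_mem_nil, or_false, not_or,
        List.nodup_nil, not_false_eq_true, and_true]
      exact ⟨⟨hab.symm, (Ne.symm hca), (Ne.symm hda), (Ne.symm hea)⟩, ⟨hbc.symm, (Ne.symm hdb), (Ne.symm heb)⟩,
        ⟨(Ne.symm hdc), (Ne.symm hec)⟩, hd.symm⟩)
    refine class_of_frame K32 K32i frameK32_ok.1 frameK32_ok.2.1 _ _ _ hreps frameK32_ok.2.2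
      g hg u hu ?_ ?_
    · intro j hj
      interval_cases j
      · exact conj_img h0 h1 rfl
      · exact conj_img h1 h2 rfl
      · exact conj_img h2 h0 (h3pt a)
      · exact conj_img h3' h4 rfl
    · intro E hv hE
      show powOne E 3 = true
      rw [powOne_iff hv, ← hE, conj_pow, hg3]
      group
  · push Not at hex
    obtain ⟨d, hd⟩ := exists_notMem_golay {a, g a, g (g a)}
      (lt_of_le_of_lt Finset.card_le_three (by norm_num))
    obtain ⟨e, he⟩ := exists_notMem_golay {a, g a, g (g a), d}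
      (lt_of_le_of_lt Finset.card_le_four (by norm_num))
    simp only [Finset.mem_insert, Finset.mem_singleton, not_or] at hd he
    obtain ⟨hda, hdb, hdc⟩ := hd
    obtain ⟨hea, heb, hec, hed⟩ := he
    obtain ⟨u, hu, h0, h1, h2, h3', h4⟩ := exists_frame a (g a) (g (g a)) d e (by
      simp only [List.nodup_cons, List.mem_cons, List.not_mem_nil, or_false, not_or,
        List.nodup_nil, not_false_eq_true, and_true]
      exact ⟨⟨hab.symm, (Ne.symm hca), (Ne.symm hda), (Ne.symm hea)⟩, ⟨hbc.symm, (Ne.symm hdb), (Ne.symm heb)⟩,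
        ⟨(Ne.symm hdc), (Ne.symm hec)⟩, (Ne.symm hed)⟩)
    refine class_of_frame K31 K31i frameK31_ok.1 frameK31_ok.2.1 _ _ _ hreps frameK31_ok.2.2
      g hg u hu ?_ ?_
    · intro j hj
      interval_cases j
      · exact conj_img h0 h1 rfl
      · exact conj_img h1 h2 rfl
      · exact conj_img h2 h0 (h3pt a)
      · exact conj_img h3' h3' (hex d hda hdb hdc)
    · intro E hv hE
      show (powOne E 3 && Nat.beq (imgAt E 4) 4) = true
      rw [Bool.and_eq_true]
      refine ⟨?_, ?_⟩
      · rw [powOne_iff hv, ← hE, conj_pow, hg3]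
        group
      · apply imgAt_of_fix hv (by norm_num)
        rw [← hE]
        exact conj_img h4 h4 (hex e hea heb hec)

/-- Every element of order 2 of `M24` is conjugate to one of two explicit elements. -/
theorem order2_class (g : Equiv.Perm GolayPt) (hg : g ∈ M24) (h2 : orderOf g = 2) :
    ∃ X ∈ [X2A, X2B], ∃ c ∈ M24, g = c * tperm X * c⁻¹ := by
  have hg2 : g ^ 2 = 1 := by rw [← h2]; exact pow_orderOf_eq_one g
  have hne : g ≠ 1 := by rintro rfl; simp at h2
  obtain ⟨a, ha⟩ : ∃ a, g a ≠ a := by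
    by_contra hcon
    push Not at hcon
    exact hne (Equiv.ext hcon)
  have h2pt : ∀ p, g (g p) = p := fun p => by
    have := congrArg (fun f : Equiv.Perm GolayPt => f p) hg2
    simpa [pow_succ] using this
  have hreps : ∀ X ∈ [X2A, X2B], validPerm X = true := by
    intro X hX
    simp only [List.mem_cons, List.not_mem_nil, or_false] at hX
    rcases hX with rfl | rfl
    · exact repsElts_ok.2.2.1
    · exact repsElts_ok.2.2.2.1
  by_cases hex : ∃ c, c ≠ a ∧ c ≠ g a ∧ g c ≠ c
  · obtain ⟨c, hca, hcb, hc⟩ := hex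
    have hda : g c ≠ a := fun h => hcb (by rw [← h, h2pt c])
    have hdb : g c ≠ g a := fun h => hca (g.injective h)
    obtain ⟨e, he⟩ := exists_notMem_golay {a, g a, c, g c}
      (lt_of_le_of_lt Finset.card_le_four (by norm_num))
    simp only [Finset.mem_insert, Finset.mem_singleton, not_or] at he
    obtain ⟨hea, heb, hec, hed⟩ := he
    obtain ⟨u, hu, h0, h1, h2', h3, h4⟩ := exists_frame a (g a) c (g c) e (by
      simp only [List.nodup_cons, List.mem_cons, List.not_mem_nil, or_false, not_or,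
        List.nodup_nil, not_false_eq_true, and_true]
      exact ⟨⟨ha.symm, (Ne.symm hca), (Ne.symm hda), (Ne.symm hea)⟩, ⟨(Ne.symm hcb), (Ne.symm hdb), (Ne.symm heb)⟩,
        ⟨hc.symm, (Ne.symm hec)⟩, (Ne.symm hed)⟩)
    refine class_of_frame K22 K22i frameK22_ok.1 frameK22_ok.2.1 _ _ _ hreps frameK22_ok.2.2
      g hg u hu ?_ ?_
    · intro j hj
      interval_cases j
      · exact conj_img h0 h1 rfl
      · exact conj_img h1 h0 (h2pt a)
      · exact conj_img h2' h3 rfl
      · exact conj_img h3 h2' (h2pt c)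
    · intro E hv hE
      show powOne E 2 = true
      rw [powOne_iff hv, ← hE, conj_pow, hg2]
      group
  · push Not at hex
    obtain ⟨c, hc⟩ := exists_notMem_golay {a, g a}
      (lt_of_le_of_lt Finset.card_le_two (by norm_num))
    obtain ⟨d, hd⟩ := exists_notMem_golay {a, g a, c}
      (lt_of_le_of_lt Finset.card_le_three (by norm_num))
    obtain ⟨e, he⟩ := exists_notMem_golay {a, g a, c, d}
      (lt_of_le_of_lt Finset.card_le_four (by norm_num))
    simp only [Finset.mem_insert, Finset.mem_singleton, not_or] at hc hd he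
    obtain ⟨hca, hcb⟩ := hc
    obtain ⟨hda, hdb, hdc⟩ := hd
    obtain ⟨hea, heb, hec, hed⟩ := he
    obtain ⟨u, hu, h0, h1, h2', h3, h4⟩ := exists_frame a (g a) c d e (by
      simp only [List.nodup_cons, List.mem_cons, List.not_mem_nil, or_false, not_or,
        List.nodup_nil, not_false_eq_true, and_true]
      exact ⟨⟨ha.symm, (Ne.symm hca), (Ne.symm hda), (Ne.symm hea)⟩, ⟨(Ne.symm hcb), (Ne.symm hdb), (Ne.symm heb)⟩,
        ⟨(Ne.symm hdc), (Ne.symm hec)⟩, (Ne.symm hed)⟩)
    refine class_of_frame K21 K21i frameK21_ok.1 frameK21_ok.2.1 _ _ _ hreps frameK21_ok.2.2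
      g hg u hu ?_ ?_
    · intro j hj
      interval_cases j
      · exact conj_img h0 h1 rfl
      · exact conj_img h1 h0 (h2pt a)
      · exact conj_img h2' h2' (hex c hca hcb)
      · exact conj_img h3 h3 (hex d hda hdb)
    · intro E hv hE
      show (powOne E 2 && Nat.beq (imgAt E 4) 4) = true
      rw [Bool.and_eq_true]
      refine ⟨?_, ?_⟩
      · rw [powOne_iff hv, ← hE, conj_pow, hg2]
        group
      · apply imgAt_of_fix hv (by norm_num)
        rw [← hE]
        exact conj_img h4 h4 (hex e hea heb)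

end Cfsg.Agent.Lib.helper94
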