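/-
Fixed points of powers of table permutations.
-/
import Mathlib
import Cfsg.Prelude.Def_Sporadic_a
import Cfsg.Agent.Lib.helper94.M24Elts

set_option autoImplicit false

namespace Cfsg.Agent.Lib.helper94

open Cfsg
open scoped Pointwise

/-- The number of fixed indices of the `n`-th power of a table. -/
def fixCntPow (E n : ℕ) : ℕ := cntBelow (fun i => Nat.beq (powImg E n i) i) 24

theorem tperm_pow_eq_iff {E : ℕ} (hv : validPerm E = true) (n : ℕ) (p : GolayPt) :
    (tperm E ^ n) p = p ↔ powImg E n (ptIdx p) = ptIdx p := by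
  have h1 := tperm_pow_idxPt hv n (ptIdx p) (ptIdx_lt p)
  rw [idxPt_ptIdx] at h1
  rw [h1.2]
  constructor
  · intro h
    have := congrArg ptIdx h
    rwa [ptIdx_idxPt h1.1] at this
  · intro h
    rw [h, idxPt_ptIdx]

theorem card_fixed_pow {E : ℕ} (hv : validPerm E = true) (n : ℕ) :
    (Finset.univ.filter fun p => (tperm E ^ n) p = p).card = fixCntPow E n := by
  rw [fixCntPow, cntBelow_eq]
  apply Finset.card_bij (fun p _ => ptIdx p)
  · intro p hp
    rw [Finset.mem_filter] at hp ⊢
    exact ⟨Finset.mem_range.mpr (ptIdx_lt p), by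
      rw [(tperm_pow_eq_iff hv n p).mp hp.2]; exact Nat.beq_refl _⟩
  · intro p _ q _ h
    exact ptIdx_injective h
  · intro i hi
    rw [Finset.mem_filter, Finset.mem_range] at hi
    refine ⟨idxPt i, ?_, ptIdx_idxPt hi.1⟩
    rw [Finset.mem_filter]
    refine ⟨Finset.mem_univ _, ?_⟩
    rw [tperm_pow_eq_iff hv, ptIdx_idxPt hi.1]
    exact Nat.eq_of_beq_eq_true hi.2

/-- Fixed points of a power of an element with a conjugate given by a table. -/
theorem card_fixed_of_conj_pow {u y : Equiv.Perm GolayPt} {E : ℕ} (hv : validPerm E = true)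
    (hE : u * y * u⁻¹ = tperm E) (n : ℕ) :
    (Finset.univ.filter fun p => (y ^ n) p = p).card = fixCntPow E n := by
  rw [← card_fixed_pow hv n, ← hE, conj_pow, card_fixed_conj]

theorem imgAt_of_img {E : ℕ} (hv : validPerm E = true) {i j : ℕ} (hi : i < 24) (hj : j < 24)
    (h : tperm E (idxPt i) = idxPt j) : imgAt E i = j := by
  rw [tperm_idxPt hv hi] at h
  have := congrArg ptIdx h
  rwa [ptIdx_idxPt (validPerm_lt hv _ hi), ptIdx_idxPt hj] at this

end Cfsg.Agent.Lib.helper94
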