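/-
Orbit--stabiliser steps for subgroups of `M24` given by Boolean tests on tables (centralisers,
normalisers), and sets of sets all of whose members are fixed by a table permutation.
-/
import Mathlib
import Cfsg.Prelude.Def_Sporadic_a
import Cfsg.Agent.Lib.helper94.M24Pow

set_option autoImplicit false
set_option linter.unusedSectionVars false

namespace Cfsg.Agent.Lib.helper94

open Cfsg
open scoped Pointwise
open Cfsg.Agent.Lib.helper9 (le_card_of_orbit card_le_of_orbit)

theorem conjOK_iff {C X E : ℕ} (hC : validPerm C = true) (hX : validPerm X = true)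
    (hE : validPerm E = true) :
    conjOK C X E = true ↔ tperm C * tperm X = tperm E * tperm C := by
  rw [conjOK, allBelow_iff]
  constructor
  · intro h
    ext p
    rw [Equiv.Perm.mul_apply, Equiv.Perm.mul_apply, tperm_apply hX p,
      tperm_idxPt hC (validPerm_lt hX _ (ptIdx_lt p)), tperm_apply hC p,
      tperm_idxPt hE (validPerm_lt hC _ (ptIdx_lt p))]
    rw [Nat.eq_of_beq_eq_true (h _ (ptIdx_lt p))]
  · intro h i hi
    have h1 := congrArg (fun f : Equiv.Perm GolayPt => ptIdx (f (idxPt i))) h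
    simp only [Equiv.Perm.mul_apply] at h1
    rw [tperm_idxPt hX hi, tperm_idxPt hC (validPerm_lt hX _ hi), tperm_idxPt hC hi,
      tperm_idxPt hE (validPerm_lt hC _ hi),
      ptIdx_idxPt (validPerm_lt hC _ (validPerm_lt hX _ hi)),
      ptIdx_idxPt (validPerm_lt hE _ (validPerm_lt hC _ hi))] at h1
    rw [h1]
    exact Nat.beq_refl _

/-- Certificate for an orbit: for every index `i` of the mask `D` a table with the property
`memT` mapping the index `b` to `i`. -/
def orbOK (memT : ℕ → Bool) (b D : ℕ) (cert : List ℕ) : Bool :=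
  allBelow (fun i => !(D.testBit i) ||
    (forceNat (cert.getD i 0) fun E => validPerm E && memT E && Nat.beq (imgAt E b) i)) 24

theorem orbOK_sound {memT : ℕ → Bool} {b D : ℕ} {cert : List ℕ}
    (h : orbOK memT b D cert = true) (hb : b < 24) (H : Subgroup (Equiv.Perm GolayPt))
    (hH : ∀ E, validPerm E = true → memT E = true → tperm E ∈ H) :
    ∀ q ∈ setOf D, ∃ g ∈ H, g (idxPt b) = q := by
  intro q hq
  rw [mem_setOf] at hq
  rw [orbOK, allBelow_iff] at h
  have h1 := h (ptIdx q) (ptIdx_lt q)
  rw [hq, forceNat_eq] at h1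
  simp only [Bool.not_true, Bool.false_or, Bool.and_eq_true] at h1
  obtain ⟨⟨hv, hm⟩, himg⟩ := h1
  refine ⟨tperm (cert.getD (ptIdx q) 0), hH _ hv hm, ?_⟩
  rw [tperm_idxPt hv hb, Nat.eq_of_beq_eq_true himg, idxPt_ptIdx]

/-- One step of a stabiliser chain with an exact orbit. -/
theorem card_step (H : Subgroup (Equiv.Perm GolayPt)) (p : GolayPt) (D : ℕ)
    (hlow : ∀ q ∈ setOf D, ∃ g ∈ H, g p = q) (hup : ∀ g ∈ H, g p ∈ setOf D) :
    Nat.card H = popc D * Nat.card ↥(H ⊓ MulAction.stabilizer (Equiv.Perm GolayPt) p) := by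
  rw [← card_setOf]
  exact le_antisymm (card_le_of_orbit H p _ hup) (le_card_of_orbit H p _ hlow)

theorem mem_setOf_full (p : GolayPt) : p ∈ setOf 16777215 := by
  rw [mem_setOf]
  have : ∀ i < 24, (16777215 : ℕ).testBit i = true := by decide
  exact this _ (ptIdx_lt p)

/-- Every member of the `j`-th object is fixed: Boolean test against the image family `Y`. -/
def fixAllAt (w X Y j : ℕ) : Bool :=
  allBelow (fun c => Nat.beq (fld Y (w * j + c)) (fld X (w * j + c))) w

theorem fixAllAt_iff {t : ℕ} (hv : validPerm t = true) {w N X : ℕ} (j : ℕ) (hj : j < N) :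
    (∀ u ∈ objS w X j, tperm t • u = u)
      ↔ fixAllAt w X (applyP t (onesN (Nat.mul w N)) X) j = true := by
  have hk : ∀ c < w, w * j + c < Nat.mul w N := by
    intro c hc
    have h1 : w * j + c < w * (j + 1) := by rw [Nat.mul_succ]; omega
    exact lt_of_lt_of_le h1 (Nat.mul_le_mul_left w hj)
  rw [fixAllAt, allBelow_iff]
  constructor
  · intro h c hc
    have h1 := h (setOf (fld X (w * j + c))) (mem_objS.mpr ⟨c, hc, rfl⟩)
    rw [smul_setOf hv] at h1
    rw [fld_applyP hv _ X _ (hk c hc), setOf_injOn (applyP_lt hv _) (fld_lt X _) h1]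
    exact Nat.beq_refl _
  · intro h u hu
    obtain ⟨c, hc, rfl⟩ := mem_objS.mp hu
    have h1 := Nat.eq_of_beq_eq_true (h c hc)
    rw [fld_applyP hv _ X _ (hk c hc)] at h1
    rw [smul_setOf hv, h1]

/-- A set of sets all of whose members are fixed is fixed. -/
theorem smul_eq_of_fixAll {g : Equiv.Perm GolayPt} {S : Finset (Finset GolayPt)}
    (h : ∀ u ∈ S, g • u = u) : g • S = S := by
  have hS : g • S = S.image (fun a => g • a) := rfl
  rw [hS]
  ext u
  rw [Finset.mem_image]
  constructor
  · rintro ⟨v, hv, rfl⟩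
    rw [h v hv]
    exact hv
  · intro hu
    exact ⟨u, hu, h u hu⟩

end Cfsg.Agent.Lib.helper94
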