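/-
Fixed-point sets of table permutations and of their conjugates.
-/
import Mathlib
import Cfsg.Prelude.Def_Sporadic_a
import Cfsg.Agent.Lib.helper94.M24Pow

set_option autoImplicit false

namespace Cfsg.Agent.Lib.helper94

open Cfsg
open scoped Pointwise

/-- The mask `m` is the set of fixed indices of the table `E`. -/
def fixMaskOK (E m : ℕ) : Bool := allBelow (fun i => (Nat.beq (imgAt E i) i) == m.testBit i) 24

theorem fixed_eq_setOf {E m : ℕ} (hv : validPerm E = true) (h : fixMaskOK E m = true) :
    (Finset.univ.filter fun p => tperm E p = p) = setOf m := by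
  ext p
  rw [Finset.mem_filter, mem_setOf, tperm_eq_iff hv]
  have h1 := (allBelow_iff _ _).mp h (ptIdx p) (ptIdx_lt p)
  rw [beq_iff_eq] at h1
  constructor
  · rintro ⟨-, hp⟩
    rw [← h1, hp]
    exact Nat.beq_refl _
  · intro hp
    rw [hp] at h1
    exact ⟨Finset.mem_univ _, Nat.eq_of_beq_eq_true h1⟩

theorem fixed_conj_smul (c x : Equiv.Perm GolayPt) :
    (Finset.univ.filter fun p => (c * x * c⁻¹) p = p)
      = c • (Finset.univ.filter fun p => x p = p) := by
  ext q
  rw [← Finset.inv_smul_mem_iff, Finset.mem_filter, Finset.mem_filter]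
  simp only [Finset.mem_univ, true_and, Equiv.Perm.mul_apply]
  constructor
  · intro h
    show x (c⁻¹ q) = c⁻¹ q
    apply c.injective
    rw [h]
    simp
  · intro h
    have h' : x (c⁻¹ q) = c⁻¹ q := h
    rw [h']
    simp

theorem fpf_conj_of_fixCnt {E : ℕ} (hv : validPerm E = true) (h : fixCnt E = 0)
    (c : Equiv.Perm GolayPt) : ∀ p, (c * tperm E * c⁻¹) p ≠ p := by
  intro p hp
  have h1 : (Finset.univ.filter fun p => (c * tperm E * c⁻¹) p = p).card = 0 := by
    rw [card_fixed_conj, card_fixed_tperm hv, h]
  rw [Finset.card_eq_zero, Finset.filter_eq_empty_iff] at h1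
  exact h1 (Finset.mem_univ p) hp

/-- Inclusion of the sets of two masks. -/
theorem setOf_subset_iff {a b : ℕ} (ha : a < 2 ^ 24) :
    setOf a ⊆ setOf b ↔ Nat.land a b = a := by
  constructor
  · intro h
    have h1 : setOf (a &&& b) = setOf a := by
      rw [setOf_and]
      exact Finset.inter_eq_left.mpr h
    exact setOf_injOn (lt_of_le_of_lt Nat.and_le_left ha) ha h1
  · intro h
    have h1 : setOf (a &&& b) = setOf a := by
      show setOf (Nat.land a b) = setOf a
      rw [h]
    rw [setOf_and] at h1
    exact Finset.inter_eq_left.mp h1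

end Cfsg.Agent.Lib.helper94
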