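import Mathlib

set_option autoImplicit false

/-!
# A bilinear product given by a tensor of structure constants, and the matrices preserving it
(helper94; shared definitions for S2518)
-/

namespace Cfsg.Agent.Lib.helper94

/-- the bilinear product on `Fin n → K` with structure constants `T` -/
def bilT {n : ℕ} {K : Type*} [CommRing K] (T : Fin n → Fin n → Fin n → K) (u v : Fin n → K) :
    Fin n → K :=
  fun i => ∑ c, ∑ d, u c * v d * T c d i

/-- a matrix preserves the product `bilT T` -/
def PresT {n : ℕ} {K : Type*} [CommRing K] (T : Fin n → Fin n → Fin n → K)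
    (M : Matrix (Fin n) (Fin n) K) : Prop :=
  ∀ u v : Fin n → K, bilT T (M.mulVec u) (M.mulVec v) = M.mulVec (bilT T u v)

/-- the invertible matrices preserving the product `bilT T` -/
def presSubgroup {n : ℕ} {K : Type*} [CommRing K] (T : Fin n → Fin n → Fin n → K) :
    Subgroup (GL (Fin n) K) where
  carrier := {M | PresT T (M : Matrix (Fin n) (Fin n) K)}
  mul_mem' := by
    intro a b ha hb u v
    show bilT T (((a : Matrix (Fin n) (Fin n) K) * (b : Matrix (Fin n) (Fin n) K)).mulVec u)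
      (((a : Matrix (Fin n) (Fin n) K) * (b : Matrix (Fin n) (Fin n) K)).mulVec v) = _
    rw [← Matrix.mulVec_mulVec, ← Matrix.mulVec_mulVec, ha, hb, Matrix.mulVec_mulVec]
    rfl
  one_mem' := by
    intro u v
    show bilT T ((1 : Matrix (Fin n) (Fin n) K).mulVec u)
      ((1 : Matrix (Fin n) (Fin n) K).mulVec v) = (1 : Matrix (Fin n) (Fin n) K).mulVec _
    rw [Matrix.one_mulVec, Matrix.one_mulVec, Matrix.one_mulVec]
  inv_mem' := by
    intro a ha u v
    have h1 : (a : Matrix (Fin n) (Fin n) K) * ((a⁻¹ : GL (Fin n) K) : Matrix (Fin n) (Fin n) K)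
        = 1 := by
      rw [← Matrix.GeneralLinearGroup.coe_mul, mul_inv_cancel]
      rfl
    have h2 : ((a⁻¹ : GL (Fin n) K) : Matrix (Fin n) (Fin n) K) * (a : Matrix (Fin n) (Fin n) K)
        = 1 := by
      rw [← Matrix.GeneralLinearGroup.coe_mul, inv_mul_cancel]
      rfl
    have h3 := ha (((a⁻¹ : GL (Fin n) K) : Matrix (Fin n) (Fin n) K).mulVec u)
      (((a⁻¹ : GL (Fin n) K) : Matrix (Fin n) (Fin n) K).mulVec v)
    rw [Matrix.mulVec_mulVec, Matrix.mulVec_mulVec, h1, Matrix.one_mulVec, Matrix.one_mulVec] at h3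
    show bilT T (((a⁻¹ : GL (Fin n) K) : Matrix (Fin n) (Fin n) K).mulVec u)
      (((a⁻¹ : GL (Fin n) K) : Matrix (Fin n) (Fin n) K).mulVec v)
        = ((a⁻¹ : GL (Fin n) K) : Matrix (Fin n) (Fin n) K).mulVec (bilT T u v)
    rw [h3, Matrix.mulVec_mulVec, h2, Matrix.one_mulVec]

theorem mem_presSubgroup {n : ℕ} {K : Type*} [CommRing K] (T : Fin n → Fin n → Fin n → K)
    (M : GL (Fin n) K) : M ∈ presSubgroup T ↔ PresT T (M : Matrix (Fin n) (Fin n) K) := Iff.rfl

end Cfsg.Agent.Lib.helper94
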