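/-
Objects fixed by every member of a list of table permutations, products of tables, and the
transfer of "self-normalising" between conjugate Sylow subgroups.
-/
import Mathlib
import Cfsg.Prelude.Def_Sporadic_a
import Cfsg.Agent.Lib.helper94.M24Cent

set_option autoImplicit false
set_option linter.unusedSectionVars false

namespace Cfsg.Agent.Lib.helper94

open Cfsg
open scoped Pointwise

/-- Product test on tables: `A * B = C`. -/
def mulOK (A B C : ℕ) : Bool :=
  allBelow (fun i => Nat.beq (imgAt A (imgAt B i)) (imgAt C i)) 24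

theorem tperm_mul_of_mulOK {A B C : ℕ} (hA : validPerm A = true) (hB : validPerm B = true)
    (hC : validPerm C = true) (h : mulOK A B C = true) : tperm A * tperm B = tperm C := by
  rw [mulOK, allBelow_iff] at h
  apply Equiv.ext
  intro p
  rw [Equiv.Perm.mul_apply, tperm_apply hB p, tperm_idxPt hA (validPerm_lt hB _ (ptIdx_lt p)),
    tperm_apply hC p, Nat.eq_of_beq_eq_true (h _ (ptIdx_lt p))]

theorem tperm_eq_one_of_fixCnt {E : ℕ} (hv : validPerm E = true) (h : fixCnt E = 24) :
    tperm E = 1 := by
  have h1 := card_fixed_tperm hv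
  rw [h, ← card_golayPt, ← Finset.card_univ, Finset.card_filter_eq_iff] at h1
  apply Equiv.ext
  intro p
  exact h1 p (Finset.mem_univ p)

theorem idxPt_ne_of_ne {i j : ℕ} (hi : i < 24) (hj : j < 24) (h : i ≠ j) : idxPt i ≠ idxPt j := by
  intro he
  have := congrArg ptIdx he
  rw [ptIdx_idxPt hi, ptIdx_idxPt hj] at this
  exact h this

/-- A family of sets given by a list of masks is fixed exactly when the list of image masks is
the same list up to order. -/
theorem smul_objSetL_eq_iff {t : ℕ} (hv : validPerm t = true) {l : List ℕ}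
    (hl : ∀ x ∈ l, x < 2 ^ 24) :
    tperm t • objSetL l = objSetL l ↔ seteq (l.map (applyP t 1)) l = true := by
  constructor
  · intro h
    rw [smul_objSetL hv] at h
    refine (seteq_iff _ _).mpr (mem_of_objSetL_eq ?_ hl h)
    intro x hx
    obtain ⟨y, -, rfl⟩ := List.mem_map.mp hx
    exact applyP_lt hv y
  · exact smul_objSetL_eq_of hv

/-- Boolean certificate: the only set of the packed family `X` fixed by all the tables `ts` is
the one with index `j0`. -/
def uniqFixPts (N X : ℕ) (ts : List ℕ) (j0 : ℕ) : Bool :=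
  forceNat (onesN N) fun ones => withImgs ones X ts fun Ys =>
    allBelow (fun j => !(Ys.all fun Y => Nat.beq (fld Y j) (fld X j)) || Nat.beq j j0) N

theorem uniq_fixed_pts (objs : Set (Finset GolayPt)) (N X : ℕ)
    (hcomp : ∀ T ∈ objs, ∃ j < N, T = setOf (fld X j)) (ts : List ℕ)
    (hts : ∀ t ∈ ts, validPerm t = true) (j0 : ℕ) (h : uniqFixPts N X ts j0 = true) :
    ∀ T ∈ objs, (∀ t ∈ ts, tperm t • T = T) → T = setOf (fld X j0) := by
  intro T hT hfix
  obtain ⟨j, hj, rfl⟩ := hcomp T hT
  rw [uniqFixPts, forceNat_eq, withImgs_eq, allBelow_iff] at h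
  have h1 := h j hj
  have h2 : ((ts.map fun t => applyP t (onesN N) X).all
      fun Y => Nat.beq (fld Y j) (fld X j)) = true := by
    rw [List.all_eq_true]
    intro Y hY
    obtain ⟨t, ht, rfl⟩ := List.mem_map.mp hY
    have hv := hts t ht
    have h3 := hfix t ht
    rw [smul_setOf hv] at h3
    rw [fld_applyP hv N X j hj, setOf_injOn (applyP_lt hv _) (fld_lt X j) h3]
    exact Nat.beq_refl _
  rw [h2] at h1
  simp only [Bool.not_true, Bool.false_or] at h1
  rw [Nat.eq_of_beq_eq_true h1]

/-- Boolean certificate: the only object of the packed family `X` of sets of sets fixed by all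
the tables `ts` is the one with index `j0`. -/
def uniqFixSets (w N X : ℕ) (ts : List ℕ) (j0 : ℕ) : Bool :=
  forceNat (onesN (Nat.mul w N)) fun ones => withImgs ones X ts fun Ys =>
    allBelow (fun j => !(Ys.all fun Y => fixAt w X Y j) || Nat.beq j j0) N

theorem uniq_fixed_sets (objs : Set (Finset (Finset GolayPt))) (w N X : ℕ)
    (hcomp : ∀ T ∈ objs, ∃ j < N, T = objS w X j) (ts : List ℕ)
    (hts : ∀ t ∈ ts, validPerm t = true) (j0 : ℕ) (h : uniqFixSets w N X ts j0 = true) :
    ∀ T ∈ objs, (∀ t ∈ ts, tperm t • T = T) → T = objS w X j0 := by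
  intro T hT hfix
  obtain ⟨j, hj, rfl⟩ := hcomp T hT
  rw [uniqFixSets, forceNat_eq, withImgs_eq, allBelow_iff] at h
  have h1 := h j hj
  have h2 : ((ts.map fun t => applyP t (onesN (Nat.mul w N)) X).all
      fun Y => fixAt w X Y j) = true := by
    rw [List.all_eq_true]
    intro Y hY
    obtain ⟨t, ht, rfl⟩ := List.mem_map.mp hY
    exact (fixAt_iff (hts t ht) j hj).mp (hfix t ht)
  rw [h2] at h1
  simp only [Bool.not_true, Bool.false_or] at h1
  rw [Nat.eq_of_beq_eq_true h1]

/-- If one Sylow `p`-subgroup is self-normalising, all are. -/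
theorem sylow_normalizer_eq_of_one {G : Type*} [Group G] [Finite G] {p : ℕ} [Fact p.Prime]
    (S₀ : Sylow p G)
    (h : Subgroup.normalizer ((S₀ : Subgroup G) : Set G) = (S₀ : Subgroup G)) (S : Sylow p G) :
    Subgroup.normalizer ((S : Subgroup G) : Set G) = (S : Subgroup G) := by
  obtain ⟨g, rfl⟩ := MulAction.exists_smul_eq G S₀ S
  rw [Sylow.coe_subgroup_smul, Subgroup.pointwise_smul_def]
  have := Subgroup.map_equiv_normalizer_eq (S₀ : Subgroup G) (MulAut.conj g)
  rw [h] at this
  exact this.symm

theorem factorization_card_M24 : (244823040 : ℕ).factorization 2 = 10 := by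
  have h : (244823040 : ℕ) = 2 ^ 10 * 239085 := by norm_num
  rw [h, Nat.factorization_mul (by norm_num) (by norm_num), Nat.Prime.factorization_pow
    Nat.prime_two]
  have h2 : (239085 : ℕ).factorization 2 = 0 :=
    Nat.factorization_eq_zero_of_not_dvd (by norm_num)
  simp [h2]

end Cfsg.Agent.Lib.helper94
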