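/-
Computational model of the length-24 code `Cfsg.golayCode`: points are indexed by `0, …, 23`
(residue `x` ↦ `x`, the extra point ↦ `23`), subsets of points are encoded as bit masks (natural
numbers below `2 ^ 24`), and membership in the code is decided by twelve parity checks.
-/
import Mathlib
import Cfsg.Prelude.Def_Sporadic_a
import Cfsg.Agent.Lib.helper94.AbstractGolay

set_option autoImplicit false
set_option linter.unusedSectionVars false

namespace Cfsg.Agent.Lib.helper94

open Cfsg

/-! ### Points and indices -/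

/-- Index of a point: the residue `x` has index `x`, the extra point has index `23`. -/
def ptIdx : GolayPt → ℕ
  | none => 23
  | some x => x.val

/-- The point with a given index. -/
def idxPt (i : ℕ) : GolayPt := if i < 23 then some ((i : ℕ) : ZMod 23) else none

theorem ptIdx_lt (p : GolayPt) : ptIdx p < 24 := by
  cases p with
  | none => simp [ptIdx]
  | some x =>
    have : x.val < 23 := ZMod.val_lt x
    simp only [ptIdx]; omega

theorem idxPt_ptIdx (p : GolayPt) : idxPt (ptIdx p) = p := by
  cases p with
  | none => simp [ptIdx, idxPt]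
  | some x =>
    have : x.val < 23 := ZMod.val_lt x
    simp [ptIdx, idxPt, this]

theorem ptIdx_idxPt {i : ℕ} (h : i < 24) : ptIdx (idxPt i) = i := by
  by_cases h23 : i < 23
  · simp [idxPt, h23, ptIdx, ZMod.val_natCast, Nat.mod_eq_of_lt h23]
  · simp [idxPt, h23, ptIdx]; omega

theorem ptIdx_injective : Function.Injective ptIdx := by
  intro p q h
  rw [← idxPt_ptIdx p, ← idxPt_ptIdx q, h]

/-- The points correspond to the indices `0, …, 23`. -/
def ptEquiv : GolayPt ≃ Fin 24 where
  toFun p := ⟨ptIdx p, ptIdx_lt p⟩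
  invFun i := idxPt i
  left_inv p := idxPt_ptIdx p
  right_inv i := Fin.ext (ptIdx_idxPt i.2)

theorem card_golayPt : Fintype.card GolayPt = 24 := by
  rw [Fintype.card_congr ptEquiv, Fintype.card_fin]

theorem sum_golayPt {M : Type*} [AddCommMonoid M] (f : GolayPt → M) :
    ∑ p, f p = ∑ k ∈ Finset.range 24, f (idxPt k) := by
  rw [← Fin.sum_univ_eq_sum_range (fun k => f (idxPt k)) 24]
  exact Fintype.sum_equiv ptEquiv _ _ (fun p => by simp [ptEquiv, idxPt_ptIdx])

/-! ### Masks, sets and words -/

/-- The set of points encoded by a mask. -/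
def setOf (m : ℕ) : Finset GolayPt := Finset.univ.filter fun p => m.testBit (ptIdx p)

/-- The binary word encoded by a mask. -/
def wordOf (m : ℕ) : GolayPt → ZMod 2 := fun p => if m.testBit (ptIdx p) then 1 else 0

theorem mem_setOf {m : ℕ} {p : GolayPt} : p ∈ setOf m ↔ m.testBit (ptIdx p) = true := by
  simp [setOf]

theorem wordOf_eq_bword (m : ℕ) : wordOf m = bword (setOf m) := by
  funext p
  simp [wordOf, bword, mem_setOf]

theorem bsupp_wordOf (m : ℕ) : bsupp (wordOf m) = setOf m := by
  rw [wordOf_eq_bword, bsupp_bword]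

theorem setOf_and (a b : ℕ) : setOf (a &&& b) = setOf a ∩ setOf b := by
  ext p; simp [mem_setOf, Nat.testBit_and]

theorem setOf_or (a b : ℕ) : setOf (a ||| b) = setOf a ∪ setOf b := by
  ext p; simp [mem_setOf, Nat.testBit_or]

theorem setOf_xor (a b : ℕ) : setOf (a ^^^ b) = symmDiff (setOf a) (setOf b) := by
  ext p
  simp only [mem_setOf, Nat.testBit_xor, Finset.mem_symmDiff]
  cases a.testBit (ptIdx p) <;> cases b.testBit (ptIdx p) <;> simp

theorem wordOf_xor (a b : ℕ) : wordOf (a ^^^ b) = wordOf a + wordOf b := by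
  funext p
  simp only [wordOf, Nat.testBit_xor, Pi.add_apply]
  cases a.testBit (ptIdx p) <;> cases b.testBit (ptIdx p) <;> decide

theorem wordOf_zero : wordOf 0 = 0 := by
  funext p; simp [wordOf]

theorem setOf_zero : setOf 0 = ∅ := by
  ext p; simp [mem_setOf]

/-- The mask of a set of points. -/
def maskOf (s : Finset GolayPt) : ℕ := Nat.ofBits fun i : Fin 24 => decide (idxPt i ∈ s)

theorem testBit_maskOf (s : Finset GolayPt) (i : ℕ) :
    (maskOf s).testBit i = decide (i < 24 ∧ idxPt i ∈ s) := by
  rw [maskOf, Nat.testBit_ofBits]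
  by_cases h : i < 24
  · simp [h]
  · simp [h]

theorem setOf_maskOf (s : Finset GolayPt) : setOf (maskOf s) = s := by
  ext p
  rw [mem_setOf, testBit_maskOf]
  simp [ptIdx_lt, idxPt_ptIdx]

theorem maskOf_lt (s : Finset GolayPt) : maskOf s < 2 ^ 24 := Nat.ofBits_lt_two_pow _

theorem setOf_injOn {a b : ℕ} (ha : a < 2 ^ 24) (hb : b < 2 ^ 24) (h : setOf a = setOf b) : a = b := by
  apply Nat.eq_of_testBit_eq
  intro i
  by_cases hi : i < 24
  · have := congrArg (fun s => decide (idxPt i ∈ s)) h
    simp only [mem_setOf, ptIdx_idxPt hi] at this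
    simpa using this
  · have h1 : a.testBit i = false := Nat.testBit_lt_two_pow (lt_of_lt_of_le ha (Nat.pow_le_pow_right (by omega) (by omega)))
    have h2 : b.testBit i = false := Nat.testBit_lt_two_pow (lt_of_lt_of_le hb (Nat.pow_le_pow_right (by omega) (by omega)))
    rw [h1, h2]

theorem maskOf_setOf {a : ℕ} (ha : a < 2 ^ 24) : maskOf (setOf a) = a :=
  setOf_injOn (maskOf_lt _) ha (setOf_maskOf _)

/-! ### Population count -/

/-- Number of set bits among the lowest `n` bits. -/
def popcAux : ℕ → ℕ → ℕ
  | 0, _ => 0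
  | n + 1, m => popcAux n m + Nat.land (Nat.shiftRight m n) 1

/-- Packed table of the number of set bits of the bytes `0, …, 255` (4 bits per entry). -/
def pc8Table : ℕ := 95125173855764218123276304889944061997689682402263585766959741291920687686033329201817409157123347502415384089435969498586180241031507595463600295898153685276653211633572815512294064538494957912327413386667662218713394765509704508661031522276467630197481635010039778342554499416459730172574551513689147646224

/-- Number of set bits of a byte, by table lookup. -/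
def pc8 (b : ℕ) : ℕ := Nat.land (Nat.shiftRight pc8Table (Nat.mul 4 b)) 15

/-- Number of set bits among the lowest 24 bits (three table lookups). -/
def popc (m : ℕ) : ℕ :=
  Nat.add (Nat.add (pc8 (Nat.land m 255)) (pc8 (Nat.land (Nat.shiftRight m 8) 255)))
    (pc8 (Nat.land (Nat.shiftRight m 16) 255))

theorem land_shiftRight_one (m n : ℕ) :
    Nat.land (Nat.shiftRight m n) 1 = if m.testBit n then 1 else 0 := by
  show (m >>> n) &&& 1 = _
  rw [Nat.testBit, Nat.and_comm]
  by_cases h : 1 &&& (m >>> n) = 0
  · simp [h]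
  · have : 1 &&& (m >>> n) = 1 := by
      have := Nat.and_le_left (n := 1) (m := m >>> n)
      omega
    simp [this]

theorem popcAux_eq (n m : ℕ) :
    popcAux n m = ((Finset.range n).filter fun i => m.testBit i).card := by
  induction n with
  | zero => simp [popcAux]
  | succ n ih =>
    rw [popcAux, ih, land_shiftRight_one, Finset.range_add_one, Finset.filter_insert]
    by_cases h : m.testBit n
    · simp [h]
    · simp [h]

set_option maxRecDepth 10000 in
theorem pc8_eq : ∀ b < 256, pc8 b = popcAux 8 b := by decide +kernel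

theorem popcAux_add (a b m : ℕ) : popcAux (a + b) m = popcAux a m + popcAux b (m >>> a) := by
  induction b with
  | zero => simp [popcAux]
  | succ b ih =>
    rw [← Nat.add_assoc, popcAux, ih, popcAux, Nat.add_assoc]
    congr 2
    show (m >>> (a + b)) &&& 1 = ((m >>> a) >>> b) &&& 1
    rw [Nat.shiftRight_add]

theorem popcAux_land (m : ℕ) : popcAux 8 (m &&& 255) = popcAux 8 m := by
  rw [popcAux_eq, popcAux_eq]
  congr 1
  ext i
  simp only [Finset.mem_filter, Finset.mem_range, and_congr_right_iff]
  intro hi
  rw [Nat.testBit_and, show (255 : ℕ) = 2 ^ 8 - 1 from by norm_num, Nat.testBit_two_pow_sub_one]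
  simp [hi]

theorem popc_eq (m : ℕ) : popc m = popcAux 24 m := by
  have h1 : popc m = pc8 (m &&& 255) + pc8 ((m >>> 8) &&& 255) + pc8 ((m >>> 16) &&& 255) := rfl
  have hb : ∀ x : ℕ, x &&& 255 < 256 := fun x => by
    have := Nat.and_le_right (n := x) (m := 255)
    omega
  rw [h1, pc8_eq _ (hb _), pc8_eq _ (hb _), pc8_eq _ (hb _), popcAux_land, popcAux_land, popcAux_land,
    show (24 : ℕ) = 8 + (8 + 8) from rfl, popcAux_add, popcAux_add, ← Nat.shiftRight_add, Nat.add_assoc]

theorem card_setOf (m : ℕ) : (setOf m).card = popc m := by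
  rw [popc_eq, popcAux_eq]
  refine Finset.card_bij (fun p _ => ptIdx p) ?_ ?_ ?_
  · intro p hp
    rw [mem_setOf] at hp
    simp [ptIdx_lt, hp]
  · intro p _ q _ h
    exact ptIdx_injective h
  · intro i hi
    simp only [Finset.mem_filter, Finset.mem_range] at hi
    refine ⟨idxPt i, ?_, ptIdx_idxPt hi.1⟩
    rw [mem_setOf, ptIdx_idxPt hi.1]; exact hi.2

theorem hammingNorm_wordOf (m : ℕ) : hammingNorm (wordOf m) = popc m := by
  rw [hammingNorm_eq_card_bsupp, bsupp_wordOf, card_setOf]


/-! ### The code: generators and parity checks -/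

/-- The twelve systematic generators `g_j` (`j < 12`), packed in 24-bit fields. -/
def gPacked : ℕ := 442260735586854603400310301966068718139105568065225220732275176312862510561626593644545

/-- The twelve parity checks `c_i` (`i < 12`), packed in 24-bit fields. -/
def cPacked : ℕ := 248756156429229880086003834038450292976644127430141182300861190516141820408007927796895

/-- The `j`-th systematic generator: its bits `0, …, 11` are those of `2 ^ j`. -/
def gMask (j : ℕ) : ℕ := Nat.land (Nat.shiftRight gPacked (Nat.mul 24 j)) 16777215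

/-- The `i`-th parity check: its bits `12, …, 23` are those of `2 ^ (12 + i)`. -/
def cMask (i : ℕ) : ℕ := Nat.land (Nat.shiftRight cPacked (Nat.mul 24 i)) 16777215

/-- The mask of `qrWord t` (`t < 23`): the squares modulo 23 translated by `t`. -/
def qMask (t : ℕ) : ℕ :=
  Nat.land (Nat.lor (Nat.shiftLeft 340831 t) (Nat.shiftRight 340831 (23 - t))) 8388607

/-- The masks of the 24 spanning words of the code: `qrWord t` for `t < 23`, and the all-ones word. -/
def genMask (t : ℕ) : ℕ := if t < 23 then qMask t else 16777215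

/-- The parity checks `c_i`, `i < n`, hold for the mask `m`. -/
def checksAux : ℕ → ℕ → Bool
  | 0, _ => true
  | n + 1, m => (popc (Nat.land m (cMask n)) % 2 == 0) && checksAux n m

/-- The mask `m` satisfies the twelve parity checks. -/
def isCode (m : ℕ) : Bool := checksAux 12 m

theorem checksAux_iff (n m : ℕ) :
    checksAux n m = true ↔ ∀ i < n, popc (m &&& cMask i) % 2 = 0 := by
  induction n with
  | zero => simp [checksAux]
  | succ n ih =>
    rw [checksAux, Bool.and_eq_true, ih]
    constructor
    · rintro ⟨h1, h2⟩ i hi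
      rcases Nat.lt_succ_iff_lt_or_eq.mp hi with h | rfl
      · exact h2 i h
      · simpa using h1
    · intro h
      exact ⟨by simpa using h n (Nat.lt_succ_self n), fun i hi => h i (Nat.lt_succ_of_lt hi)⟩

theorem isCode_iff (m : ℕ) : isCode m = true ↔ ∀ i < 12, popc (m &&& cMask i) % 2 = 0 :=
  checksAux_iff 12 m

set_option maxRecDepth 10000 in
theorem gMask_check : ∀ j < 12, ∀ i < 12, popc (gMask j &&& cMask i) % 2 = 0 := by decide +kernel

set_option maxRecDepth 10000 in
theorem gMask_testBit : ∀ j < 12, ∀ k < 12, (gMask j).testBit k = decide (j = k) := by decide +kernel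

set_option maxRecDepth 10000 in
theorem cMask_testBit : ∀ i < 12, ∀ k < 12, (cMask i).testBit (12 + k) = decide (k = i) := by
  decide +kernel

set_option maxRecDepth 10000 in
theorem genMask_check : ∀ t < 24, ∀ i < 12, popc (genMask t &&& cMask i) % 2 = 0 := by decide +kernel

set_option maxRecDepth 10000 in
theorem qrWord_eq : ∀ t : ZMod 23, ∀ p : GolayPt, qrWord t p = wordOf (qMask t.val) p := by
  decide +kernel


/-! ### Dot products and the membership criterion -/

/-- The standard dot product of binary words. -/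
def dot (v w : GolayPt → ZMod 2) : ZMod 2 := ∑ p, v p * w p

theorem dot_add_left (u v w : GolayPt → ZMod 2) : dot (u + v) w = dot u w + dot v w := by
  simp [dot, add_mul, Finset.sum_add_distrib]

theorem dot_smul_left (a : ZMod 2) (u w : GolayPt → ZMod 2) : dot (a • u) w = a * dot u w := by
  simp only [dot, Pi.smul_apply, smul_eq_mul, mul_assoc, Finset.mul_sum]

theorem dot_zero_left (w : GolayPt → ZMod 2) : dot 0 w = 0 := by simp [dot]

theorem dot_sub_left (u v w : GolayPt → ZMod 2) : dot (u - v) w = dot u w - dot v w := by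
  simp [dot, sub_mul, Finset.sum_sub_distrib]

theorem dot_sum_left {ι : Type*} (s : Finset ι) (f : ι → GolayPt → ZMod 2) (w : GolayPt → ZMod 2) :
    dot (∑ j ∈ s, f j) w = ∑ j ∈ s, dot (f j) w := by
  classical
  induction s using Finset.induction_on with
  | empty => simp [dot_zero_left]
  | insert a s ha ih => rw [Finset.sum_insert ha, Finset.sum_insert ha, dot_add_left, ih]

theorem dot_wordOf (a b : ℕ) : dot (wordOf a) (wordOf b) = ((popc (a &&& b) : ℕ) : ZMod 2) := by
  rw [dot, dot_eq_card_inter, bsupp_wordOf, bsupp_wordOf, ← setOf_and, card_setOf]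

theorem natCast_zmod2_eq_zero (n : ℕ) : ((n : ℕ) : ZMod 2) = 0 ↔ n % 2 = 0 := by
  rw [ZMod.natCast_eq_zero_iff, Nat.dvd_iff_mod_eq_zero]

theorem dot_wordOf_eq_zero (a b : ℕ) : dot (wordOf a) (wordOf b) = 0 ↔ popc (a &&& b) % 2 = 0 := by
  rw [dot_wordOf, natCast_zmod2_eq_zero]

theorem one_eq_wordOf : (1 : GolayPt → ZMod 2) = wordOf 16777215 := by
  funext p
  have h : (16777215 : ℕ).testBit (ptIdx p) = true := by
    rw [show (16777215 : ℕ) = 2 ^ 24 - 1 from by norm_num, Nat.testBit_two_pow_sub_one]
    simpa using ptIdx_lt p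
  simp only [wordOf, h, if_true, Pi.one_apply]

/-- Each of the spanning words of `golayCode` is the word of a `genMask`. -/
theorem gen_eq_wordOf (w : GolayPt → ZMod 2) (hw : w ∈ Set.range qrWord ∪ {1}) :
    ∃ t < 24, w = wordOf (genMask t) := by
  rcases hw with ⟨t, rfl⟩ | hw
  · refine ⟨t.val, lt_trans (ZMod.val_lt t) (by norm_num), ?_⟩
    funext p
    rw [genMask, if_pos (ZMod.val_lt t)]
    exact qrWord_eq t p
  · refine ⟨23, by norm_num, ?_⟩
    rw [Set.mem_singleton_iff] at hw
    rw [hw, one_eq_wordOf]; rfl

theorem wordOf_genMask_mem (t : ℕ) (_ht : t < 24) : wordOf (genMask t) ∈ golayCode := by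
  apply Submodule.subset_span
  by_cases h : t < 23
  · left
    refine ⟨(t : ZMod 23), ?_⟩
    funext p
    rw [qrWord_eq, genMask, if_pos h, ZMod.val_natCast, Nat.mod_eq_of_lt h]
  · right
    rw [Set.mem_singleton_iff, genMask, if_neg h, one_eq_wordOf]

theorem dot_cMask_of_mem_span (i : ℕ) (hi : i < 12) (w : GolayPt → ZMod 2)
    (hw : w ∈ Submodule.span (ZMod 2) (Set.range qrWord ∪ {1})) :
    dot w (wordOf (cMask i)) = 0 := by
  induction hw using Submodule.span_induction with
  | mem x hx =>
    obtain ⟨t, ht, rfl⟩ := gen_eq_wordOf x hx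
    rw [dot_wordOf_eq_zero]
    exact genMask_check t ht i hi
  | zero => exact dot_zero_left _
  | add x y _ _ hx hy =>
    rw [dot_add_left, hx, hy, add_zero]
  | smul a x _ hx =>
    rw [dot_smul_left, hx, mul_zero]

/-- Code words satisfy the parity checks. -/
theorem dot_cMask_of_mem {w : GolayPt → ZMod 2} (hw : w ∈ golayCode) (i : ℕ) (hi : i < 12) :
    dot w (wordOf (cMask i)) = 0 :=
  dot_cMask_of_mem_span i hi w hw

/-- XOR of the spanning masks with indices in a list. -/
def comb : List ℕ → ℕ
  | [] => 0
  | t :: ts => Nat.xor (genMask t) (comb ts)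

theorem wordOf_comb_mem (ts : List ℕ) (h : ∀ t ∈ ts, t < 24) : wordOf (comb ts) ∈ golayCode := by
  induction ts with
  | nil => rw [comb, wordOf_zero]; exact Submodule.zero_mem _
  | cons t ts ih =>
    have h1 : comb (t :: ts) = genMask t ^^^ comb ts := rfl
    rw [h1, wordOf_xor]
    exact Submodule.add_mem _ (wordOf_genMask_mem t (h t (by simp)))
      (ih fun t' ht' => h t' (by simp [ht']))

/-- How each systematic generator is a sum of spanning words. -/
def combList : List (List ℕ) :=
  [[0, 3, 5, 7, 9, 10, 23], [3, 4, 8], [0, 3, 4, 7, 10, 23], [3, 4, 5, 6, 8, 10],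
   [1, 3, 4, 5, 7, 9, 10, 23], [0, 1, 2, 4, 7, 8, 9, 10, 23], [0, 2, 3, 6, 7, 8, 10, 23],
   [4, 6, 7, 8, 9, 10], [0, 1, 6, 8, 10], [0, 2, 5, 6], [0, 1, 5, 6, 9, 10, 23],
   [0, 2, 5, 9, 10, 23]]

set_option maxRecDepth 10000 in
theorem gMask_eq_comb : ∀ j < 12, gMask j = comb (combList.getD j []) ∧
    ∀ t ∈ combList.getD j [], t < 24 := by decide +kernel

theorem wordOf_gMask_mem (j : ℕ) (hj : j < 12) : wordOf (gMask j) ∈ golayCode := by
  obtain ⟨h1, h2⟩ := gMask_eq_comb j hj
  rw [h1]
  exact wordOf_comb_mem _ h2

theorem wordOf_gMask_apply (j k : ℕ) (hj : j < 12) (hk : k < 12) :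
    wordOf (gMask j) (idxPt k) = if j = k then 1 else 0 := by
  rw [wordOf, ptIdx_idxPt (by omega), gMask_testBit j hj k hk]
  simp

theorem wordOf_cMask_apply (i k : ℕ) (hi : i < 12) (hk : k < 12) :
    wordOf (cMask i) (idxPt (12 + k)) = if k = i then 1 else 0 := by
  rw [wordOf, ptIdx_idxPt (by omega), cMask_testBit i hi k hk]
  simp

/-- A word orthogonal to the twelve checks is the combination of the systematic generators given
by its first twelve coordinates. -/
theorem eq_sum_of_checks (w : GolayPt → ZMod 2)
    (hw : ∀ i < 12, dot w (wordOf (cMask i)) = 0) :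
    w = ∑ j ∈ Finset.range 12, w (idxPt j) • wordOf (gMask j) := by
  set w' := w - ∑ j ∈ Finset.range 12, w (idxPt j) • wordOf (gMask j) with hw'
  -- w' is orthogonal to the checks
  have h1 : ∀ i < 12, dot w' (wordOf (cMask i)) = 0 := by
    intro i hi
    rw [hw', dot_sub_left, hw i hi, dot_sum_left, zero_sub, neg_eq_zero]
    apply Finset.sum_eq_zero
    intro j hj
    rw [Finset.mem_range] at hj
    rw [dot_smul_left, (dot_wordOf_eq_zero _ _).mpr (gMask_check j hj i hi), mul_zero]
  -- w' vanishes on the first twelve coordinates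
  have h2 : ∀ k < 12, w' (idxPt k) = 0 := by
    intro k hk
    rw [hw', Pi.sub_apply, Finset.sum_apply]
    have : ∀ j ∈ Finset.range 12, (w (idxPt j) • wordOf (gMask j)) (idxPt k)
        = if j = k then w (idxPt k) else 0 := by
      intro j hj
      rw [Finset.mem_range] at hj
      rw [Pi.smul_apply, wordOf_gMask_apply j k hj hk, smul_eq_mul]
      by_cases hjk : j = k
      · simp [hjk]
      · simp [hjk]
    rw [Finset.sum_congr rfl this, Finset.sum_ite_eq' (Finset.range 12) k, if_pos (Finset.mem_range.mpr hk),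
      sub_self]
  -- hence on the last twelve coordinates
  have h3 : ∀ i < 12, w' (idxPt (12 + i)) = 0 := by
    intro i hi
    have := h1 i hi
    rw [dot, sum_golayPt] at this
    rw [show (24 : ℕ) = 12 + 12 from rfl, Finset.sum_range_add] at this
    have hfirst : ∑ k ∈ Finset.range 12, w' (idxPt k) * wordOf (cMask i) (idxPt k) = 0 := by
      apply Finset.sum_eq_zero
      intro k hk
      rw [Finset.mem_range] at hk
      rw [h2 k hk, zero_mul]
    rw [hfirst, zero_add] at this
    have hsecond : ∀ k ∈ Finset.range 12, w' (idxPt (12 + k)) * wordOf (cMask i) (idxPt (12 + k))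
        = if k = i then w' (idxPt (12 + i)) else 0 := by
      intro k hk
      rw [Finset.mem_range] at hk
      rw [wordOf_cMask_apply i k hi hk]
      by_cases hki : k = i
      · simp [hki]
      · simp [hki]
    rw [Finset.sum_congr rfl hsecond, Finset.sum_ite_eq' (Finset.range 12) i,
      if_pos (Finset.mem_range.mpr hi)] at this
    exact this
  have h4 : w' = 0 := by
    funext p
    have hp := ptIdx_lt p
    rw [← idxPt_ptIdx p]
    by_cases h12 : ptIdx p < 12
    · exact h2 _ h12
    · have := h3 (ptIdx p - 12) (by omega)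
      rwa [show 12 + (ptIdx p - 12) = ptIdx p by omega] at this
  rw [hw', sub_eq_zero] at h4
  exact h4

/-- Membership in `golayCode` is decided by the twelve parity checks. -/
theorem mem_golayCode_iff (w : GolayPt → ZMod 2) :
    w ∈ golayCode ↔ ∀ i < 12, dot w (wordOf (cMask i)) = 0 := by
  constructor
  · intro hw i hi; exact dot_cMask_of_mem hw i hi
  · intro hw
    rw [eq_sum_of_checks w hw]
    apply Submodule.sum_mem
    intro j hj
    rw [Finset.mem_range] at hj
    exact Submodule.smul_mem _ _ (wordOf_gMask_mem j hj)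

theorem wordOf_mem_golayCode_iff (m : ℕ) : wordOf m ∈ golayCode ↔ isCode m = true := by
  rw [mem_golayCode_iff, isCode_iff]
  constructor
  · intro h i hi; exact (dot_wordOf_eq_zero _ _).mp (h i hi)
  · intro h i hi; exact (dot_wordOf_eq_zero _ _).mpr (h i hi)

theorem support₂_eq_bsupp (w : GolayPt → ZMod 2) : support₂ w = bsupp w := rfl

/-- A set of points is the support of a code word iff its indicator word is in the code. -/
theorem mem_supports_iff (s : Finset GolayPt) :
    s ∈ supports (golayCode : Set (GolayPt → ZMod 2)) ↔ bword s ∈ golayCode := by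
  constructor
  · rintro ⟨w, hw, rfl⟩
    rw [support₂_eq_bsupp, bword_bsupp]; exact hw
  · intro h
    exact ⟨bword s, h, by rw [support₂_eq_bsupp, bsupp_bword]⟩

theorem setOf_mem_supports_iff (m : ℕ) :
    setOf m ∈ supports (golayCode : Set (GolayPt → ZMod 2)) ↔ isCode m = true := by
  rw [mem_supports_iff, ← wordOf_eq_bword, wordOf_mem_golayCode_iff]


/-! ### The encoder and enumeration of the code words -/

/-- XOR of the generators `g_j`, `j < n`, selected by the bits of `i`. -/
def encAux : ℕ → ℕ → ℕ
  | 0, _ => 0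
  | n + 1, i => Nat.xor (encAux n i) (Nat.mul (Nat.land (Nat.shiftRight i n) 1) (gMask n))

/-- The code word (as a mask) with information bits `i < 4096`. -/
def enc (i : ℕ) : ℕ := encAux 12 i

theorem encAux_succ (n i : ℕ) :
    encAux (n + 1) i = encAux n i ^^^ (if i.testBit n then gMask n else 0) := by
  show Nat.xor (encAux n i) (Nat.mul (Nat.land (Nat.shiftRight i n) 1) (gMask n)) = _
  rw [land_shiftRight_one]
  by_cases h : i.testBit n
  · simp only [h, if_true]; show encAux n i ^^^ (1 * gMask n) = _; rw [Nat.one_mul]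
  · simp only [h]; show encAux n i ^^^ (0 * gMask n) = _; rw [Nat.zero_mul]; rfl

theorem gMask_lt (j : ℕ) : gMask j < 2 ^ 24 := by
  have : gMask j ≤ 16777215 := Nat.and_le_right
  omega

theorem encAux_lt (n i : ℕ) : encAux n i < 2 ^ 24 := by
  induction n with
  | zero => simp [encAux]
  | succ n ih =>
    rw [encAux_succ]
    apply Nat.xor_lt_two_pow ih
    split_ifs
    · exact gMask_lt n
    · positivity

theorem enc_lt (i : ℕ) : enc i < 2 ^ 24 := encAux_lt 12 i

theorem encAux_congr (n i i' : ℕ) (h : ∀ j < n, i.testBit j = i'.testBit j) :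
    encAux n i = encAux n i' := by
  induction n with
  | zero => rfl
  | succ n ih =>
    rw [encAux_succ, encAux_succ, ih (fun j hj => h j (Nat.lt_succ_of_lt hj)), h n (Nat.lt_succ_self n)]

theorem wordOf_encAux (n i : ℕ) :
    wordOf (encAux n i)
      = ∑ j ∈ Finset.range n, (if i.testBit j then (1 : ZMod 2) else 0) • wordOf (gMask j) := by
  induction n with
  | zero => simp [encAux, wordOf_zero]
  | succ n ih =>
    rw [encAux_succ, wordOf_xor, ih, Finset.sum_range_succ]
    congr 1
    by_cases h : i.testBit n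
    · simp [h]
    · simp [h, wordOf_zero]

theorem wordOf_enc_mem (i : ℕ) : wordOf (enc i) ∈ golayCode := by
  rw [enc, wordOf_encAux]
  apply Submodule.sum_mem
  intro j hj
  rw [Finset.mem_range] at hj
  exact Submodule.smul_mem _ _ (wordOf_gMask_mem j hj)

/-- The information bits of a word: its first twelve coordinates. -/
def infoOf (w : GolayPt → ZMod 2) : ℕ := Nat.ofBits fun j : Fin 12 => decide (w (idxPt j) = 1)

theorem infoOf_lt (w : GolayPt → ZMod 2) : infoOf w < 4096 := Nat.ofBits_lt_two_pow _

theorem eq_wordOf_enc {w : GolayPt → ZMod 2} (hw : w ∈ golayCode) : w = wordOf (enc (infoOf w)) := by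
  have h := eq_sum_of_checks w (fun i hi => dot_cMask_of_mem hw i hi)
  rw [enc, wordOf_encAux]
  conv_lhs => rw [h]
  refine Finset.sum_congr rfl fun j hj => ?_
  rw [Finset.mem_range] at hj
  congr 1
  rw [infoOf, Nat.testBit_ofBits_lt _ _ hj]
  rcases zmod2_cases (w (idxPt j)) with h0 | h1
  · simp [h0]
  · simp [h1]

theorem mem_golayCode_iff_enc (w : GolayPt → ZMod 2) :
    w ∈ golayCode ↔ ∃ i < 4096, w = wordOf (enc i) := by
  constructor
  · intro hw; exact ⟨infoOf w, infoOf_lt w, eq_wordOf_enc hw⟩
  · rintro ⟨i, -, rfl⟩; exact wordOf_enc_mem i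

theorem wordOf_injOn {a b : ℕ} (ha : a < 2 ^ 24) (hb : b < 2 ^ 24) (h : wordOf a = wordOf b) : a = b := by
  apply setOf_injOn ha hb
  rw [← bsupp_wordOf, ← bsupp_wordOf, h]

/-- Every code mask below `2 ^ 24` is an `enc i`. -/
theorem exists_enc_of_isCode {m : ℕ} (hm : m < 2 ^ 24) (h : isCode m = true) :
    ∃ i < 4096, m = enc i := by
  obtain ⟨i, hi, hw⟩ := (mem_golayCode_iff_enc _).mp ((wordOf_mem_golayCode_iff m).mpr h)
  exact ⟨i, hi, wordOf_injOn hm (enc_lt i) hw⟩

/-- Check a Boolean predicate on all `acc ^^^ (combination of the first n generators)`. -/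
def allCode (P : ℕ → Bool) : ℕ → ℕ → Bool
  | 0, acc => P acc
  | n + 1, acc => allCode P n acc && allCode P n (Nat.xor acc (gMask n))

theorem allCode_spec (P : ℕ → Bool) (n : ℕ) :
    ∀ acc : ℕ, allCode P n acc = true → ∀ i < 2 ^ n, P (acc ^^^ encAux n i) = true := by
  induction n with
  | zero =>
    intro acc h i hi
    have h' : P acc = true := h
    simpa [encAux] using h'
  | succ n ih =>
    intro acc h i hi
    rw [allCode, Bool.and_eq_true] at h
    rw [encAux_succ]
    by_cases hb : i.testBit n
    · have hge : 2 ^ n ≤ i := Nat.ge_two_pow_of_testBit hb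
      have hi' : i - 2 ^ n < 2 ^ n := by rw [pow_succ] at hi; omega
      have hcongr : encAux n i = encAux n (i - 2 ^ n) := by
        apply encAux_congr
        intro j hj
        conv_lhs => rw [show i = 2 ^ n + (i - 2 ^ n) by omega]
        exact Nat.testBit_two_pow_add_gt hj _
      have := ih (Nat.xor acc (gMask n)) h.2 (i - 2 ^ n) hi'
      rw [hcongr]
      simp only [hb, if_true]
      have hx : acc ^^^ (encAux n (i - 2 ^ n) ^^^ gMask n) = Nat.xor acc (gMask n) ^^^ encAux n (i - 2 ^ n) := by
        show acc ^^^ (encAux n (i - 2 ^ n) ^^^ gMask n) = (acc ^^^ gMask n) ^^^ encAux n (i - 2 ^ n)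
        rw [Nat.xor_comm (encAux n (i - 2 ^ n)), Nat.xor_assoc]
      rw [hx]; exact this
    · have hlt : i < 2 ^ n := by
        by_contra hge
        push Not at hge
        have hi' : i - 2 ^ n < 2 ^ n := by rw [pow_succ] at hi; omega
        have : i.testBit n = true := by
          rw [show i = 2 ^ n + (i - 2 ^ n) by omega, Nat.testBit_two_pow_add_eq,
            Nat.testBit_lt_two_pow hi']
          rfl
        exact hb this
      simp only [hb]
      have := ih acc h.1 i hlt
      simpa using this

/-- A Boolean predicate checked by `allCode` holds for every code mask. -/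
theorem forall_isCode (P : ℕ → Bool) (h : allCode P 12 0 = true) {m : ℕ} (hm : m < 2 ^ 24)
    (hc : isCode m = true) : P m = true := by
  obtain ⟨i, hi, rfl⟩ := exists_enc_of_isCode hm hc
  have := allCode_spec P 12 0 h i (by norm_num; exact hi)
  simpa [enc] using this

set_option maxRecDepth 100000 in
theorem minWeight_check : allCode (fun m => Nat.beq m 0 || Nat.ble 8 (popc m)) 12 0 = true := by
  decide +kernel

/-- Non-zero code masks have at least eight bits. -/
theorem eight_le_popc {m : ℕ} (hm : m < 2 ^ 24) (hc : isCode m = true) (h0 : m ≠ 0) : 8 ≤ popc m := by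
  have := forall_isCode _ minWeight_check hm hc
  simp only [Bool.or_eq_true, Nat.ble_eq] at this
  rcases this with h | h
  · exact absurd (Nat.eq_of_beq_eq_true h) h0
  · exact h

/-- `golayCode` has minimum weight at least 8. -/
theorem golay_minWeight : ∀ w ∈ golayCode, w ≠ 0 → 8 ≤ hammingNorm w := by
  intro w hw hw0
  obtain ⟨i, -, rfl⟩ := (mem_golayCode_iff_enc w).mp hw
  rw [hammingNorm_wordOf]
  apply eight_le_popc (enc_lt i) ((wordOf_mem_golayCode_iff _).mp hw)
  rintro h
  apply hw0
  rw [h, wordOf_zero]

/-! ### Dimension and self-orthogonality -/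

theorem golay_eq_span :
    golayCode = Submodule.span (ZMod 2) (Set.range fun j : Fin 12 => wordOf (gMask j)) := by
  apply le_antisymm
  · intro w hw
    rw [eq_sum_of_checks w (fun i hi => dot_cMask_of_mem hw i hi)]
    apply Submodule.sum_mem
    intro j hj
    rw [Finset.mem_range] at hj
    exact Submodule.smul_mem _ _ (Submodule.subset_span ⟨⟨j, hj⟩, rfl⟩)
  · rw [Submodule.span_le]
    rintro _ ⟨j, rfl⟩
    exact wordOf_gMask_mem j j.2

theorem gMask_linearIndependent :
    LinearIndependent (ZMod 2) (fun j : Fin 12 => wordOf (gMask j)) := by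
  rw [Fintype.linearIndependent_iff]
  intro a ha k
  have := congrFun ha (idxPt k)
  rw [Finset.sum_apply] at this
  have h2 : ∀ j ∈ (Finset.univ : Finset (Fin 12)), (a j • wordOf (gMask j)) (idxPt k)
      = if j = k then a k else 0 := by
    intro j _
    rw [Pi.smul_apply, wordOf_gMask_apply j k j.2 k.2, smul_eq_mul]
    by_cases hjk : j = k
    · simp [hjk]
    · have : (j : ℕ) ≠ k := fun h => hjk (Fin.ext h)
      simp [hjk, this]
  rw [Finset.sum_congr rfl h2, Finset.sum_ite_eq' Finset.univ k, if_pos (Finset.mem_univ k)] at this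
  simpa using this

/-- `golayCode` has dimension 12. -/
theorem golay_finrank : Module.finrank (ZMod 2) golayCode = 12 := by
  rw [golay_eq_span, finrank_span_eq_card gMask_linearIndependent, Fintype.card_fin]

set_option maxRecDepth 10000 in
theorem gMask_orth : ∀ j < 12, ∀ k < 12, popc (gMask j &&& gMask k) % 2 = 0 := by decide +kernel

theorem dot_comm (v w : GolayPt → ZMod 2) : dot v w = dot w v := by
  simp only [dot, mul_comm]

/-- `golayCode` is self-orthogonal. -/
theorem golay_orth : ∀ v ∈ golayCode, ∀ w ∈ golayCode, ∑ p, v p * w p = 0 := by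
  intro v hv w hw
  show dot v w = 0
  have key : ∀ k < 12, ∀ u ∈ golayCode, dot u (wordOf (gMask k)) = 0 := by
    intro k hk u hu
    rw [eq_sum_of_checks u (fun i hi => dot_cMask_of_mem hu i hi), dot_sum_left]
    apply Finset.sum_eq_zero
    intro j hj
    rw [Finset.mem_range] at hj
    rw [dot_smul_left, (dot_wordOf_eq_zero _ _).mpr (gMask_orth j hj k hk), mul_zero]
  rw [dot_comm, eq_sum_of_checks w (fun i hi => dot_cMask_of_mem hw i hi), dot_sum_left]
  apply Finset.sum_eq_zero
  intro k hk
  rw [Finset.mem_range] at hk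
  rw [dot_smul_left, dot_comm, key k hk v hv, mul_zero]

/-- `golayCode` is doubly even. -/
theorem golay_doubly_even : ∀ w ∈ golayCode, 4 ∣ hammingNorm w :=
  doubly_even golayCode card_golayPt golay_finrank golay_orth golay_minWeight

/-- The octads form a Steiner system S(5, 8, 24). -/
theorem octads_steiner : IsSteinerSystem 5 8 octads :=
  ⟨fun _ hb => hb.2, fun s hs => existsUnique_octad golayCode card_golayPt golay_finrank golay_minWeight s hs⟩

end Cfsg.Agent.Lib.helper94
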