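/-
Permutations of the 24 points given by tables (24 images packed in 5-bit fields of a natural
number), their action on masks, and a kernel-checkable criterion for membership in `Cfsg.M24`.
-/
import Mathlib
import Cfsg.Prelude.Def_Sporadic_a
import Cfsg.Agent.Lib.helper94.M24Code

set_option autoImplicit false
set_option linter.unusedSectionVars false

namespace Cfsg.Agent.Lib.helper94

open Cfsg
open scoped Pointwise

/-! ### Tables -/

/-- The image of the index `i` under the table `t` (5-bit fields). -/
def imgAt (t i : ℕ) : ℕ := Nat.land (Nat.shiftRight t (Nat.mul 5 i)) 31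

/-- Apply a table to masks; with `ones = 1` this is the image of a single mask, with `ones` having
bits at the multiples of 24 it acts on every 24-bit field of `X` simultaneously. -/
def applyAux (t ones X : ℕ) : ℕ → ℕ
  | 0 => 0
  | n + 1 => Nat.lor (applyAux t ones X n)
      (Nat.shiftLeft (Nat.land (Nat.shiftRight X n) ones) (imgAt t n))

/-- Apply a table to (packed) masks. -/
def applyP (t ones X : ℕ) : ℕ := applyAux t ones X 24

theorem testBit_applyAux (t ones X n q : ℕ) :
    (applyAux t ones X n).testBit q = true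
      ↔ ∃ i < n, imgAt t i ≤ q ∧ X.testBit (i + (q - imgAt t i)) = true
          ∧ ones.testBit (q - imgAt t i) = true := by
  induction n with
  | zero => simp [applyAux]
  | succ n ih =>
    have h1 : applyAux t ones X (n + 1)
        = applyAux t ones X n ||| (((X >>> n) &&& ones) <<< imgAt t n) := rfl
    rw [h1, Nat.testBit_or, Bool.or_eq_true, ih, Nat.testBit_shiftLeft, Nat.testBit_and,
      Nat.testBit_shiftRight]
    simp only [decide_eq_true_eq, Bool.and_eq_true, ge_iff_le]
    constructor
    · rintro (⟨i, hi, h⟩ | ⟨h1, h2, h3⟩)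
      · exact ⟨i, Nat.lt_succ_of_lt hi, h⟩
      · exact ⟨n, Nat.lt_succ_self n, h1, h2, h3⟩
    · rintro ⟨i, hi, h⟩
      rcases Nat.lt_succ_iff_lt_or_eq.mp hi with hlt | rfl
      · exact Or.inl ⟨i, hlt, h⟩
      · exact Or.inr h

theorem testBit_applyP_one (t m q : ℕ) :
    (applyP t 1 m).testBit q = true ↔ ∃ i < 24, imgAt t i = q ∧ m.testBit i = true := by
  rw [applyP, testBit_applyAux]
  constructor
  · rintro ⟨i, hi, h1, h2, h3⟩
    rw [Nat.testBit_one_eq_true_iff_self_eq_zero] at h3
    have : imgAt t i = q := by omega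
    refine ⟨i, hi, this, ?_⟩
    rw [this] at h2; simpa using h2
  · rintro ⟨i, hi, rfl, h2⟩
    exact ⟨i, hi, le_refl _, by simpa using h2, by simp⟩

/-- The table `t` is a permutation of `0, …, 23`. -/
def validPerm (t : ℕ) : Bool := Nat.beq (applyP t 1 16777215) 16777215

theorem testBit_full (q : ℕ) : (16777215 : ℕ).testBit q = true ↔ q < 24 := by
  rw [show (16777215 : ℕ) = 2 ^ 24 - 1 from by norm_num, Nat.testBit_two_pow_sub_one]
  simp

theorem validPerm_surj {t : ℕ} (h : validPerm t = true) (q : ℕ) (hq : q < 24) :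
    ∃ i < 24, imgAt t i = q := by
  have h1 : applyP t 1 16777215 = 16777215 := Nat.eq_of_beq_eq_true h
  have h2 := testBit_applyP_one t 16777215 q
  rw [h1, testBit_full] at h2
  obtain ⟨i, hi, hq', -⟩ := h2.mp hq
  exact ⟨i, hi, hq'⟩

theorem validPerm_lt {t : ℕ} (h : validPerm t = true) (i : ℕ) (hi : i < 24) : imgAt t i < 24 := by
  have h1 : applyP t 1 16777215 = 16777215 := Nat.eq_of_beq_eq_true h
  have h2 := testBit_applyP_one t 16777215 (imgAt t i)
  rw [h1, testBit_full] at h2
  exact h2.mpr ⟨i, hi, rfl, (testBit_full i).mpr hi⟩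

theorem validPerm_inj {t : ℕ} (h : validPerm t = true) {i j : ℕ} (hi : i < 24) (hj : j < 24)
    (hij : imgAt t i = imgAt t j) : i = j := by
  have hsurj : Function.Surjective (fun i : Fin 24 => (⟨imgAt t i, validPerm_lt h i i.2⟩ : Fin 24)) := by
    intro q
    obtain ⟨i, hi, hq⟩ := validPerm_surj h q q.2
    exact ⟨⟨i, hi⟩, Fin.ext hq⟩
  have hinj := Finite.injective_iff_surjective.mpr hsurj
  have := @hinj ⟨i, hi⟩ ⟨j, hj⟩ (Fin.ext hij)
  exact congrArg Fin.val this

/-- The map of points defined by a table. -/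
def permFun (t : ℕ) (p : GolayPt) : GolayPt := idxPt (imgAt t (ptIdx p))

theorem permFun_bijective {t : ℕ} (h : validPerm t = true) : Function.Bijective (permFun t) := by
  rw [← Finite.injective_iff_bijective]
  intro p q hpq
  have h1 := congrArg ptIdx hpq
  rw [permFun, permFun, ptIdx_idxPt (validPerm_lt h _ (ptIdx_lt p)),
    ptIdx_idxPt (validPerm_lt h _ (ptIdx_lt q))] at h1
  exact ptIdx_injective (validPerm_inj h (ptIdx_lt p) (ptIdx_lt q) h1)

open scoped Classical in
/-- The permutation of the points defined by a valid table (the identity for invalid tables). -/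
noncomputable def tperm (t : ℕ) : Equiv.Perm GolayPt :=
  if h : validPerm t = true then Equiv.ofBijective (permFun t) (permFun_bijective h) else 1

theorem tperm_apply {t : ℕ} (h : validPerm t = true) (p : GolayPt) :
    tperm t p = idxPt (imgAt t (ptIdx p)) := by
  rw [tperm, dif_pos h]; rfl

theorem ptIdx_tperm {t : ℕ} (h : validPerm t = true) (p : GolayPt) :
    ptIdx (tperm t p) = imgAt t (ptIdx p) := by
  rw [tperm_apply h, ptIdx_idxPt (validPerm_lt h _ (ptIdx_lt p))]

theorem tperm_idxPt {t : ℕ} (h : validPerm t = true) {i : ℕ} (hi : i < 24) :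
    tperm t (idxPt i) = idxPt (imgAt t i) := by
  rw [tperm_apply h, ptIdx_idxPt hi]

/-- The action of a table permutation on the set of a mask. -/
theorem smul_setOf {t : ℕ} (h : validPerm t = true) (m : ℕ) :
    tperm t • setOf m = setOf (applyP t 1 m) := by
  ext q
  rw [Finset.mem_smul_finset, mem_setOf, testBit_applyP_one]
  simp only [mem_setOf]
  constructor
  · rintro ⟨p, hp, rfl⟩
    exact ⟨ptIdx p, ptIdx_lt p, (ptIdx_tperm h p).symm, hp⟩
  · rintro ⟨i, hi, hq, hm⟩
    refine ⟨idxPt i, by rw [ptIdx_idxPt hi]; exact hm, ?_⟩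
    show tperm t (idxPt i) = q
    rw [tperm_idxPt h hi, hq, idxPt_ptIdx]

theorem applyP_lt {t : ℕ} (h : validPerm t = true) (m : ℕ) : applyP t 1 m < 2 ^ 24 := by
  apply Nat.lt_pow_two_of_testBit
  intro q hq
  rw [Bool.eq_false_iff]
  intro hcon
  rw [testBit_applyP_one] at hcon
  obtain ⟨i, hi, hiq, -⟩ := hcon
  have := validPerm_lt h i hi
  omega

/-! ### Membership in `M24` -/

theorem supports_finite : (supports (golayCode : Set (GolayPt → ZMod 2))).Finite := Set.toFinite _

theorem bword_smul (g : Equiv.Perm GolayPt) (s : Finset GolayPt) :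
    bword (g • s) = fun p => bword s (g.symm p) := by
  funext p
  have : p ∈ g • s ↔ g.symm p ∈ s := by
    rw [← Finset.smul_mem_smul_finset_iff (g⁻¹), inv_smul_smul]
    rfl
  simp only [bword, this]

/-- A permutation is in `M24` iff it maps supports of code words to supports of code words. -/
theorem mem_M24_iff (g : Equiv.Perm GolayPt) :
    g ∈ M24 ↔ ∀ s ∈ supports (golayCode : Set (GolayPt → ZMod 2)),
      g • s ∈ supports (golayCode : Set (GolayPt → ZMod 2)) := by
  rw [MulAction.mem_stabilizer_set_iff_smul_set_subset supports_finite]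
  constructor
  · intro h s hs
    exact h ⟨s, hs, rfl⟩
  · rintro h _ ⟨s, hs, rfl⟩
    exact h s hs

/-- It suffices to check the twelve systematic generators. -/
theorem mem_M24_of_gens (g : Equiv.Perm GolayPt)
    (h : ∀ j < 12, g • setOf (gMask j) ∈ supports (golayCode : Set (GolayPt → ZMod 2))) :
    g ∈ M24 := by
  rw [mem_M24_iff]
  intro s hs
  rw [mem_supports_iff] at hs ⊢
  rw [bword_smul]
  have hle : golayCode ≤ golayCode.comap (LinearMap.funLeft (ZMod 2) (ZMod 2) (g.symm : GolayPt → GolayPt)) := by
    conv_lhs => rw [golay_eq_span]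
    rw [Submodule.span_le]
    rintro _ ⟨j, rfl⟩
    have := h j j.2
    rw [mem_supports_iff, bword_smul, ← wordOf_eq_bword] at this
    exact this
  exact hle hs

/-- Kernel-checkable test: the images of the generators `g_j`, `j < n`, are code masks. -/
def gensAux (t : ℕ) : ℕ → Bool
  | 0 => true
  | n + 1 => isCode (applyP t 1 (gMask n)) && gensAux t n

theorem gensAux_iff (t n : ℕ) : gensAux t n = true ↔ ∀ j < n, isCode (applyP t 1 (gMask j)) = true := by
  induction n with
  | zero => simp [gensAux]
  | succ n ih =>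
    rw [gensAux, Bool.and_eq_true, ih]
    constructor
    · rintro ⟨h1, h2⟩ j hj
      rcases Nat.lt_succ_iff_lt_or_eq.mp hj with h | rfl
      · exact h2 j h
      · exact h1
    · intro h
      exact ⟨h n (Nat.lt_succ_self n), fun j hj => h j (Nat.lt_succ_of_lt hj)⟩

/-- Kernel-checkable test for a table to define an element of `M24`. -/
def isM24 (t : ℕ) : Bool := validPerm t && gensAux t 12

theorem isM24_valid {t : ℕ} (h : isM24 t = true) : validPerm t = true := by
  rw [isM24, Bool.and_eq_true] at h; exact h.1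

theorem tperm_mem_M24 {t : ℕ} (h : isM24 t = true) : tperm t ∈ M24 := by
  rw [isM24, Bool.and_eq_true] at h
  apply mem_M24_of_gens
  intro j hj
  rw [smul_setOf h.1, setOf_mem_supports_iff]
  exact (gensAux_iff t 12).mp h.2 j hj

/-- Elements of `M24` map code masks to code masks. -/
theorem isCode_applyP {t : ℕ} (hv : validPerm t = true) (hM : tperm t ∈ M24) {m : ℕ}
    (hm : isCode m = true) : isCode (applyP t 1 m) = true := by
  rw [← setOf_mem_supports_iff, ← smul_setOf hv]
  exact (mem_M24_iff _).mp hM _ ((setOf_mem_supports_iff m).mpr hm)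

theorem smul_mem_octads {g : Equiv.Perm GolayPt} (hg : g ∈ M24) {o : Finset GolayPt}
    (ho : o ∈ octads) : g • o ∈ octads :=
  ⟨(mem_M24_iff g).mp hg o ho.1, by rw [Finset.card_smul_finset]; exact ho.2⟩

theorem smul_mem_dodecads {g : Equiv.Perm GolayPt} (hg : g ∈ M24) {o : Finset GolayPt}
    (ho : o ∈ dodecads) : g • o ∈ dodecads :=
  ⟨(mem_M24_iff g).mp hg o ho.1, by rw [Finset.card_smul_finset]; exact ho.2⟩

end Cfsg.Agent.Lib.helper94
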