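/-
Packed families of masks, the simultaneous action of a table permutation on all fields of a
packed family, and a kernel-checkable orbit certificate (a spanning tree of the Schreier graph).
-/
import Mathlib
import Cfsg.Prelude.Def_Sporadic_a
import Cfsg.Agent.Lib.helper94.M24Perm

set_option autoImplicit false
set_option linter.unusedSectionVars false

namespace Cfsg.Agent.Lib.helper94

open Cfsg
open scoped Pointwise

/-! ### Packed families -/

/-- The `k`-th 24-bit field of a packed family. -/
def fld (X k : ℕ) : ℕ := Nat.land (Nat.shiftRight X (Nat.mul 24 k)) 16777215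

theorem testBit_fld (X k b : ℕ) :
    (fld X k).testBit b = true ↔ b < 24 ∧ X.testBit (24 * k + b) = true := by
  have h : fld X k = (X >>> (24 * k)) &&& 16777215 := rfl
  rw [h, Nat.testBit_and, Nat.testBit_shiftRight, Bool.and_eq_true, testBit_full]
  tauto

theorem fld_lt (X k : ℕ) : fld X k < 2 ^ 24 := by
  have : fld X k ≤ 16777215 := Nat.and_le_right
  omega

/-- The number with bits at `0, 24, …, 24 (K - 1)` (specification). -/
def onesR : ℕ → ℕ
  | 0 => 0
  | K + 1 => 2 ^ (24 * K) + onesR K

/-- The number with bits at `0, 24, …, 24 (K - 1)` (closed form, for evaluation). -/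
def onesN (K : ℕ) : ℕ := Nat.div (Nat.sub (Nat.pow 2 (Nat.mul 24 K)) 1) 16777215

theorem onesR_spec (K : ℕ) : 16777215 * onesR K + 1 = 2 ^ (24 * K) := by
  induction K with
  | zero => simp [onesR]
  | succ K ih =>
    rw [onesR, Nat.mul_add, Nat.add_assoc, ih]
    rw [show 24 * (K + 1) = 24 * K + 24 by ring, pow_add]
    norm_num
    ring

theorem onesN_eq (K : ℕ) : onesN K = onesR K := by
  have h : onesN K = (2 ^ (24 * K) - 1) / 16777215 := rfl
  rw [h, ← onesR_spec K, Nat.add_sub_cancel, Nat.mul_div_cancel_left _ (by norm_num)]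

theorem onesR_lt (K : ℕ) : onesR K < 2 ^ (24 * K) := by
  have := onesR_spec K
  omega

theorem testBit_onesR (K q : ℕ) : (onesR K).testBit q = true ↔ q % 24 = 0 ∧ q < 24 * K := by
  induction K with
  | zero => simp [onesR]
  | succ K ih =>
    rw [onesR]
    rcases Nat.lt_trichotomy q (24 * K) with hlt | heq | hgt
    · rw [Nat.testBit_two_pow_add_gt hlt, ih]
      constructor
      · rintro ⟨h1, h2⟩; exact ⟨h1, by omega⟩
      · rintro ⟨h1, _⟩; exact ⟨h1, hlt⟩
    · subst heq
      rw [Nat.testBit_two_pow_add_eq, Nat.testBit_lt_two_pow (onesR_lt K)]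
      simp
    · have hlt : 2 ^ (24 * K) + onesR K < 2 ^ q := by
        have h1 := onesR_lt K
        have h2 : 2 ^ (24 * K + 1) ≤ 2 ^ q := Nat.pow_le_pow_right (by norm_num) (by omega)
        rw [pow_succ] at h2
        omega
      rw [Nat.testBit_lt_two_pow hlt]
      simp only [Bool.false_eq_true, false_iff, not_and]
      intro h
      omega

/-- Simultaneous action on all fields: the `k`-th field of the image is the image of the `k`-th
field. -/
theorem fld_applyP {t : ℕ} (hv : validPerm t = true) (K X k : ℕ) (hk : k < K) :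
    fld (applyP t (onesN K) X) k = applyP t 1 (fld X k) := by
  apply Nat.eq_of_testBit_eq
  intro b
  rw [Bool.eq_iff_iff, testBit_fld, testBit_applyP_one, applyP, testBit_applyAux, onesN_eq]
  constructor
  · rintro ⟨hb, i, hi, h1, h2, h3⟩
    rw [testBit_onesR] at h3
    have himg := validPerm_lt hv i hi
    have hib : imgAt t i = b := by omega
    refine ⟨i, hi, hib, ?_⟩
    rw [testBit_fld]
    refine ⟨hi, ?_⟩
    rw [hib] at h2
    rw [← h2]
    congr 1
    omega
  · rintro ⟨i, hi, hib, h2⟩
    rw [testBit_fld] at h2
    have himg := validPerm_lt hv i hi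
    refine ⟨by omega, i, hi, by omega, ?_, ?_⟩
    · rw [← h2.2]
      congr 1
      omega
    · rw [testBit_onesR]
      constructor
      · rw [hib]; simp
      · rw [hib]; simp only [Nat.add_sub_cancel]; omega

/-! ### Objects: tuples of `w` masks -/

/-- The `j`-th object of a packed family of objects of `W` bits each. -/
def objAt (W X j : ℕ) : ℕ := Nat.land (Nat.shiftRight X (Nat.mul W j)) (Nat.sub (Nat.pow 2 W) 1)

theorem testBit_objAt (W X j r : ℕ) :
    (objAt W X j).testBit r = true ↔ r < W ∧ X.testBit (W * j + r) = true := by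
  have h : objAt W X j = (X >>> (W * j)) &&& (2 ^ W - 1) := rfl
  rw [h, Nat.testBit_and, Nat.testBit_shiftRight, Bool.and_eq_true, Nat.testBit_two_pow_sub_one]
  simp only [decide_eq_true_eq]
  tauto

theorem fld_objAt (w X j c : ℕ) (hc : c < w) : fld (objAt (24 * w) X j) c = fld X (w * j + c) := by
  apply Nat.eq_of_testBit_eq
  intro b
  rw [Bool.eq_iff_iff, testBit_fld, testBit_fld, testBit_objAt]
  constructor
  · rintro ⟨hb, -, h⟩
    refine ⟨hb, ?_⟩
    rw [← h]; congr 1; ring
  · rintro ⟨hb, h⟩
    refine ⟨hb, by nlinarith, ?_⟩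
    rw [← h]; congr 1; ring

/-! ### Orbit certificates -/

/-- The `j`-th 32-bit entry of a packed table. -/
def ent (P j : ℕ) : ℕ := Nat.land (Nat.shiftRight P (Nat.mul 32 j)) 4294967295

/-- One step of the tree check: the entry `e = 256 * p + k` says that object `j` is the image of
object `p < j` under the `k`-th generator. -/
def stepOK (W X : ℕ) (Ys : List ℕ) (P j : ℕ) : Bool :=
  Nat.blt (Nat.shiftRight (ent P j) 8) j &&
    (match Ys[Nat.land (ent P j) 255]? with
     | some Y => Nat.beq (objAt W Y (Nat.shiftRight (ent P j) 8)) (objAt W X j)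
     | none => false)

/-- The tree check for the objects `1, …, n`. -/
def treeAux (W X : ℕ) (Ys : List ℕ) (P : ℕ) : ℕ → Bool
  | 0 => true
  | j + 1 => stepOK W X Ys P (j + 1) && treeAux W X Ys P j

theorem treeAux_iff (W X : ℕ) (Ys : List ℕ) (P n : ℕ) :
    treeAux W X Ys P n = true ↔ ∀ j, 1 ≤ j → j ≤ n → stepOK W X Ys P j = true := by
  induction n with
  | zero => simp [treeAux]; intro j h1 h2; omega
  | succ n ih =>
    rw [treeAux, Bool.and_eq_true, ih]
    constructor
    · rintro ⟨h1, h2⟩ j hj1 hj2
      rcases Nat.lt_succ_iff_lt_or_eq.mp (Nat.lt_succ_of_le hj2) with h | rfl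
      · exact h2 j hj1 (Nat.lt_succ_iff.mp h)
      · exact h1
    · intro h
      exact ⟨h (n + 1) (by omega) (le_refl _), fun j hj1 hj2 => h j hj1 (by omega)⟩

/-- The full orbit check: `N` objects of `w` masks each, packed in `X`; generators `ts`; tree `P`. -/
def orbitCheck (w N X : ℕ) (ts : List ℕ) (P : ℕ) : Bool :=
  treeAux (Nat.mul 24 w) X (ts.map fun t => applyP t (onesN (Nat.mul w N)) X) P (N - 1)

/-- Soundness of the orbit certificate: every object is the image of object `0` under an element
of any subgroup containing the generators. -/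
theorem orbit_sound (w N X : ℕ) (ts : List ℕ) (P : ℕ) (H : Subgroup (Equiv.Perm GolayPt))
    (hts : ∀ t ∈ ts, validPerm t = true ∧ tperm t ∈ H)
    (hchk : orbitCheck w N X ts P = true) :
    ∀ j < N, ∃ h ∈ H, ∀ c < w, h • setOf (fld X c) = setOf (fld X (w * j + c)) := by
  rw [orbitCheck, treeAux_iff] at hchk
  intro j
  induction j using Nat.strong_induction_on with
  | _ j ih =>
    intro hj
    rcases Nat.eq_zero_or_pos j with rfl | hpos
    · exact ⟨1, H.one_mem, fun c _ => by simp⟩
    · have hstep := hchk j hpos (by omega)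
      rw [stepOK, Bool.and_eq_true] at hstep
      obtain ⟨hp, hmatch⟩ := hstep
      set p := Nat.shiftRight (ent P j) 8 with hpdef
      have hpj : p < j := by simpa [Nat.blt_eq] using hp
      obtain ⟨h0, hh0, hh0c⟩ := ih p hpj (by omega)
      -- the generator
      cases hY : (ts.map fun t => applyP t (onesN (Nat.mul w N)) X)[Nat.land (ent P j) 255]? with
      | none => rw [hY] at hmatch; exact absurd hmatch (by simp)
      | some Y =>
        rw [hY] at hmatch
        have hYmem : Y ∈ ts.map fun t => applyP t (onesN (Nat.mul w N)) X := List.mem_of_getElem? hY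
        rw [List.mem_map] at hYmem
        obtain ⟨t, ht, rfl⟩ := hYmem
        obtain ⟨hv, htH⟩ := hts t ht
        have hobj : objAt (Nat.mul 24 w) (applyP t (onesN (Nat.mul w N)) X) p = objAt (Nat.mul 24 w) X j :=
          Nat.eq_of_beq_eq_true hmatch
        refine ⟨tperm t * h0, H.mul_mem htH hh0, fun c hc => ?_⟩
        rw [mul_smul, hh0c c hc, smul_setOf hv]
        congr 1
        have h1 : fld (objAt (24 * w) (applyP t (onesN (Nat.mul w N)) X) p) c
            = fld (objAt (24 * w) X j) c := congrArg (fun o => fld o c) hobj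
        have e1 : fld (objAt (24 * w) (applyP t (onesN (Nat.mul w N)) X) p) c
            = fld (applyP t (onesN (Nat.mul w N)) X) (w * p + c) := fld_objAt w _ p c hc
        have e2 : fld (objAt (24 * w) X j) c = fld X (w * j + c) := fld_objAt w _ j c hc
        have h1' : fld (applyP t (onesN (Nat.mul w N)) X) (w * p + c) = fld X (w * j + c) := by
          rw [← e1, ← e2]; exact h1
        rw [← h1']
        have hlt : w * p + c < Nat.mul w N := by
          show w * p + c < w * N
          have : w * (p + 1) ≤ w * N := Nat.mul_le_mul_left w (by omega)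
          nlinarith
        exact (fld_applyP hv (Nat.mul w N) X (w * p + c) hlt).symm

end Cfsg.Agent.Lib.helper94
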