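/-
Families of masks as sets of sets of points, and kernel-checkable class certificates
(spanning forests of a Schreier graph with several roots), together with a generic
"classification by an invariant" theorem.
-/
import Mathlib
import Cfsg.Prelude.Def_Sporadic_a
import Cfsg.Agent.Lib.helper94.M24Orbit

set_option autoImplicit false
set_option linter.unusedSectionVars false

namespace Cfsg.Agent.Lib.helper94

open Cfsg
open scoped Pointwise

/-! ### Small Boolean list utilities -/

/-- Membership test on lists of naturals. -/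
def memN (x : ℕ) : List ℕ → Bool
  | [] => false
  | y :: l => Nat.beq x y || memN x l

theorem memN_iff (x : ℕ) (l : List ℕ) : memN x l = true ↔ x ∈ l := by
  induction l with
  | nil => simp [memN]
  | cons y l ih =>
    rw [memN, Bool.or_eq_true, ih, List.mem_cons]
    constructor
    · rintro (h | h)
      · exact Or.inl (Nat.eq_of_beq_eq_true h)
      · exact Or.inr h
    · rintro (h | h)
      · left; rw [h]; exact Nat.beq_refl y
      · exact Or.inr h

/-- Inclusion test on lists of naturals. -/
def subL : List ℕ → List ℕ → Bool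
  | [], _ => true
  | x :: l, l' => memN x l' && subL l l'

theorem subL_iff (l l' : List ℕ) : subL l l' = true ↔ ∀ x ∈ l, x ∈ l' := by
  induction l with
  | nil => simp [subL]
  | cons y l ih =>
    rw [subL, Bool.and_eq_true, ih, memN_iff]
    simp

/-- Equality of the sets of entries of two lists. -/
def seteq (l l' : List ℕ) : Bool := subL l l' && subL l' l

theorem seteq_iff (l l' : List ℕ) : seteq l l' = true ↔ ∀ x, x ∈ l ↔ x ∈ l' := by
  rw [seteq, Bool.and_eq_true, subL_iff, subL_iff]
  constructor
  · rintro ⟨h1, h2⟩ x; exact ⟨h1 x, h2 x⟩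
  · intro h; exact ⟨fun x => (h x).mp, fun x => (h x).mpr⟩

/-- Bounded universal quantifier. -/
def allBelow (f : ℕ → Bool) : ℕ → Bool
  | 0 => true
  | n + 1 => f n && allBelow f n

theorem allBelow_iff (f : ℕ → Bool) (n : ℕ) : allBelow f n = true ↔ ∀ j < n, f j = true := by
  induction n with
  | zero => simp [allBelow]
  | succ n ih =>
    rw [allBelow, Bool.and_eq_true, ih]
    constructor
    · rintro ⟨h1, h2⟩ j hj
      rcases Nat.lt_succ_iff_lt_or_eq.mp hj with h | rfl
      · exact h2 j h
      · exact h1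
    · intro h
      exact ⟨h n (Nat.lt_succ_self n), fun j hj => h j (Nat.lt_succ_of_lt hj)⟩

/-- Bounded counting. -/
def cntBelow (f : ℕ → Bool) : ℕ → ℕ
  | 0 => 0
  | n + 1 => Nat.add (cond (f n) 1 0) (cntBelow f n)

theorem cntBelow_eq (f : ℕ → Bool) (n : ℕ) :
    cntBelow f n = ((Finset.range n).filter fun j => f j = true).card := by
  induction n with
  | zero => simp [cntBelow]
  | succ n ih =>
    rw [cntBelow, Finset.range_add_one, Finset.filter_insert]
    have e : Nat.add (cond (f n) 1 0) (cntBelow f n) = cond (f n) 1 0 + cntBelow f n := rfl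
    rw [e, ih]
    cases h : f n
    · simp
    · simp [Finset.card_insert_of_notMem]
      omega

/-! ### Families of sets from lists of masks -/

/-- The family of the sets of a list of masks. -/
def objSetL (l : List ℕ) : Finset (Finset GolayPt) := (l.map setOf).toFinset

theorem mem_objSetL {l : List ℕ} {s : Finset GolayPt} : s ∈ objSetL l ↔ ∃ x ∈ l, setOf x = s := by
  simp [objSetL]

theorem objSetL_congr {l l' : List ℕ} (h : ∀ x, x ∈ l ↔ x ∈ l') : objSetL l = objSetL l' := by
  ext s
  simp only [mem_objSetL]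
  constructor
  · rintro ⟨x, hx, rfl⟩; exact ⟨x, (h x).mp hx, rfl⟩
  · rintro ⟨x, hx, rfl⟩; exact ⟨x, (h x).mpr hx, rfl⟩

theorem objSetL_eq_of_seteq {l l' : List ℕ} (h : seteq l l' = true) : objSetL l = objSetL l' :=
  objSetL_congr ((seteq_iff l l').mp h)

theorem smul_objSetL {t : ℕ} (hv : validPerm t = true) (l : List ℕ) :
    tperm t • objSetL l = objSetL (l.map (applyP t 1)) := by
  ext s
  rw [Finset.mem_smul_finset]
  simp only [mem_objSetL, List.mem_map]
  constructor
  · rintro ⟨_, ⟨x, hx, rfl⟩, rfl⟩
    exact ⟨_, ⟨x, hx, rfl⟩, (smul_setOf hv x).symm⟩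
  · rintro ⟨_, ⟨x, hx, rfl⟩, rfl⟩
    exact ⟨_, ⟨x, hx, rfl⟩, smul_setOf hv x⟩

/-- The fields `base, …, base + w - 1` of a packed family (in reverse order). -/
def fldsAux (X base : ℕ) : ℕ → List ℕ
  | 0 => []
  | c + 1 => fld X (Nat.add base c) :: fldsAux X base c

theorem mem_fldsAux (X base w x : ℕ) : x ∈ fldsAux X base w ↔ ∃ c < w, x = fld X (base + c) := by
  induction w with
  | zero => simp [fldsAux]
  | succ w ih =>
    rw [fldsAux, List.mem_cons, ih]
    constructor
    · rintro (h | ⟨c, hc, h⟩)
      · exact ⟨w, Nat.lt_succ_self w, h⟩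
      · exact ⟨c, Nat.lt_succ_of_lt hc, h⟩
    · rintro ⟨c, hc, h⟩
      rcases Nat.lt_succ_iff_lt_or_eq.mp hc with h' | rfl
      · exact Or.inr ⟨c, h', h⟩
      · exact Or.inl h

theorem fldsAux_map (f : ℕ → ℕ) (X Y base w : ℕ) (h : ∀ c < w, fld Y (base + c) = f (fld X (base + c))) :
    fldsAux Y base w = (fldsAux X base w).map f := by
  induction w with
  | zero => simp [fldsAux]
  | succ w ih =>
    rw [fldsAux, fldsAux, List.map_cons, ih (fun c hc => h c (Nat.lt_succ_of_lt hc))]
    congr 1
    exact h w (Nat.lt_succ_self w)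

theorem fldsAux_lt (X base w : ℕ) : ∀ x ∈ fldsAux X base w, x < 2 ^ 24 := by
  intro x hx
  obtain ⟨c, -, rfl⟩ := (mem_fldsAux X base w x).mp hx
  exact fld_lt _ _

/-- The list of the `w` masks of the `j`-th object of a packed family. -/
def fldsAt (w X j : ℕ) : List ℕ := fldsAux X (Nat.mul w j) w

/-- The `j`-th object of a packed family, as a set of sets of points. -/
def objS (w X j : ℕ) : Finset (Finset GolayPt) := objSetL (fldsAt w X j)

theorem mem_objS {w X j : ℕ} {s : Finset GolayPt} :
    s ∈ objS w X j ↔ ∃ c < w, s = setOf (fld X (w * j + c)) := by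
  rw [objS, mem_objSetL]
  constructor
  · rintro ⟨x, hx, rfl⟩
    obtain ⟨c, hc, rfl⟩ := (mem_fldsAux _ _ _ _).mp hx
    exact ⟨c, hc, rfl⟩
  · rintro ⟨c, hc, rfl⟩
    exact ⟨_, (mem_fldsAux _ _ _ _).mpr ⟨c, hc, rfl⟩, rfl⟩

theorem smul_objS {t : ℕ} (hv : validPerm t = true) (w N X j : ℕ) (hj : j < N) :
    tperm t • objS w X j = objS w (applyP t (onesN (Nat.mul w N)) X) j := by
  rw [objS, objS, smul_objSetL hv, fldsAt, fldsAt]
  congr 1
  symm
  apply fldsAux_map
  intro c hc
  apply fld_applyP hv
  show w * j + c < w * N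
  have : w * (j + 1) ≤ w * N := Nat.mul_le_mul_left w (by omega)
  nlinarith

/-! ### Class certificates -/

/-- Force the evaluation of a natural number before passing it on (for kernel evaluation:
the continuation receives a numeral instead of an unevaluated term). -/
def forceNat {α : Type} (n : ℕ) (f : ℕ → α) : α :=
  match n with
  | 0 => f 0
  | Nat.succ k => f (Nat.succ k)

theorem forceNat_eq {α : Type} (n : ℕ) (f : ℕ → α) : forceNat n f = f n := by
  cases n <;> rfl

/-- The fields `w - 1, …, 0` of a (small) packed object, each forced, passed to a continuation. -/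
def fldsK {α : Type} (O : ℕ) : ℕ → (List ℕ → α) → α
  | 0, k => k []
  | c + 1, k => forceNat (fld O c) fun v => fldsK O c fun l => k (v :: l)

theorem fldsAux_congr (A a B b n : ℕ) (h : ∀ c < n, fld A (a + c) = fld B (b + c)) :
    fldsAux A a n = fldsAux B b n := by
  induction n with
  | zero => rfl
  | succ n ih =>
    rw [fldsAux, fldsAux, ih (fun c hc => h c (Nat.lt_succ_of_lt hc))]
    congr 1
    exact h n (Nat.lt_succ_self n)

theorem fldsK_eq {α : Type} (O w : ℕ) (k : List ℕ → α) : fldsK O w k = k (fldsAux O 0 w) := by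
  induction w generalizing k with
  | zero => rfl
  | succ w ih =>
    rw [fldsK, forceNat_eq, ih, fldsAux]
    congr 2
    show fld O w = fld O (0 + w)
    rw [Nat.zero_add]

theorem fldsAux_objAt (w X j : ℕ) : fldsAux (objAt (Nat.mul 24 w) X j) 0 w = fldsAt w X j := by
  apply fldsAux_congr
  intro c hc
  rw [Nat.zero_add]
  exact fld_objAt w X j c hc

/-- Check that every field of the packed object `A` is the field of the packed object `B` named
by the 4-bit entries of `Q` (starting at entry `base`). -/
def permOK (w A B Q base : ℕ) : ℕ → Bool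
  | 0 => true
  | c + 1 =>
    forceNat (Nat.land (Nat.shiftRight Q (Nat.mul 4 (Nat.add base c))) 15) fun c' =>
      Nat.blt c' w && (Nat.beq (fld A c) (fld B c') && permOK w A B Q base c)

theorem permOK_sound (w A B Q base : ℕ) (n : ℕ) (h : permOK w A B Q base n = true) :
    ∀ c < n, ∃ c' < w, fld A c = fld B c' := by
  induction n with
  | zero => intro c hc; omega
  | succ n ih =>
    rw [permOK, forceNat_eq, Bool.and_eq_true, Bool.and_eq_true] at h
    obtain ⟨h1, h2, h3⟩ := h
    intro c hc
    rcases Nat.lt_succ_iff_lt_or_eq.mp hc with hc' | rfl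
    · exact ih h3 c hc'
    · exact ⟨_, by simpa [Nat.blt_eq] using h1, Nat.eq_of_beq_eq_true h2⟩

/-- One step of the class check.  The 32-bit entry `e = 65536 * p + 256 * d + k` of object `j`
says that object `j` has depth `d` and is the image of object `p` (of smaller depth) under the
`k`-th generator; `k = 255` marks a root, which must be listed in `rs`.  The 4-bit entries of `Q`
say which field of object `j` each image field is. -/
def stepK (w N X : ℕ) (Ys : List ℕ) (P Q : ℕ) (rs : List ℕ) (j : ℕ) : Bool :=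
  forceNat (ent P j) fun e =>
    cond (Nat.beq (Nat.land e 255) 255)
      (memN j rs)
      (forceNat (Nat.shiftRight e 16) fun p =>
        Nat.blt p N &&
        (Nat.blt (Nat.land (Nat.shiftRight (ent P p) 8) 255) (Nat.land (Nat.shiftRight e 8) 255) &&
        (match Ys[Nat.land e 255]? with
         | some Y =>
            forceNat (objAt (Nat.mul 24 w) Y p) fun A =>
            forceNat (objAt (Nat.mul 24 w) X j) fun B => permOK w A B Q (Nat.mul w j) w
         | none => false)))

/-- Compute the images of a packed family under a list of table permutations, forcing each. -/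
def withImgs (ones X : ℕ) : List ℕ → (List ℕ → Bool) → Bool
  | [], f => f []
  | t :: ts, f => forceNat (applyP t ones X) fun Y => withImgs ones X ts fun Ys => f (Y :: Ys)

theorem withImgs_eq (ones X : ℕ) (ts : List ℕ) (f : List ℕ → Bool) :
    withImgs ones X ts f = f (ts.map fun t => applyP t ones X) := by
  induction ts generalizing f with
  | nil => rfl
  | cons t ts ih => rw [withImgs, forceNat_eq, ih]; rfl

/-- The class check: `N` objects of `w` masks each, packed in `X`; generators `ts`; forest `P`
with roots among `rs`; field matchings `Q`. -/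
def classCheck (w N X : ℕ) (ts : List ℕ) (P Q : ℕ) (rs : List ℕ) : Bool :=
  forceNat (onesN (Nat.mul w N)) fun ones =>
    withImgs ones X ts fun Ys => allBelow (stepK w N X Ys P Q rs) N

theorem classCheck_eq (w N X : ℕ) (ts : List ℕ) (P Q : ℕ) (rs : List ℕ) :
    classCheck w N X ts P Q rs =
      allBelow (stepK w N X (ts.map fun t => applyP t (onesN (Nat.mul w N)) X) P Q rs) N := by
  rw [classCheck, forceNat_eq, withImgs_eq]

theorem card_objS_le (w X j : ℕ) : (objS w X j).card ≤ w := by
  rw [objS, objSetL]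
  refine le_trans (List.toFinset_card_le _) ?_
  rw [List.length_map, fldsAt]
  have : ∀ n, (fldsAux X (Nat.mul w j) n).length = n := by
    intro n
    induction n with
    | zero => rfl
    | succ n ih => rw [fldsAux, List.length_cons, ih]
  rw [this]

/-- Soundness of the class certificate: every object is the image of a root under an element of
any subgroup containing the generators (and has `w` distinct members, if the roots do). -/
theorem class_sound (w N X : ℕ) (ts : List ℕ) (P Q : ℕ) (rs : List ℕ)
    (H : Subgroup (Equiv.Perm GolayPt))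
    (hts : ∀ t ∈ ts, validPerm t = true ∧ tperm t ∈ H)
    (hroot : ∀ r ∈ rs, (objS w X r).card = w)
    (hchk : classCheck w N X ts P Q rs = true) :
    ∀ j < N, (objS w X j).card = w ∧ ∃ r ∈ rs, ∃ h ∈ H, h • objS w X r = objS w X j := by
  rw [classCheck_eq, allBelow_iff] at hchk
  have key : ∀ d j, j < N → Nat.land (Nat.shiftRight (ent P j) 8) 255 = d →
      (objS w X j).card = w ∧ ∃ r ∈ rs, ∃ h ∈ H, h • objS w X r = objS w X j := by
    intro d
    induction d using Nat.strong_induction_on with
    | _ d ih =>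
      intro j hj hd
      have hstep := hchk j hj
      rw [stepK, forceNat_eq] at hstep
      cases hrt : Nat.beq (Nat.land (ent P j) 255) 255 with
      | true =>
        rw [hrt, cond_true, memN_iff] at hstep
        exact ⟨hroot j hstep, j, hstep, 1, H.one_mem, one_smul _ _⟩
      | false =>
        rw [hrt, cond_false, forceNat_eq, Bool.and_eq_true, Bool.and_eq_true] at hstep
        obtain ⟨hp, hdep, hmatch⟩ := hstep
        set p := Nat.shiftRight (ent P j) 16 with hpdef
        have hpN : p < N := by simpa [Nat.blt_eq] using hp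
        have hdep' : Nat.land (Nat.shiftRight (ent P p) 8) 255 < d := by
          rw [← hd]; simpa [Nat.blt_eq] using hdep
        obtain ⟨hcard, r, hr, h0, hh0, hh0eq⟩ := ih _ hdep' p hpN rfl
        cases hY : (ts.map fun t => applyP t (onesN (Nat.mul w N)) X)[Nat.land (ent P j) 255]? with
        | none => rw [hY] at hmatch; exact absurd hmatch (by simp)
        | some Y =>
          rw [hY] at hmatch
          have hYmem : Y ∈ ts.map fun t => applyP t (onesN (Nat.mul w N)) X :=
            List.mem_of_getElem? hY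
          rw [List.mem_map] at hYmem
          obtain ⟨t, ht, rfl⟩ := hYmem
          obtain ⟨hv, htH⟩ := hts t ht
          simp only [forceNat_eq] at hmatch
          have hperm := permOK_sound _ _ _ _ _ _ hmatch
          have hsub : tperm t • objS w X p ⊆ objS w X j := by
            rw [smul_objS hv w N X p hpN]
            intro s hs
            rw [mem_objS] at hs ⊢
            obtain ⟨c, hc, rfl⟩ := hs
            obtain ⟨c', hc', hcc'⟩ := hperm c hc
            refine ⟨c', hc', ?_⟩
            rw [← fld_objAt w _ p c hc, ← fld_objAt w X j c' hc']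
            exact congrArg setOf hcc'
          have hcard' : (tperm t • objS w X p).card = w := by
            rw [Finset.card_smul_finset]; exact hcard
          have heq : tperm t • objS w X p = objS w X j :=
            Finset.eq_of_subset_of_card_le hsub (by rw [hcard']; exact card_objS_le w X j)
          refine ⟨by rw [← heq]; exact hcard', r, hr, tperm t * h0, H.mul_mem htH hh0, ?_⟩
          rw [mul_smul, hh0eq, heq]
  intro j hj
  exact key _ j hj rfl

/-! ### The universal pair invariant -/

/-- The sum of the squares of the sizes of the intersections of the members of two families. -/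
def pairInv (A B : Finset (Finset GolayPt)) : ℕ := ∑ a ∈ A, ∑ b ∈ B, (a ∩ b).card ^ 2

theorem pairInv_smul (g : Equiv.Perm GolayPt) (A B : Finset (Finset GolayPt)) :
    pairInv (g • A) (g • B) = pairInv A B := by
  have hA : g • A = A.image (fun a => g • a) := rfl
  have hB : g • B = B.image (fun a => g • a) := rfl
  have hinj : Function.Injective (fun a : Finset GolayPt => g • a) := MulAction.injective g
  rw [pairInv, pairInv, hA, Finset.sum_image (fun x _ y _ h => hinj h)]
  apply Finset.sum_congr rfl
  intro a _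
  rw [hB, Finset.sum_image (fun x _ y _ h => hinj h)]
  apply Finset.sum_congr rfl
  intro b _
  rw [← Finset.smul_finset_inter, Finset.card_smul_finset]

theorem pairInv_of_smul_left {g : Equiv.Perm GolayPt} {A : Finset (Finset GolayPt)} (h : g • A = A)
    (B : Finset (Finset GolayPt)) : pairInv A (g • B) = pairInv A B := by
  conv_lhs => rw [← h]
  exact pairInv_smul g A B

/-- Mask-level inner sum. -/
def pairInvRow (x : ℕ) : List ℕ → ℕ
  | [] => 0
  | y :: l => Nat.add (Nat.mul (popc (Nat.land x y)) (popc (Nat.land x y))) (pairInvRow x l)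

/-- Mask-level pair invariant. -/
def pairInvL : List ℕ → List ℕ → ℕ
  | [], _ => 0
  | x :: l, l' => Nat.add (pairInvRow x l') (pairInvL l l')

theorem pairInvRow_eq (x : ℕ) (l : List ℕ) :
    pairInvRow x l = (l.map fun y => (setOf x ∩ setOf y).card ^ 2).sum := by
  induction l with
  | nil => simp [pairInvRow]
  | cons y l ih =>
    rw [pairInvRow, List.map_cons, List.sum_cons, ← ih, ← setOf_and, card_setOf, sq]
    rfl

theorem pairInvL_eq (l l' : List ℕ) :
    pairInvL l l' = (l.map fun x => (l'.map fun y => (setOf x ∩ setOf y).card ^ 2).sum).sum := by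
  induction l with
  | nil => simp [pairInvL]
  | cons x l ih =>
    rw [pairInvL, List.map_cons, List.sum_cons, ← ih, ← pairInvRow_eq]
    rfl

theorem setOf_nodup {l : List ℕ} (hl : l.Nodup) (hlt : ∀ x ∈ l, x < 2 ^ 24) : (l.map setOf).Nodup := by
  rw [List.nodup_map_iff_inj_on hl]
  intro x hx y hy h
  exact setOf_injOn (hlt x hx) (hlt y hy) h

theorem pairInv_objSetL {l l' : List ℕ} (hl : l.Nodup) (hlt : ∀ x ∈ l, x < 2 ^ 24)
    (hl' : l'.Nodup) (hlt' : ∀ x ∈ l', x < 2 ^ 24) :
    pairInv (objSetL l) (objSetL l') = pairInvL l l' := by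
  rw [pairInv, pairInvL_eq, objSetL, List.sum_toFinset _ (setOf_nodup hl hlt), List.map_map]
  congr 1
  apply List.map_congr_left
  intro x _
  simp only [Function.comp]
  rw [objSetL, List.sum_toFinset _ (setOf_nodup hl' hlt'), List.map_map]
  rfl

/-- Strictly increasing test, giving `Nodup`. -/
def incrL : List ℕ → Bool
  | [] => true
  | [_] => true
  | x :: y :: l => Nat.blt y x && incrL (y :: l)

theorem incrL_pairwise : ∀ l : List ℕ, incrL l = true → l.Pairwise (· > ·)
  | [], _ => List.Pairwise.nil
  | [_], _ => List.pairwise_singleton _ _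
  | x :: y :: l, h => by
    rw [incrL, Bool.and_eq_true] at h
    have ih := incrL_pairwise (y :: l) h.2
    have hxy : y < x := by simpa [Nat.blt_eq] using h.1
    rw [List.pairwise_cons]
    refine ⟨?_, ih⟩
    intro z hz
    rcases List.mem_cons.mp hz with rfl | hz
    · exact hxy
    · exact lt_trans ((List.pairwise_cons.mp ih).1 z hz) hxy

theorem incrL_nodup {l : List ℕ} (h : incrL l = true) : l.Nodup :=
  (incrL_pairwise l h).imp (fun h => ne_of_gt h)

/-- Two strictly decreasing lists with the same entries are equal. -/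
theorem eq_of_incrL {l l' : List ℕ} (h : incrL l = true) (h' : incrL l' = true)
    (hmem : ∀ x, x ∈ l ↔ x ∈ l') : l = l' := by
  have hp : l.Perm l' :=
    (List.perm_ext_iff_of_nodup (incrL_nodup h) (incrL_nodup h')).mpr hmem
  exact List.Perm.eq_of_pairwise (le := (· > ·)) (fun a b _ _ hab hba => absurd hab (lt_asymm hba))
    (incrL_pairwise l h) (incrL_pairwise l' h') hp

/-! ### Sorted packed families -/

theorem fldsAux_inj (A a B b n : ℕ) (h : fldsAux A a n = fldsAux B b n) :
    ∀ c < n, fld A (a + c) = fld B (b + c) := by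
  induction n with
  | zero => intro c hc; omega
  | succ n ih =>
    rw [fldsAux, fldsAux, List.cons.injEq] at h
    intro c hc
    rcases Nat.lt_succ_iff_lt_or_eq.mp hc with hc' | rfl
    · exact ih h.2 c hc'
    · exact h.1

theorem objAt_lt (W X j : ℕ) : objAt W X j < 2 ^ W := by
  apply Nat.lt_pow_two_of_testBit
  intro r hr
  rw [Bool.eq_false_iff]
  intro hcon
  rw [testBit_objAt] at hcon
  omega

/-- A packed object is determined by its list of fields. -/
theorem objAt_eq_of_flds (w X j X' j' : ℕ) (h : fldsAt w X j = fldsAt w X' j') :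
    objAt (24 * w) X j = objAt (24 * w) X' j' := by
  have hf := fldsAux_inj _ _ _ _ _ h
  apply Nat.eq_of_testBit_eq
  intro r
  rw [Bool.eq_iff_iff, testBit_objAt, testBit_objAt]
  have key : ∀ (Y i : ℕ), r < 24 * w →
      (Y.testBit (24 * w * i + r) = true ↔ (fld Y (w * i + r / 24)).testBit (r % 24) = true) := by
    intro Y i hr
    rw [testBit_fld]
    have e : 24 * (w * i + r / 24) + r % 24 = 24 * w * i + r := by
      have := Nat.div_add_mod r 24
      nlinarith
    rw [e]
    constructor
    · intro h; exact ⟨Nat.mod_lt _ (by norm_num), h⟩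
    · intro h; exact h.2
  constructor
  · rintro ⟨hr, hb⟩
    refine ⟨hr, ?_⟩
    rw [key X' j' hr]
    rw [key X j hr] at hb
    have := hf (r / 24) (by omega)
    show (fld X' (w * j' + r / 24)).testBit (r % 24) = true
    have e1 : fld X (Nat.mul w j + r / 24) = fld X (w * j + r / 24) := rfl
    have e2 : fld X' (Nat.mul w j' + r / 24) = fld X' (w * j' + r / 24) := rfl
    rw [← e2, ← this, e1]; exact hb
  · rintro ⟨hr, hb⟩
    refine ⟨hr, ?_⟩
    rw [key X j hr]
    rw [key X' j' hr] at hb
    have := hf (r / 24) (by omega)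
    have e1 : fld X (Nat.mul w j + r / 24) = fld X (w * j + r / 24) := rfl
    have e2 : fld X' (Nat.mul w j' + r / 24) = fld X' (w * j' + r / 24) := rfl
    rw [← e1, this, e2]; exact hb

/-- Sortedness test: the fields of each object are strictly increasing (in the field index) and
the packed objects are strictly increasing. -/
def sortedCheck (w N X : ℕ) : Bool :=
  allBelow (fun j => forceNat (objAt (Nat.mul 24 w) X j) fun B =>
    fldsK B w incrL &&
      (Nat.beq (Nat.succ j) N || Nat.blt B (objAt (Nat.mul 24 w) X (Nat.succ j)))) N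

theorem sortedCheck_iff (w N X : ℕ) : sortedCheck w N X = true ↔
    ∀ j < N, incrL (fldsAt w X j) = true ∧
      (j + 1 = N ∨ objAt (24 * w) X j < objAt (24 * w) X (j + 1)) := by
  rw [sortedCheck, allBelow_iff]
  apply forall_congr'
  intro j
  apply imp_congr_right
  intro _
  rw [forceNat_eq, fldsK_eq, fldsAux_objAt, Bool.and_eq_true, Bool.or_eq_true]
  apply and_congr Iff.rfl
  apply or_congr
  · constructor
    · intro h; exact Nat.eq_of_beq_eq_true h
    · intro h; show Nat.beq (j + 1) N = true; rw [h]; exact Nat.beq_refl N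
  · show Nat.blt _ _ = true ↔ _
    rw [Nat.blt_eq]; rfl

theorem sorted_strictMono {w N X : ℕ} (h : sortedCheck w N X = true) :
    ∀ j j', j < j' → j' < N → objAt (24 * w) X j < objAt (24 * w) X j' := by
  rw [sortedCheck_iff] at h
  intro j j' hjj'
  induction j' with
  | zero => omega
  | succ j' ih =>
    intro hN
    have hstep : objAt (24 * w) X j' < objAt (24 * w) X (j' + 1) := by
      rcases (h j' (by omega)).2 with h1 | h1
      · omega
      · exact h1
    rcases Nat.lt_succ_iff_lt_or_eq.mp hjj' with hlt | rfl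
    · exact lt_trans (ih hlt (by omega)) hstep
    · exact hstep

theorem sorted_nodup {w N X : ℕ} (h : sortedCheck w N X = true) (j : ℕ) (hj : j < N) :
    (fldsAt w X j).Nodup :=
  incrL_nodup (((sortedCheck_iff w N X).mp h) j hj).1

theorem fldsAt_lt (w X j : ℕ) : ∀ x ∈ fldsAt w X j, x < 2 ^ 24 := fldsAux_lt _ _ _

theorem fldsAt_length (w X j : ℕ) : (fldsAt w X j).length = w := by
  rw [fldsAt]
  have : ∀ n, (fldsAux X (Nat.mul w j) n).length = n := by
    intro n
    induction n with
    | zero => rfl
    | succ n ih => rw [fldsAux, List.length_cons, ih]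
  exact this w

theorem sorted_card {w N X : ℕ} (h : sortedCheck w N X = true) (j : ℕ) (hj : j < N) :
    (objS w X j).card = w := by
  rw [objS, objSetL, List.toFinset_card_of_nodup (setOf_nodup (sorted_nodup h j hj) (fldsAt_lt w X j)),
    List.length_map, fldsAt_length]

theorem mem_of_objSetL_eq {l l' : List ℕ} (hl : ∀ x ∈ l, x < 2 ^ 24) (hl' : ∀ x ∈ l', x < 2 ^ 24)
    (h : objSetL l = objSetL l') : ∀ x, x ∈ l ↔ x ∈ l' := by
  have aux : ∀ l l' : List ℕ, (∀ x ∈ l, x < 2 ^ 24) → (∀ x ∈ l', x < 2 ^ 24) →
      objSetL l = objSetL l' → ∀ x ∈ l, x ∈ l' := by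
    intro l l' hl hl' h x hx
    have : setOf x ∈ objSetL l' := by rw [← h]; exact mem_objSetL.mpr ⟨x, hx, rfl⟩
    obtain ⟨y, hy, hxy⟩ := mem_objSetL.mp this
    rw [setOf_injOn (hl x hx) (hl' y hy) hxy.symm]; exact hy
  intro x
  exact ⟨aux l l' hl hl' h x, aux l' l hl' hl h.symm x⟩

/-- In a sorted packed family, distinct indices give distinct objects. -/
theorem sorted_inj {w N X : ℕ} (h : sortedCheck w N X = true) :
    ∀ j < N, ∀ j' < N, objS w X j = objS w X j' → j = j' := by
  intro j hj j' hj' heq
  have h' := (sortedCheck_iff w N X).mp h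
  have hmem := mem_of_objSetL_eq (fldsAt_lt w X j) (fldsAt_lt w X j') heq
  have hl := eq_of_incrL (h' j hj).1 (h' j' hj').1 hmem
  have hobj := objAt_eq_of_flds w X j X j' hl
  rcases Nat.lt_trichotomy j j' with hlt | rfl | hgt
  · exact absurd hobj (ne_of_lt (sorted_strictMono h j j' hlt hj'))
  · rfl
  · exact absurd hobj.symm (ne_of_lt (sorted_strictMono h j' j hgt hj))

/-- One-field objects are singletons. -/
theorem objS_one (X j : ℕ) : objS 1 X j = {setOf (fld X j)} := by
  ext s
  rw [mem_objS, Finset.mem_singleton]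
  constructor
  · rintro ⟨c, hc, rfl⟩
    have : c = 0 := by omega
    subst this
    simp
  · rintro rfl
    exact ⟨0, by norm_num, by simp⟩

theorem smul_singleton_eq {g : Equiv.Perm GolayPt} {a b : Finset GolayPt}
    (h : g • ({a} : Finset (Finset GolayPt)) = {b}) : g • a = b := by
  rw [Finset.smul_finset_singleton] at h
  exact Finset.singleton_injective h

/-- Mask-level pair invariant of an object of a packed family against a reference list. -/
def invAt (R : List ℕ) (w X j : ℕ) : ℕ :=
  forceNat (objAt (Nat.mul 24 w) X j) fun B => fldsK B w fun l => pairInvL R l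

theorem invAt_eq {R : List ℕ} (hR : R.Nodup) (hRlt : ∀ x ∈ R, x < 2 ^ 24) {w N X : ℕ}
    (h : sortedCheck w N X = true) (j : ℕ) (hj : j < N) :
    pairInv (objSetL R) (objS w X j) = invAt R w X j := by
  rw [invAt, forceNat_eq, fldsK_eq, fldsAux_objAt, objS,
    pairInv_objSetL hR hRlt (sorted_nodup h j hj) (fldsAt_lt w X j)]

/-! ### Generators and stabilisers -/

theorem gens_ok_of_all {ts : List ℕ} (h : ts.all isM24 = true) :
    ∀ t ∈ ts, validPerm t = true ∧ tperm t ∈ M24 := by
  intro t ht
  have := List.all_eq_true.mp h t ht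
  exact ⟨isM24_valid this, tperm_mem_M24 this⟩

theorem smul_setOf_eq_of {t m : ℕ} (hv : validPerm t = true) (h : Nat.beq (applyP t 1 m) m = true) :
    tperm t • setOf m = setOf m := by
  rw [smul_setOf hv, Nat.eq_of_beq_eq_true h]

theorem smul_objSetL_eq_of {t : ℕ} {l : List ℕ} (hv : validPerm t = true)
    (h : seteq (l.map (applyP t 1)) l = true) : tperm t • objSetL l = objSetL l := by
  rw [smul_objSetL hv, objSetL_eq_of_seteq h]

/-! ### Lists of code words of a given weight -/

/-- Lookup test for a code mask of weight `wt`: the 12-bit entry of `LUT` at the information bits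
of `m` is the position of `m` in the packed list `L`. -/
def wtLookup (wt L LUT N m : ℕ) : Bool :=
  cond (Nat.beq (popc m) wt)
    (forceNat (Nat.land (Nat.shiftRight LUT (Nat.mul 12 (Nat.land m 4095))) 4095) fun J =>
      Nat.blt J N && Nat.beq (fld L J) m)
    true

theorem mem_wordsOfWeight_iff (o : Finset GolayPt) (wt : ℕ) :
    o ∈ wordsOfWeight (golayCode : Set (GolayPt → ZMod 2)) wt ↔
      ∃ m, m < 2 ^ 24 ∧ isCode m = true ∧ popc m = wt ∧ o = setOf m := by
  constructor
  · rintro ⟨hs, hc⟩
    refine ⟨maskOf o, maskOf_lt o, ?_, ?_, (setOf_maskOf o).symm⟩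
    · rw [← setOf_mem_supports_iff, setOf_maskOf]; exact hs
    · rw [← card_setOf, setOf_maskOf]; exact hc
  · rintro ⟨m, -, hc, hp, rfl⟩
    exact ⟨(setOf_mem_supports_iff m).mpr hc, by rw [card_setOf]; exact hp⟩

theorem wt_complete {wt L LUT N : ℕ} (h : allCode (wtLookup wt L LUT N) 12 0 = true) :
    ∀ o ∈ wordsOfWeight (golayCode : Set (GolayPt → ZMod 2)) wt, ∃ j < N, o = setOf (fld L j) := by
  intro o ho
  obtain ⟨m, hm, hc, hp, rfl⟩ := (mem_wordsOfWeight_iff o wt).mp ho
  have := forall_isCode _ h hm hc
  rw [wtLookup, hp, Nat.beq_refl, cond_true, forceNat_eq, Bool.and_eq_true] at this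
  exact ⟨_, by simpa [Nat.blt_eq] using this.1, congrArg setOf (Nat.eq_of_beq_eq_true this.2).symm⟩

/-- Membership test for the entries of a packed list of code masks of weight `wt`. -/
def wtMem (wt L j : ℕ) : Bool := forceNat (fld L j) fun m => isCode m && Nat.beq (popc m) wt

theorem wt_mem {wt L N : ℕ} (h : allBelow (wtMem wt L) N = true) :
    ∀ j < N, setOf (fld L j) ∈ wordsOfWeight (golayCode : Set (GolayPt → ZMod 2)) wt := by
  intro j hj
  have := (allBelow_iff _ _).mp h j hj
  rw [wtMem, forceNat_eq, Bool.and_eq_true] at this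
  exact (mem_wordsOfWeight_iff _ wt).mpr ⟨_, fld_lt L j, this.1, Nat.eq_of_beq_eq_true this.2, rfl⟩

/-- Transitivity on a complete one-field list from a class certificate with the single root `0`. -/
theorem wt_transitive {wt L N : ℕ} (H : Subgroup (Equiv.Perm GolayPt))
    (hcomp : ∀ o ∈ wordsOfWeight (golayCode : Set (GolayPt → ZMod 2)) wt, ∃ j < N, o = setOf (fld L j))
    (hcert : ∀ j < N, ∃ r ∈ [0], ∃ h ∈ H, h • objS 1 L r = objS 1 L j) :
    ∀ o ∈ wordsOfWeight (golayCode : Set (GolayPt → ZMod 2)) wt,
      ∀ o' ∈ wordsOfWeight (golayCode : Set (GolayPt → ZMod 2)) wt, ∃ g ∈ H, g • o = o' := by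
  have key : ∀ o ∈ wordsOfWeight (golayCode : Set (GolayPt → ZMod 2)) wt,
      ∃ g ∈ H, g • setOf (fld L 0) = o := by
    intro o ho
    obtain ⟨j, hj, rfl⟩ := hcomp o ho
    obtain ⟨r, hr, h, hh, heq⟩ := hcert j hj
    rw [List.mem_singleton] at hr
    subst hr
    rw [objS_one, objS_one] at heq
    exact ⟨h, hh, smul_singleton_eq heq⟩
  intro o ho o' ho'
  obtain ⟨g, hg, rfl⟩ := key o ho
  obtain ⟨g', hg', rfl⟩ := key o' ho'
  exact ⟨g' * g⁻¹, H.mul_mem hg' (H.inv_mem hg), by rw [mul_smul, inv_smul_smul]⟩

/-! ### Classification by an invariant -/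

section classes

variable {β : Type*} [MulAction (Equiv.Perm GolayPt) β]

/-- Generic classification: a list of objects covering `objs`, a class certificate for the
subgroup `H` and an `H`-invariant separating the roots give the `H`-orbits of the roots. -/
theorem classes_orbit (objs : Set β) (obj : ℕ → β) (N : ℕ)
    (hcomp : ∀ T ∈ objs, ∃ j < N, T = obj j) (hmem : ∀ j < N, obj j ∈ objs)
    (H : Subgroup (Equiv.Perm GolayPt)) (hH : ∀ h ∈ H, ∀ T ∈ objs, h • T ∈ objs)
    (inv : β → ℕ) (hinv : ∀ h ∈ H, ∀ T, inv (h • T) = inv T)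
    (invM : ℕ → ℕ) (hinvM : ∀ j < N, inv (obj j) = invM j)
    (rs : List ℕ) (hcert : ∀ j < N, ∃ r ∈ rs, ∃ h ∈ H, h • obj r = obj j)
    (hrs : ∀ r ∈ rs, r < N) (hdist : ∀ r ∈ rs, ∀ r' ∈ rs, invM r = invM r' → r = r')
    (r : ℕ) (hr : r ∈ rs) :
    {T | ∃ h ∈ H, h • obj r = T} = {T | T ∈ objs ∧ inv T = invM r} := by
  ext T
  simp only [Set.mem_ofPred_eq]
  constructor
  · rintro ⟨h, hh, rfl⟩
    exact ⟨hH h hh _ (hmem r (hrs r hr)), by rw [hinv h hh, hinvM r (hrs r hr)]⟩
  · rintro ⟨hT, hTinv⟩
    obtain ⟨j, hj, rfl⟩ := hcomp T hT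
    obtain ⟨r', hr', h, hh, hh'⟩ := hcert j hj
    have : invM r' = invM r := by
      rw [← hTinv, ← hh', hinv h hh, hinvM r' (hrs r' hr')]
    rw [hdist r' hr' r hr this] at hh'
    exact ⟨h, hh, hh'⟩

theorem classes_ncard (objs : Set β) (obj : ℕ → β) (N : ℕ)
    (hcomp : ∀ T ∈ objs, ∃ j < N, T = obj j) (hmem : ∀ j < N, obj j ∈ objs)
    (hinj : ∀ j < N, ∀ j' < N, obj j = obj j' → j = j')
    (inv : β → ℕ) (invM : ℕ → ℕ) (hinvM : ∀ j < N, inv (obj j) = invM j) (c : ℕ) :
    {T | T ∈ objs ∧ inv T = c}.ncard = cntBelow (fun j => Nat.beq (invM j) c) N := by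
  rw [cntBelow_eq]
  have himg : {T | T ∈ objs ∧ inv T = c} =
      obj '' (↑((Finset.range N).filter fun j => Nat.beq (invM j) c = true) : Set ℕ) := by
    ext T
    simp only [Set.mem_ofPred_eq, Set.mem_image, Finset.coe_filter, Finset.mem_range]
    constructor
    · rintro ⟨hT, hTinv⟩
      obtain ⟨j, hj, rfl⟩ := hcomp T hT
      refine ⟨j, ⟨hj, ?_⟩, rfl⟩
      rw [← hinvM j hj, hTinv]; exact Nat.beq_refl c
    · rintro ⟨j, ⟨hj, hb⟩, rfl⟩
      exact ⟨hmem j hj, by rw [hinvM j hj]; exact Nat.eq_of_beq_eq_true hb⟩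
  rw [himg, Set.InjOn.ncard_image, Set.ncard_coe_finset]
  intro j hj j' hj' h
  simp only [Finset.coe_filter, Finset.mem_range, Set.mem_ofPred_eq] at hj hj'
  exact hinj j hj.1 j' hj'.1 h

theorem classes_cover (objs : Set β) (obj : ℕ → β) (N : ℕ)
    (hcomp : ∀ T ∈ objs, ∃ j < N, T = obj j)
    (H : Subgroup (Equiv.Perm GolayPt))
    (rs : List ℕ) (hcert : ∀ j < N, ∃ r ∈ rs, ∃ h ∈ H, h • obj r = obj j) :
    ∀ T ∈ objs, ∃ r ∈ rs, ∃ h ∈ H, h • obj r = T := by
  intro T hT
  obtain ⟨j, hj, rfl⟩ := hcomp T hT
  exact hcert j hj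

end classes

end Cfsg.Agent.Lib.helper94
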