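/-
Bridge from helper9's stabiliser chain (list tables, normal forms of the four-point stabiliser)
to packed tables: framed enumerations of elements of `M24`, conjugacy certificates, and counts of
fixed objects.
-/
import Mathlib
import Cfsg.Prelude.Def_Sporadic_a
import Cfsg.Agent.Lib.helper94.M24Class
import Cfsg.Agent.Lib.helper9.M24NF
import Cfsg.Agent.Lib.helper9.M24Trans

set_option autoImplicit false
set_option linter.unusedSectionVars false

namespace Cfsg.Agent.Lib.helper94

open Cfsg
open scoped Pointwise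
open Cfsg.Agent.Lib.helper33 (IsTable validTbl exists_perm_of_validTbl)
open Cfsg.Agent.Lib.helper9 (idx pt bp base orbL t456 compT stabL mem_stabL nf4 chkTbl
  mem_M24_of_table isTable_mul idx_bp five_trans)

theorem idx_eq (p : GolayPt) : idx p = ptIdx p := by cases p <;> rfl

theorem pt_eq (i : ℕ) : pt i = idxPt i := rfl

/-! ### Packing list tables -/

/-- Pack a list table into a table with 5-bit fields. -/
def packList : List ℕ → ℕ
  | [] => 0
  | x :: l => Nat.add x (Nat.mul 32 (packList l))

theorem imgAt_packList (l : List ℕ) (h : ∀ x ∈ l, x < 32) (i : ℕ) :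
    imgAt (packList l) i = l.getD i 0 := by
  induction l generalizing i with
  | nil =>
    show ((0 : ℕ) >>> (5 * i)) &&& 31 = _
    simp
  | cons x l ih =>
    have hx : x < 32 := h x (List.mem_cons_self ..)
    have e : packList (x :: l) = x + 32 * packList l := rfl
    cases i with
    | zero =>
      show (packList (x :: l) >>> (5 * 0)) &&& 31 = _
      rw [e, Nat.mul_zero, Nat.shiftRight_zero, show (31 : ℕ) = 2 ^ 5 - 1 from rfl,
        Nat.and_two_pow_sub_one_eq_mod, List.getD_cons_zero]
      omega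
    | succ i =>
      rw [List.getD_cons_succ, ← ih (fun y hy => h y (List.mem_cons_of_mem _ hy)) i]
      show (packList (x :: l) >>> (5 * (i + 1))) &&& 31 = (packList l >>> (5 * i)) &&& 31
      rw [e, show 5 * (i + 1) = 5 + 5 * i by ring, Nat.shiftRight_add]
      congr 2
      rw [Nat.shiftRight_eq_div_pow]
      omega

theorem tperm_of_isTable {g : Equiv.Perm GolayPt} {tbl : List ℕ} (h : IsTable g tbl)
    (hv : validPerm (packList tbl) = true) : g = tperm (packList tbl) := by
  have hlt : ∀ x ∈ tbl, x < 32 := by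
    intro x hx
    obtain ⟨i, hi, rfl⟩ := List.getElem_of_mem hx
    have hi24 : i < 24 := by rw [← h.1]; exact hi
    have h1 := h.2 (pt i)
    rw [Cfsg.Agent.Lib.helper9.idx_pt hi24] at h1
    have h2 : tbl.getD i 0 = tbl[i] := by simp [hi]
    have h3 := Cfsg.Agent.Lib.helper9.idx_lt (g (pt i))
    omega
  ext p
  rw [tperm_apply hv, imgAt_packList tbl hlt, ← idx_eq, ← h.2 p, ← pt_eq,
    Cfsg.Agent.Lib.helper9.pt_idx]

/-! ### Framed enumeration -/

/-- Enumeration check over the coset `k * (pointwise stabiliser of the first four base points)`. -/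
def frameCheck (k : List ℕ) (P : ℕ → Bool) : Bool :=
  (orbL.getD 4 []).all fun c4 => (orbL.getD 5 []).all fun c5 => (orbL.getD 6 []).all fun c6 =>
    forceNat (packList (compT k (t456 c4 c5 c6))) fun E => validPerm E && P E

/-- Every element of `M24` with the same images of the first four base points as the table `k`
is one of the tables of the enumeration. -/
theorem frame4 (k kinv : List ℕ) (hk : validTbl k kinv = true) (hkM : chkTbl k = true)
    (P : ℕ → Bool) (hchk : frameCheck k P = true) (g : Equiv.Perm GolayPt) (hg : g ∈ M24)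
    (himg : ∀ j < 4, g (bp j) = pt (k.getD (base.getD j 0) 0)) :
    ∃ E, validPerm E = true ∧ P E = true ∧ g = tperm E := by
  obtain ⟨κ, hκ⟩ := exists_perm_of_validTbl k kinv hk
  have hκM : κ ∈ M24 := mem_M24_of_table κ k hκ.2 hkM
  have hs : κ⁻¹ * g ∈ stabL M24 4 := by
    rw [mem_stabL]
    refine ⟨M24.mul_mem (M24.inv_mem hκM) hg, fun j hj => ?_⟩
    show κ⁻¹ (g (bp j)) = bp j
    rw [Equiv.Perm.inv_eq_iff_eq, himg j hj, ← Cfsg.Agent.Lib.helper9.pt_idx (κ (bp j)), hκ.2,
      idx_bp j (by omega)]
  obtain ⟨c4, hc4, c5, hc5, c6, hc6, -, ht⟩ := nf4 _ hs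
  have hgt : IsTable g (compT k (t456 c4 c5 c6)) := by
    have := isTable_mul hκ ht
    rwa [mul_inv_cancel_left] at this
  rw [frameCheck, List.all_eq_true] at hchk
  have h1 := List.all_eq_true.mp (List.all_eq_true.mp (hchk c4 hc4) c5 hc5) c6 hc6
  rw [forceNat_eq, Bool.and_eq_true] at h1
  exact ⟨_, h1.1, h1.2, tperm_of_isTable hgt h1.1⟩

/-- Five distinct points can be moved to the first five base points. -/
theorem exists_frame (a b c d e : GolayPt) (hinj : [a, b, c, d, e].Nodup) :
    ∃ k ∈ M24, k a = bp 0 ∧ k b = bp 1 ∧ k c = bp 2 ∧ k d = bp 3 ∧ k e = bp 4 := by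
  have hx : Function.Injective ![a, b, c, d, e] := by
    rw [← List.nodup_ofFn]
    exact hinj
  have hy : Function.Injective (fun i : Fin 5 => bp i.val) := by
    intro i j hij
    have h1 : idx (bp i.val) = idx (bp j.val) := congrArg idx hij
    rw [idx_bp i.val (by omega), idx_bp j.val (by omega)] at h1
    revert h1
    revert i j
    decide
  obtain ⟨k, hk, h⟩ := five_trans ⟨![a, b, c, d, e], hx⟩ ⟨fun i : Fin 5 => bp i.val, hy⟩
  exact ⟨k, hk, h 0, h 1, h 2, h 3, h 4⟩

/-! ### Boolean properties of packed tables -/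

/-- The number of fixed indices of a table. -/
def fixCnt (E : ℕ) : ℕ := cntBelow (fun i => Nat.beq (imgAt E i) i) 24

theorem tperm_eq_iff {E : ℕ} (hv : validPerm E = true) (p : GolayPt) :
    tperm E p = p ↔ imgAt E (ptIdx p) = ptIdx p := by
  rw [tperm_apply hv]
  constructor
  · intro h
    have := congrArg ptIdx h
    rwa [ptIdx_idxPt (validPerm_lt hv _ (ptIdx_lt p))] at this
  · intro h
    rw [h, idxPt_ptIdx]

theorem card_fixed_tperm {E : ℕ} (hv : validPerm E = true) :
    (Finset.univ.filter fun p => tperm E p = p).card = fixCnt E := by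
  rw [fixCnt, cntBelow_eq]
  apply Finset.card_bij (fun p _ => ptIdx p)
  · intro p hp
    rw [Finset.mem_filter] at hp ⊢
    exact ⟨Finset.mem_range.mpr (ptIdx_lt p), by
      rw [(tperm_eq_iff hv p).mp hp.2]; exact Nat.beq_refl _⟩
  · intro p _ q _ h
    exact ptIdx_injective h
  · intro i hi
    rw [Finset.mem_filter, Finset.mem_range] at hi
    refine ⟨idxPt i, ?_, ptIdx_idxPt hi.1⟩
    rw [Finset.mem_filter]
    refine ⟨Finset.mem_univ _, ?_⟩
    rw [tperm_eq_iff hv, ptIdx_idxPt hi.1]
    exact Nat.eq_of_beq_eq_true hi.2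

/-- Iterated image of an index. -/
def powImg (E : ℕ) : ℕ → ℕ → ℕ
  | 0, i => i
  | n + 1, i => imgAt E (powImg E n i)

theorem tperm_pow_idxPt {E : ℕ} (hv : validPerm E = true) (n i : ℕ) (hi : i < 24) :
    powImg E n i < 24 ∧ (tperm E ^ n) (idxPt i) = idxPt (powImg E n i) := by
  induction n with
  | zero => exact ⟨hi, by simp [powImg]⟩
  | succ n ih =>
    refine ⟨validPerm_lt hv _ ih.1, ?_⟩
    rw [pow_succ', Equiv.Perm.mul_apply, ih.2, tperm_idxPt hv ih.1]
    rfl

/-- The `n`-th power of a table is the identity. -/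
def powOne (E n : ℕ) : Bool := allBelow (fun i => Nat.beq (powImg E n i) i) 24

theorem powOne_iff {E : ℕ} (hv : validPerm E = true) (n : ℕ) :
    powOne E n = true ↔ tperm E ^ n = 1 := by
  rw [powOne, allBelow_iff]
  constructor
  · intro h
    ext p
    have h1 := tperm_pow_idxPt hv n (ptIdx p) (ptIdx_lt p)
    rw [idxPt_ptIdx] at h1
    rw [h1.2, Nat.eq_of_beq_eq_true (h _ (ptIdx_lt p)), idxPt_ptIdx]
    rfl
  · intro h i hi
    have h1 := tperm_pow_idxPt hv n i hi
    rw [h, Equiv.Perm.one_apply] at h1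
    have := congrArg ptIdx h1.2
    rw [ptIdx_idxPt hi, ptIdx_idxPt h1.1] at this
    rw [← this]
    exact Nat.beq_refl _

/-- Conjugation test on tables: `C * X = E * C`. -/
def conjOK (C X E : ℕ) : Bool :=
  allBelow (fun i => Nat.beq (imgAt C (imgAt X i)) (imgAt E (imgAt C i))) 24

theorem tperm_conj {C X E : ℕ} (hC : validPerm C = true) (hX : validPerm X = true)
    (hE : validPerm E = true) (h : conjOK C X E = true) :
    tperm E = tperm C * tperm X * (tperm C)⁻¹ := by
  have key : tperm E * tperm C = tperm C * tperm X := by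
    ext p
    rw [Equiv.Perm.mul_apply, Equiv.Perm.mul_apply, tperm_apply hC p,
      tperm_idxPt hE (validPerm_lt hC _ (ptIdx_lt p)), tperm_apply hX p,
      tperm_idxPt hC (validPerm_lt hX _ (ptIdx_lt p))]
    rw [conjOK, allBelow_iff] at h
    rw [Nat.eq_of_beq_eq_true (h _ (ptIdx_lt p))]
  rw [← key, mul_inv_cancel_right]

/-- Lookup in a list of conjugacy certificates `(E, C, r)`. -/
def lookupN (E : ℕ) : List (ℕ × ℕ × ℕ) → Option (ℕ × ℕ)
  | [] => none
  | (e, c, r) :: l => cond (Nat.beq E e) (some (c, r)) (lookupN E l)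

/-- Class certificate test: if `hyp E` holds then `E` is conjugate, by a table in `M24` found in
`certs`, to one of the representatives `reps`. -/
def classP (hyp : ℕ → Bool) (reps : List ℕ) (certs : List (ℕ × ℕ × ℕ)) (E : ℕ) : Bool :=
  !(hyp E) || (match lookupN E certs with
    | some (C, r) => (match reps[r]? with
        | some X => isM24 C && conjOK C X E
        | none => false)
    | none => false)

theorem classP_sound {hyp : ℕ → Bool} {reps : List ℕ} {certs : List (ℕ × ℕ × ℕ)} {E : ℕ}
    (h : classP hyp reps certs E = true) (hE : hyp E = true) (hv : validPerm E = true)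
    (hreps : ∀ X ∈ reps, validPerm X = true) :
    ∃ X ∈ reps, ∃ c ∈ M24, tperm E = c * tperm X * c⁻¹ := by
  rw [classP, hE] at h
  simp only [Bool.not_true, Bool.false_or] at h
  cases hl : lookupN E certs with
  | none => rw [hl] at h; exact absurd h (by simp)
  | some cr =>
    obtain ⟨C, r⟩ := cr
    rw [hl] at h
    cases hr : reps[r]? with
    | none => simp only [hr] at h; exact absurd h (by simp)
    | some X =>
      simp only [hr, Bool.and_eq_true] at h
      have hX : X ∈ reps := List.mem_of_getElem? hr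
      exact ⟨X, hX, tperm C, tperm_mem_M24 h.1,
        tperm_conj (isM24_valid h.1) (hreps X hX) hv h.2⟩

/-! ### Conjugation and fixed points / fixed objects -/

theorem card_fixed_conj (k g : Equiv.Perm GolayPt) :
    (Finset.univ.filter fun p => (k * g * k⁻¹) p = p).card
      = (Finset.univ.filter fun p => g p = p).card := by
  symm
  apply Finset.card_bij (fun p _ => k p)
  · intro p hp
    rw [Finset.mem_filter] at hp ⊢
    refine ⟨Finset.mem_univ _, ?_⟩
    simp [hp.2]
  · intro p _ q _ h
    exact k.injective h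
  · intro q hq
    rw [Finset.mem_filter] at hq
    refine ⟨k⁻¹ q, ?_, by simp⟩
    rw [Finset.mem_filter]
    refine ⟨Finset.mem_univ _, ?_⟩
    have := hq.2
    simp only [Equiv.Perm.mul_apply] at this
    apply k.injective
    rw [this]
    simp

section fixedObjects

variable {β : Type*} [MulAction (Equiv.Perm GolayPt) β]

theorem ncard_fixed_conj (objs : Set β) (hobjs : ∀ g ∈ M24, ∀ T ∈ objs, g • T ∈ objs)
    (c x : Equiv.Perm GolayPt) (hc : c ∈ M24) :
    {T | T ∈ objs ∧ (c * x * c⁻¹) • T = T}.ncard = {T | T ∈ objs ∧ x • T = T}.ncard := by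
  have h : {T | T ∈ objs ∧ (c * x * c⁻¹) • T = T} = (fun T => c • T) '' {T | T ∈ objs ∧ x • T = T} := by
    ext T
    simp only [Set.mem_ofPred_eq, Set.mem_image]
    constructor
    · rintro ⟨hT, hfix⟩
      refine ⟨c⁻¹ • T, ⟨hobjs _ (M24.inv_mem hc) T hT, ?_⟩, smul_inv_smul c T⟩
      have := congrArg (fun S => c⁻¹ • S) hfix
      simpa only [mul_smul, inv_smul_smul] using this
    · rintro ⟨T', ⟨hT', hfix⟩, rfl⟩
      refine ⟨hobjs c hc T' hT', ?_⟩
      simp only [mul_smul, inv_smul_smul, hfix]
  rw [h, Set.ncard_image_of_injective _ (MulAction.injective c)]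

/-- Counting the objects of a complete list with a Boolean property. -/
theorem ncard_of_list (objs : Set β) (obj : ℕ → β) (N : ℕ)
    (hcomp : ∀ T ∈ objs, ∃ j < N, T = obj j) (hmem : ∀ j < N, obj j ∈ objs)
    (hinj : ∀ j < N, ∀ j' < N, obj j = obj j' → j = j')
    (Q : β → Prop) (f : ℕ → Bool) (hf : ∀ j < N, (Q (obj j) ↔ f j = true)) :
    {T | T ∈ objs ∧ Q T}.ncard = cntBelow f N := by
  rw [cntBelow_eq]
  have himg : {T | T ∈ objs ∧ Q T} =
      obj '' (↑((Finset.range N).filter fun j => f j = true) : Set ℕ) := by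
    ext T
    simp only [Set.mem_ofPred_eq, Set.mem_image, Finset.coe_filter, Finset.mem_range]
    constructor
    · rintro ⟨hT, hQ⟩
      obtain ⟨j, hj, rfl⟩ := hcomp T hT
      exact ⟨j, ⟨hj, (hf j hj).mp hQ⟩, rfl⟩
    · rintro ⟨j, ⟨hj, hb⟩, rfl⟩
      exact ⟨hmem j hj, (hf j hj).mpr hb⟩
  rw [himg, Set.InjOn.ncard_image, Set.ncard_coe_finset]
  intro j hj j' hj' h
  simp only [Finset.coe_filter, Finset.mem_range, Set.mem_ofPred_eq] at hj hj'
  exact hinj j hj.1 j' hj'.1 h

end fixedObjects

/-- Fixed-object test for the `j`-th object of a packed family `X` with image family `Y`. -/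
def fixAt (w X Y j : ℕ) : Bool :=
  forceNat (objAt (Nat.mul 24 w) Y j) fun A => forceNat (objAt (Nat.mul 24 w) X j) fun B =>
    fldsK A w fun la => fldsK B w fun lb => subL la lb

theorem fixAt_iff {t : ℕ} (hv : validPerm t = true) {w N X : ℕ} (j : ℕ) (hj : j < N) :
    tperm t • objS w X j = objS w X j ↔ fixAt w X (applyP t (onesN (Nat.mul w N)) X) j = true := by
  rw [fixAt, forceNat_eq, forceNat_eq, fldsK_eq, fldsK_eq, fldsAux_objAt, fldsAux_objAt, subL_iff,
    smul_objS hv w N X j hj]
  constructor
  · intro h x hx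
    have hmem := mem_of_objSetL_eq (fldsAt_lt w _ j) (fldsAt_lt w X j) h
    exact (hmem x).mp hx
  · intro h
    apply Finset.eq_of_subset_of_card_le
    · intro s hs
      rw [objS, mem_objSetL] at hs ⊢
      obtain ⟨x, hx, rfl⟩ := hs
      exact ⟨x, h x hx, rfl⟩
    · rw [← smul_objS hv w N X j hj, Finset.card_smul_finset]

/-- Counting the fixed objects of a table permutation in a family of sets of sets. -/
theorem ncard_fixed_sets (objs : Set (Finset (Finset GolayPt))) (w N X : ℕ)
    (hsorted : sortedCheck w N X = true)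
    (hcomp : ∀ T ∈ objs, ∃ j < N, T = objS w X j) (hmem : ∀ j < N, objS w X j ∈ objs)
    {t : ℕ} (hv : validPerm t = true) :
    {T | T ∈ objs ∧ tperm t • T = T}.ncard
      = forceNat (applyP t (onesN (Nat.mul w N)) X) fun Y => cntBelow (fixAt w X Y) N := by
  rw [forceNat_eq]
  exact ncard_of_list objs (fun j => objS w X j) N hcomp hmem (sorted_inj hsorted)
    (fun T => tperm t • T = T) _ (fun j hj => fixAt_iff hv j hj)

/-- Counting the fixed sets of a table permutation in a family of sets. -/
theorem ncard_fixed_pts (objs : Set (Finset GolayPt)) (N X : ℕ)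
    (hsorted : sortedCheck 1 N X = true)
    (hcomp : ∀ T ∈ objs, ∃ j < N, T = setOf (fld X j)) (hmem : ∀ j < N, setOf (fld X j) ∈ objs)
    {t : ℕ} (hv : validPerm t = true) :
    {T | T ∈ objs ∧ tperm t • T = T}.ncard
      = forceNat (applyP t (onesN N) X) fun Y =>
          cntBelow (fun j => Nat.beq (fld Y j) (fld X j)) N := by
  rw [forceNat_eq]
  apply ncard_of_list objs (fun j => setOf (fld X j)) N hcomp hmem
    (fun j hj j' hj' h => sorted_inj hsorted j hj j' hj' (by rw [objS_one, objS_one, h]))
    (fun T => tperm t • T = T)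
  intro j hj
  rw [fld_applyP hv N X j hj, smul_setOf hv]
  constructor
  · intro h
    rw [setOf_injOn (applyP_lt hv _) (fld_lt X j) h]
    exact Nat.beq_refl _
  · intro h
    rw [Nat.eq_of_beq_eq_true h]

end Cfsg.Agent.Lib.helper94
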