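/-
Miscellaneous facts on masks and the action of permutations on sets of points.
-/
import Mathlib
import Cfsg.Prelude.Def_Sporadic_a
import Cfsg.Agent.Lib.helper94.M24Class

set_option autoImplicit false
set_option linter.unusedSectionVars false

namespace Cfsg.Agent.Lib.helper94

open Cfsg
open scoped Pointwise

/-- The complement of the set of a mask. -/
theorem setOf_compl (m : ℕ) : setOf (16777215 ^^^ m) = Finset.univ \ setOf m := by
  ext p
  rw [mem_setOf, Finset.mem_sdiff, mem_setOf, Nat.testBit_xor]
  have h : (16777215 : ℕ).testBit (ptIdx p) = true := (testBit_full _).mpr (ptIdx_lt p)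
  rw [h]
  simp

theorem objSetL_pair (a b : ℕ) : objSetL [a, b] = {setOf a, setOf b} := by
  ext s
  simp [mem_objSetL, eq_comm]

theorem objSetL_single (a : ℕ) : objSetL [a] = {setOf a} := by
  ext s
  simp [mem_objSetL, eq_comm]

theorem smul_univ_sdiff (g : Equiv.Perm GolayPt) (s : Finset GolayPt) :
    g • (Finset.univ \ s) = Finset.univ \ g • s := by
  rw [Finset.smul_finset_sdiff, Finset.smul_finset_univ]

theorem smul_pair (g : Equiv.Perm GolayPt) (a b : Finset GolayPt) :
    g • ({a, b} : Finset (Finset GolayPt)) = {g • a, g • b} := by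
  ext s
  simp only [Finset.mem_smul_finset, Finset.mem_insert, Finset.mem_singleton]
  constructor
  · rintro ⟨y, (rfl | rfl), rfl⟩
    · exact Or.inl rfl
    · exact Or.inr rfl
  · rintro (rfl | rfl)
    · exact ⟨a, Or.inl rfl, rfl⟩
    · exact ⟨b, Or.inr rfl, rfl⟩

end Cfsg.Agent.Lib.helper94
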