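import Mathlib
import Cfsg.Agent.Lib.helper44.SUWDefs

/-!
# S2335, piece NC: a skew-Hermitian matrix moved by a congruence of determinant one
-/

set_option autoImplicit false

namespace Cfsg.Agent.Lib.helper44.SUW

open Matrix

/-- The `q`-power map is not the identity on a field with `q ^ 2` elements. -/
theorem h94_exists_frob_ne {K : Type*} [Field K] [Fintype K] {q : ℕ}
    (hK : Fintype.card K = q ^ 2) : ∃ θ : K, θ ^ q ≠ θ := by
  classical
  by_contra h
  push_neg at h
  have hq : 1 < q := by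
    have h1 : 1 < Fintype.card K := Fintype.one_lt_card
    rw [hK] at h1
    by_contra hq
    have : q = 0 ∨ q = 1 := by omega
    rcases this with rfl | rfl <;> simp at h1
  have hne := FiniteField.X_pow_card_sub_X_ne_zero K hq
  have hdeg := FiniteField.X_pow_card_sub_X_natDegree_eq K hq
  have hsub : (Finset.univ : Finset K) ⊆
      (Polynomial.X ^ q - Polynomial.X : Polynomial K).roots.toFinset := by
    intro x _
    rw [Multiset.mem_toFinset, Polynomial.mem_roots hne]
    simp [h x]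
  have h1 := Finset.card_le_card hsub
  have h2 := Multiset.toFinset_card_le (Polynomial.X ^ q - Polynomial.X : Polynomial K).roots
  have h3 := Polynomial.card_roots' (Polynomial.X ^ q - Polynomial.X : Polynomial K)
  rw [Finset.card_univ, hK] at h1
  rw [hdeg] at h3
  nlinarith

/-- NC (S) -/
theorem exists_moved {K : Type*} [Field K] [Fintype K] {q m : ℕ} (hK : Fintype.card K = q ^ 2)
    (hm : 2 ≤ m) (σ : K →+* K) (hσ : ∀ x, σ x = x ^ q) :
    ∃ C ∈ skewH σ m, ∃ B : Matrix (Fin m) (Fin m) K, B.det = 1 ∧ B * C * (B.map σ)ᵀ ≠ C := by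
  classical
  obtain ⟨θ, hθ⟩ := h94_exists_frob_ne hK
  have hσσ : ∀ x, σ (σ x) = x := by
    intro x
    rw [hσ, hσ, ← pow_mul, ← sq, ← hK]
    exact FiniteField.pow_card x
  obtain ⟨i0, i1, h01⟩ : ∃ i0 i1 : Fin m, i1 ≠ i0 :=
    ⟨⟨0, by omega⟩, ⟨1, by omega⟩, by simp [Fin.ext_iff]⟩
  obtain ⟨ε₀, hε₀def⟩ : ∃ ε₀ : K, ε₀ = θ - σ θ := ⟨_, rfl⟩
  have hε₀ : ε₀ ≠ 0 := by
    rw [hε₀def]
    exact sub_ne_zero.2 (by rw [hσ]; exact fun h => hθ h.symm)
  have hσε : σ ε₀ = -ε₀ := by
    rw [hε₀def, map_sub, hσσ]; ring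
  refine ⟨Matrix.single i0 i0 ε₀, ?_, Matrix.transvection i1 i0 1,
    Matrix.det_transvection_of_ne i1 i0 h01 1, ?_⟩
  · intro i j
    by_cases hi : i = i0
    · by_cases hj : j = i0
      · subst hi; subst hj; simp [hσε]
      · subst hi
        simp [Matrix.single_apply, hj, Ne.symm hj]
    · simp [Matrix.single_apply, hi, Ne.symm hi]
  · intro h
    have h2 := congrFun (congrFun h i1) i0
    simp [Matrix.transvection, Matrix.mul_apply, Matrix.add_apply, Matrix.single_apply,
      Matrix.one_apply, h01, Ne.symm h01, Finset.sum_ite_eq, Finset.sum_ite_eq'] at h2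
    exact hε₀ h2

end Cfsg.Agent.Lib.helper44.SUW
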