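import Mathlib
import Cfsg.Agent.Lib.helper49.SPEDefs

/-! S2333 split (architect helper49), piece GAM2: `qfy (conjY B y) x = qfy y (B *ᵥ x)`. -/

set_option autoImplicit false

namespace Cfsg.Agent.Lib.helper49.SPE

open Matrix

theorem h94_sum_sym {F : Type*} [Field F] {n : ℕ} (f : Fin n → Fin n → F) :
    ∑ i, ∑ j, (if i ≤ j then (if i = j then f i i else f i j + f j i) else 0) =
      ∑ i, ∑ j, f i j := by
  have h1 : ∀ i j : Fin n, (if i ≤ j then (if i = j then f i i else f i j + f j i) else 0) =
      (if i < j then f i j else 0) + (if i < j then f j i else 0) +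
        (if i = j then f i j else 0) := by
    intro i j
    rcases lt_trichotomy i j with h | h | h
    · simp [h, h.le, h.ne]
    · subst h; simp
    · simp [h.not_ge, h.not_gt, h.ne']
  have h2 : ∀ i j : Fin n, f i j = (if i < j then f i j else 0) + (if j < i then f i j else 0) +
      (if i = j then f i j else 0) := by
    intro i j
    rcases lt_trichotomy i j with h | h | h
    · simp [h, h.not_gt, h.ne]
    · subst h; simp
    · simp [h, h.not_gt, h.ne']
  have h3 : ∑ i : Fin n, ∑ j : Fin n, (if i < j then f j i else 0) =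
      ∑ i : Fin n, ∑ j : Fin n, (if j < i then f i j else 0) := Finset.sum_comm
  calc ∑ i, ∑ j, (if i ≤ j then (if i = j then f i i else f i j + f j i) else 0)
      = ∑ i, ∑ j, ((if i < j then f i j else 0) + (if i < j then f j i else 0) +
          (if i = j then f i j else 0)) :=
        Finset.sum_congr rfl (fun i _ => Finset.sum_congr rfl (fun j _ => h1 i j))
    _ = (∑ i, ∑ j, (if i < j then f i j else 0)) + (∑ i, ∑ j, (if i < j then f j i else 0)) +
          ∑ i, ∑ j, (if i = j then f i j else 0) := by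
        simp only [Finset.sum_add_distrib]
    _ = (∑ i, ∑ j, (if i < j then f i j else 0)) + (∑ i, ∑ j, (if j < i then f i j else 0)) +
          ∑ i, ∑ j, (if i = j then f i j else 0) := by rw [h3]
    _ = ∑ i, ∑ j, ((if i < j then f i j else 0) + (if j < i then f i j else 0) +
          (if i = j then f i j else 0)) := by
        simp only [Finset.sum_add_distrib]
    _ = ∑ i, ∑ j, f i j :=
        Finset.sum_congr rfl (fun i _ => Finset.sum_congr rfl (fun j _ => (h2 i j).symm))

theorem h94_qf_dot {F : Type*} [Field F] {n : ℕ} (M : Matrix (Fin n) (Fin n) F)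
    (x : Fin n → F) : ∑ i, ∑ j, M i j * x i * x j = x ⬝ᵥ (M *ᵥ x) := by
  simp only [dotProduct, Matrix.mulVec, Finset.mul_sum]
  exact Finset.sum_congr rfl (fun i _ => Finset.sum_congr rfl (fun j _ => by ring))

theorem h94_qfy_syM {F : Type*} [Field F] {n : ℕ} (M : Matrix (Fin n) (Fin n) F)
    (x : Fin n → F) : qfy (syM M) x = ∑ i, ∑ j, M i j * x i * x j := by
  rw [← h94_sum_sym (fun i j => M i j * x i * x j)]
  unfold qfy
  refine Finset.sum_congr rfl (fun i _ => Finset.sum_congr rfl (fun j _ => ?_))
  unfold upT syM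
  by_cases h : i ≤ j
  · by_cases h' : i = j
    · subst h'; simp
    · simp only [if_pos h, if_neg h']; ring
  · simp [h]

/-- GAM2 (M) -/
theorem qfy_conj {F : Type*} [Field F] {n : ℕ} (B y : Matrix (Fin n) (Fin n) F) (x : Fin n → F) :
    qfy (conjY B y) x = qfy y (B *ᵥ x) := by
  unfold conjY
  rw [h94_qfy_syM, h94_qf_dot]
  have h : qfy y (B *ᵥ x) = (B *ᵥ x) ⬝ᵥ (upT y *ᵥ (B *ᵥ x)) := by
    unfold qfy; exact h94_qf_dot _ _
  rw [h, ← Matrix.mulVec_mulVec, ← Matrix.mulVec_mulVec, Matrix.dotProduct_mulVec,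
    Matrix.vecMul_transpose]

end Cfsg.Agent.Lib.helper49.SPE
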