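import Mathlib
import Cfsg.Agent.Lib.helper49.SPEDefs

/-! S2333 split (architect helper49), piece THCARD: counting the triples of case H. -/

set_option autoImplicit false

namespace Cfsg.Agent.Lib.helper49.SPE

open Matrix

/-- THCARD (M/L) -/
theorem card_hyp_triples {F : Type*} [Field F] [Fintype F] (h2 : (2 : F) = 0) :
    Fintype.card F * (Fintype.card F - 1) * (Fintype.card F + 1) ≤
      2 * Nat.card {p : F × F × F //
        p.2.1 ≠ 0 ∧ (p.1 = 0 ∨ ∃ t : F, p.1 * t ^ 2 + p.2.1 * t + p.2.2 = 0)} := by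
  classical
  set q := Fintype.card F with hq
  set T : Finset (F × F × F) := Finset.univ.filter (fun p =>
    p.2.1 ≠ 0 ∧ (p.1 = 0 ∨ ∃ t : F, p.1 * t ^ 2 + p.2.1 * t + p.2.2 = 0)) with hT
  have hcard : Nat.card {p : F × F × F //
      p.2.1 ≠ 0 ∧ (p.1 = 0 ∨ ∃ t : F, p.1 * t ^ 2 + p.2.1 * t + p.2.2 = 0)} = T.card := by
    rw [Nat.card_eq_fintype_card, Fintype.card_subtype]
  rw [hcard]
  have h1 : (q - 1) * q ≤ (T.filter (fun p => p.1 = 0)).card := by
    have h : (Finset.univ : Finset (Fˣ × F)).card ≤ (T.filter (fun p => p.1 = 0)).card := by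
      apply Finset.card_le_card_of_injOn (fun x => ((0 : F), (x.1 : F), x.2))
      · intro x _
        rw [Finset.mem_coe, Finset.mem_filter, hT, Finset.mem_filter]
        exact ⟨⟨Finset.mem_univ _, x.1.ne_zero, Or.inl rfl⟩, rfl⟩
      · intro x _ y _ hxy
        simp only [Prod.mk.injEq] at hxy
        exact Prod.ext (Units.ext hxy.2.1) hxy.2.2
    simpa [Finset.card_univ, Fintype.card_prod, Fintype.card_units] using h
  have h2' : (q - 1) * ((q - 1) * q) ≤ 2 * (T.filter (fun p => ¬ p.1 = 0)).card := by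
    have h : (Finset.univ : Finset (Fˣ × Fˣ × F)).card ≤
        2 * (T.filter (fun p => ¬ p.1 = 0)).card := by
      apply Finset.card_le_mul_card_image_of_maps_to
        (f := fun x : Fˣ × Fˣ × F =>
          ((x.1 : F), (x.2.1 : F), -((x.1 : F) * x.2.2 ^ 2 + (x.2.1 : F) * x.2.2)))
      · intro x _
        simp only [hT, Finset.mem_filter, Finset.mem_univ, true_and]
        exact ⟨⟨x.2.1.ne_zero, Or.inr ⟨x.2.2, by ring⟩⟩, x.1.ne_zero⟩
      · intro p _
        by_contra hlt
        push Not at hlt
        obtain ⟨d1, d2, d3, hd1, hd2, hd3, h12, h13, h23⟩ := Finset.two_lt_card_iff.1 hlt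
        simp only [Finset.mem_filter, Finset.mem_univ, true_and] at hd1 hd2 hd3
        obtain ⟨a1, b1, t1⟩ := d1
        obtain ⟨a2, b2, t2⟩ := d2
        obtain ⟨a3, b3, t3⟩ := d3
        have e12 := hd1.trans hd2.symm
        have e13 := hd1.trans hd3.symm
        simp only [Prod.mk.injEq, neg_inj] at e12 e13
        obtain ⟨ha12, hb12, ht12⟩ := e12
        obtain ⟨ha13, hb13, ht13⟩ := e13
        have ha12' : a1 = a2 := Units.ext ha12
        have ha13' : a1 = a3 := Units.ext ha13
        have hb12' : b1 = b2 := Units.ext hb12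
        have hb13' : b1 = b3 := Units.ext hb13
        subst ha12' ha13' hb12' hb13'
        have n12 : t1 ≠ t2 := fun h => h12 (by rw [h])
        have n13 : t1 ≠ t3 := fun h => h13 (by rw [h])
        have n23 : t2 ≠ t3 := fun h => h23 (by rw [h])
        have k12 : (a1 : F) * (t1 + t2) + (b1 : F) = 0 := by
          have h : (t1 - t2) * ((a1 : F) * (t1 + t2) + (b1 : F)) = 0 := by linear_combination ht12
          rcases mul_eq_zero.1 h with h | h
          · exact absurd (sub_eq_zero.1 h) n12
          · exact h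
        have k13 : (a1 : F) * (t1 + t3) + (b1 : F) = 0 := by
          have h : (t1 - t3) * ((a1 : F) * (t1 + t3) + (b1 : F)) = 0 := by linear_combination ht13
          rcases mul_eq_zero.1 h with h | h
          · exact absurd (sub_eq_zero.1 h) n13
          · exact h
        have k : (a1 : F) * (t2 - t3) = 0 := by linear_combination k12 - k13
        rcases mul_eq_zero.1 k with h | h
        · exact a1.ne_zero h
        · exact n23 (sub_eq_zero.1 h)
    simpa [Finset.card_univ, Fintype.card_prod, Fintype.card_units] using h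
  have h3 := Finset.card_filter_add_card_filter_not (s := T) (fun p => p.1 = 0)
  have hq1 : 1 ≤ q := Fintype.card_pos
  obtain ⟨m, hm⟩ : ∃ m, q = m + 1 := ⟨q - 1, by omega⟩
  rw [hm] at h1 h2' ⊢
  simp only [Nat.add_sub_cancel] at h1 h2' ⊢
  have e : (m + 1) * m * (m + 1 + 1) = 2 * (m * (m + 1)) + m * (m * (m + 1)) := by ring
  rw [e]
  omega

end Cfsg.Agent.Lib.helper49.SPE
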