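import Mathlib
import Cfsg.Prelude.Def_Classical

set_option autoImplicit false

/-!
# The module of the Hermitian unital (helper94; shared definitions for S3663)

`u34M K` is the group of the functions `K³ → ZMod 5` which are constant on lines through `0`,
vanish off the isotropic vectors of the Hermitian form `hermForm 3 K 4`, and have zero sum on every
block `{w, u + c w : c ^ 4 = c}` (`u`, `w` isotropic, `(u, w) = 1`) of the Hermitian unital.
`u34M0 K` is the subgroup of those that are constant on the isotropic vectors.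
-/

namespace Cfsg.Agent.Lib.helper94

open Cfsg

/-- the isotropic vectors, other than `0` -/
def u34Iso (K : Type) [Field K] (v : Fin 3 → K) : Prop := hermForm 3 K 4 v v = 0 ∧ v ≠ 0

/-- functions constant on lines, supported on the isotropic vectors, with zero sum on each block -/
def u34M (K : Type) [Field K] [Fintype K] [DecidableEq K] :
    AddSubgroup ((Fin 3 → K) → ZMod 5) where
  carrier := {φ | (∀ (c : K) (v : Fin 3 → K), c ≠ 0 → φ (c • v) = φ v) ∧
    (∀ v : Fin 3 → K, ¬ u34Iso K v → φ v = 0) ∧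
    (∀ u w : Fin 3 → K, hermForm 3 K 4 u u = 0 → hermForm 3 K 4 w w = 0 →
      hermForm 3 K 4 u w = 1 →
      φ w + ∑ c ∈ Finset.univ.filter (fun c : K => c ^ 4 = c), φ (u + c • w) = 0)}
  add_mem' := by
    rintro φ ψ ⟨h1, h2, h3⟩ ⟨k1, k2, k3⟩
    refine ⟨fun c v hc => ?_, fun v hv => ?_, fun u w hu hw huw => ?_⟩
    · show φ (c • v) + ψ (c • v) = φ v + ψ v
      rw [h1 c v hc, k1 c v hc]
    · show φ v + ψ v = 0
      rw [h2 v hv, k2 v hv, add_zero]
    · show φ w + ψ w + ∑ c ∈ Finset.univ.filter (fun c : K => c ^ 4 = c),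
        (φ (u + c • w) + ψ (u + c • w)) = 0
      rw [Finset.sum_add_distrib]
      have e1 := h3 u w hu hw huw
      have e2 := k3 u w hu hw huw
      linear_combination e1 + e2
  zero_mem' := by
    refine ⟨fun c v _ => rfl, fun v _ => rfl, fun u w _ _ _ => ?_⟩
    show (0 : ZMod 5) + ∑ c ∈ Finset.univ.filter (fun c : K => c ^ 4 = c), (0 : ZMod 5) = 0
    rw [Finset.sum_const_zero, add_zero]
  neg_mem' := by
    rintro φ ⟨h1, h2, h3⟩
    refine ⟨fun c v hc => ?_, fun v hv => ?_, fun u w hu hw huw => ?_⟩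
    · show -φ (c • v) = -φ v
      rw [h1 c v hc]
    · show -φ v = 0
      rw [h2 v hv, neg_zero]
    · show -φ w + ∑ c ∈ Finset.univ.filter (fun c : K => c ^ 4 = c), -φ (u + c • w) = 0
      rw [Finset.sum_neg_distrib]
      have e1 := h3 u w hu hw huw
      linear_combination -e1

theorem mem_u34M (K : Type) [Field K] [Fintype K] [DecidableEq K]
    (φ : (Fin 3 → K) → ZMod 5) : φ ∈ u34M K ↔
    (∀ (c : K) (v : Fin 3 → K), c ≠ 0 → φ (c • v) = φ v) ∧
    (∀ v : Fin 3 → K, ¬ u34Iso K v → φ v = 0) ∧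
    (∀ u w : Fin 3 → K, hermForm 3 K 4 u u = 0 → hermForm 3 K 4 w w = 0 →
      hermForm 3 K 4 u w = 1 →
      φ w + ∑ c ∈ Finset.univ.filter (fun c : K => c ^ 4 = c), φ (u + c • w) = 0) := Iff.rfl

/-- the functions of `u34M K` constant on the isotropic vectors -/
def u34M0 (K : Type) [Field K] [Fintype K] [DecidableEq K] :
    AddSubgroup ((Fin 3 → K) → ZMod 5) where
  carrier := {φ | φ ∈ u34M K ∧ ∃ c : ZMod 5, ∀ v : Fin 3 → K, u34Iso K v → φ v = c}
  add_mem' := by
    rintro φ ψ ⟨h1, c, hc⟩ ⟨k1, d, hd⟩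
    refine ⟨(u34M K).add_mem h1 k1, c + d, fun v hv => ?_⟩
    show φ v + ψ v = c + d
    rw [hc v hv, hd v hv]
  zero_mem' := ⟨(u34M K).zero_mem, 0, fun _ _ => rfl⟩
  neg_mem' := by
    rintro φ ⟨h1, c, hc⟩
    refine ⟨(u34M K).neg_mem h1, -c, fun v hv => ?_⟩
    show -φ v = -c
    rw [hc v hv]

theorem mem_u34M0 (K : Type) [Field K] [Fintype K] [DecidableEq K]
    (φ : (Fin 3 → K) → ZMod 5) : φ ∈ u34M0 K ↔
    φ ∈ u34M K ∧ ∃ c : ZMod 5, ∀ v : Fin 3 → K, u34Iso K v → φ v = c := Iff.rfl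

theorem u34M0_le (K : Type) [Field K] [Fintype K] [DecidableEq K] : u34M0 K ≤ u34M K :=
  fun _ h => h.1

end Cfsg.Agent.Lib.helper94
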