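/-
Normalisers and centralisers of cyclic subgroups of finite groups, and subgroups of prime order.
-/
import Mathlib

set_option autoImplicit false

namespace Cfsg.Agent.Lib.helper94

theorem mem_normalizer_zpowers {G : Type*} [Group G] [Finite G] (x n : G) :
    n ∈ Subgroup.normalizer (Subgroup.zpowers x : Set G) ↔ ∃ k : ℕ, n * x * n⁻¹ = x ^ k := by
  constructor
  · intro hn
    have h1 : n * x * n⁻¹ ∈ Subgroup.zpowers x :=
      (Subgroup.mem_normalizer_iff.mp hn x).mp (Subgroup.mem_zpowers x)
    rw [← mem_powers_iff_mem_zpowers, Submonoid.mem_powers_iff] at h1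
    obtain ⟨k, hk⟩ := h1
    exact ⟨k, hk.symm⟩
  · rintro ⟨k, hk⟩
    rw [Subgroup.mem_normalizer_iff_map_conj_eq]
    have h1 : (Subgroup.zpowers x).map (MulAut.conj n : G →* G)
        = Subgroup.zpowers (n * x * n⁻¹) := by
      rw [MonoidHom.map_zpowers]
      rfl
    rw [h1]
    apply Subgroup.eq_of_le_of_card_ge
    · rw [Subgroup.zpowers_le, hk]
      exact Subgroup.pow_mem _ (Subgroup.mem_zpowers x) k
    · rw [Nat.card_zpowers, Nat.card_zpowers]
      exact le_of_eq (MulEquiv.orderOf_eq (MulAut.conj n) x).symm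

theorem mem_centralizer_zpowers {G : Type*} [Group G] (x n : G) :
    n ∈ Subgroup.centralizer (Subgroup.zpowers x : Set G) ↔ n * x = x * n := by
  rw [Subgroup.mem_centralizer_iff]
  constructor
  · intro h
    exact (h x (Subgroup.mem_zpowers x)).symm
  · intro h y hy
    obtain ⟨j, rfl⟩ := Subgroup.mem_zpowers_iff.mp hy
    have hc : Commute x n := h.symm
    exact (hc.zpow_left j).eq

/-- A subgroup of prime order is generated by each of its non-identity elements. -/
theorem eq_zpowers_of_card_prime {G : Type*} [Group G] {p : ℕ} (hp : p.Prime) (S : Subgroup G)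
    (hS : Nat.card S = p) {x : G} (hx : x ∈ S) (hx1 : x ≠ 1) :
    orderOf x = p ∧ S = Subgroup.zpowers x := by
  have hfin : Finite S := Nat.finite_of_card_ne_zero (by rw [hS]; exact hp.ne_zero)
  have hdvd : orderOf x ∣ p := by
    rw [← hS]
    exact Subgroup.orderOf_dvd_natCard S hx
  have ho : orderOf x = p := by
    rcases (Nat.dvd_prime hp).mp hdvd with h | h
    · exact absurd (orderOf_eq_one_iff.mp h) hx1
    · exact h
  refine ⟨ho, ?_⟩
  symm
  apply Subgroup.eq_of_le_of_card_ge
  · rw [Subgroup.zpowers_le]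
    exact hx
  · rw [Nat.card_zpowers, ho, hS]

theorem exists_ne_one_of_card_prime {G : Type*} [Group G] {p : ℕ} (hp : p.Prime) (S : Subgroup G)
    (hS : Nat.card S = p) : ∃ x ∈ S, x ≠ 1 := by
  by_contra hcon
  push Not at hcon
  have hbot : S = ⊥ := (Subgroup.eq_bot_iff_forall S).mpr hcon
  rw [hbot, Subgroup.card_bot] at hS
  exact hp.one_lt.ne hS

end Cfsg.Agent.Lib.helper94
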