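import Mathlib
import Cfsg.Prelude.Def_Classical
import Cfsg.Prelude.Def_GeometricClasses

/-! S5977 / S5978 block [B] (architect helper96), piece BEXT (racer copy, helper94). -/

set_option autoImplicit false

namespace Cfsg.Agent.Lib.helper96.FE

open Polynomial

theorem h94_toLin'_pow {F : Type*} [Field F] {ι : Type} [Fintype ι] [DecidableEq ι]
    (M : Matrix ι ι F) (n : ℕ) : Matrix.toLin' (M ^ n) = (Matrix.toLin' M) ^ n := by
  induction n with
  | zero => simp [Module.End.one_eq_id]
  | succ n ih => rw [pow_succ, Matrix.toLin'_mul, ih, pow_succ]; rfl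

theorem h94_toLin'_pow_apply {F : Type*} [Field F] {ι : Type} [Fintype ι] [DecidableEq ι]
    (y : GL ι F) (n : ℕ) (u : ι → F) :
    ((Matrix.toLin' (y : Matrix ι ι F)) ^ n) u =
      Matrix.mulVec ((y ^ n : GL ι F) : Matrix ι ι F) u := by
  rw [← h94_toLin'_pow, Matrix.toLin'_apply, Units.val_pow_eq_pow_val]

/-- BEXT (L): an isometry of a nondegenerate form `N` on `F^κ`, isometrically embedded in `(F^ι, Q)` by `φ`,
extends to an isometry of `Q` with the same `Φ_r`-kernel dimension. -/
theorem h94_fe_extend {F : Type*} [Field F] {ι κ : Type} [Fintype ι] [DecidableEq ι] [Fintype κ] [DecidableEq κ]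
    (h2 : (2 : F) ≠ 0)
    (Q : (ι → F) → F) (hQ : Cfsg.Geo.IsNondegenerateQuadraticForm Q)
    (N : (κ → F) → F) (hN : Cfsg.Geo.IsNondegenerateQuadraticForm N)
    (φ : (κ → F) →ₗ[F] (ι → F)) (hφ : ∀ u, Q (φ u) = N u)
    (r : ℕ) [Fact r.Prime] (hrF : (r : F) ≠ 0)
    (x₀ : GL κ F) (hx₀ : x₀ ∈ Cfsg.isometryGroup F N) (hx₀r : x₀ ^ r = 1) :
    ∃ x : GL ι F, x ∈ Cfsg.isometryGroup F Q ∧ x ^ r = 1 ∧
      Module.finrank F (LinearMap.ker (aeval (Matrix.toLin' (x : Matrix ι ι F)) (cyclotomic r F)))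
        = Module.finrank F (LinearMap.ker (aeval (Matrix.toLin' (x₀ : Matrix κ κ F)) (cyclotomic r F))) := by
  classical
  have hbil := hQ.polar_bilinear
  let B : LinearMap.BilinForm F (ι → F) :=
    LinearMap.mk₂ F (QuadraticMap.polar Q) hbil.add_left
      (fun c x v => by rw [hbil.smul_left]; rfl) hbil.add_right
      (fun c v x => by rw [hbil.smul_right]; rfl)
  have hB : ∀ u v, B u v = QuadraticMap.polar Q u v := fun u v => rfl
  have hrefl : B.IsRefl := by
    intro u v h
    rw [hB] at h ⊢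
    rw [QuadraticMap.polar_comm]
    exact h
  have hQ0 : Q 0 = 0 := by
    have h := hQ.smul 0 0
    simpa using h
  have hpolN : ∀ u v, QuadraticMap.polar N u v = QuadraticMap.polar Q (φ u) (φ v) := by
    intro u v
    simp only [QuadraticMap.polar, ← hφ, map_add]
  have hinj : Function.Injective φ := by
    rw [injective_iff_map_eq_zero]
    intro u hu
    by_contra hu0
    obtain ⟨-, ⟨v, hv⟩⟩ := hN.nondegenerate u hu0
    apply hv
    rw [hpolN, hu]
    simp [QuadraticMap.polar, hQ0]
  set U := LinearMap.range φ with hU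
  have hnd : (B.restrict U).Nondegenerate := by
    constructor
    · rintro ⟨_, ⟨u, rfl⟩⟩ h
      apply Subtype.ext
      by_contra hu0
      have hu0' : u ≠ 0 := fun h0 => hu0 (by simp [h0])
      obtain ⟨-, ⟨v, hv⟩⟩ := hN.nondegenerate u hu0'
      apply hv
      rw [hpolN]
      exact h ⟨φ v, LinearMap.mem_range_self φ v⟩
    · rintro ⟨_, ⟨u, rfl⟩⟩ h
      apply Subtype.ext
      by_contra hu0
      have hu0' : u ≠ 0 := fun h0 => hu0 (by simp [h0])
      obtain ⟨⟨v, hv⟩, -⟩ := hN.nondegenerate u hu0'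
      apply hv
      rw [hpolN]
      exact h ⟨φ v, LinearMap.mem_range_self φ v⟩
  have hC : IsCompl U (B.orthogonal U) :=
    LinearMap.BilinForm.isCompl_orthogonal_of_restrict_nondegenerate hrefl hnd
  set π : (ι → F) →ₗ[F] (κ → F) :=
    LinearMap.linearProjOfIsCompl (B.orthogonal U) φ hinj hC with hπ
  have hπφ : ∀ a, π (φ a) = a := fun a =>
    LinearMap.linearProjOfIsCompl_apply_left _ φ hinj hC a
  have hπ0 : ∀ v' ∈ B.orthogonal U, π v' = 0 := fun v' hv' =>
    LinearMap.linearProjOfIsCompl_apply_right' _ φ hinj hC v' hv'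
  have hres : ∀ v, v - φ (π v) ∈ B.orthogonal U := by
    intro v
    have h : v - φ (π v) ∈ LinearMap.ker π := by
      rw [LinearMap.mem_ker, map_sub, hπφ, sub_self]
    rwa [hπ, LinearMap.ker_linearProjOfIsCompl] at h
  have hperp : ∀ a, ∀ v' ∈ B.orthogonal U, QuadraticMap.polar Q (φ a) v' = 0 := by
    intro a v' hv'
    exact hv' (φ a) (LinearMap.mem_range_self φ a)
  have hQsum : ∀ a, ∀ v' ∈ B.orthogonal U, Q (φ a + v') = N a + Q v' := by
    intro a v' hv'
    have h := hperp a v' hv'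
    simp only [QuadraticMap.polar] at h
    rw [← hφ]
    linear_combination h
  set X₀ : Module.End F (κ → F) := Matrix.toLin' (x₀ : Matrix κ κ F) with hX₀
  have hX₀r : ∀ u, (X₀ ^ r) u = u := by
    intro u
    rw [hX₀, h94_toLin'_pow_apply, hx₀r]
    simp
  have hNX : ∀ u, N (X₀ u) = N u := by
    intro u
    rw [hX₀, Matrix.toLin'_apply]
    exact hx₀ u u
  set T : Module.End F (ι → F) := φ ∘ₗ X₀ ∘ₗ π + (LinearMap.id - φ ∘ₗ π) with hT
  have hTapp : ∀ v, T v = φ (X₀ (π v)) + (v - φ (π v)) := fun v => rfl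
  have hTφ : ∀ a, T (φ a) = φ (X₀ a) := by
    intro a
    rw [hTapp, hπφ, sub_self, add_zero]
  have hTv' : ∀ v' ∈ B.orthogonal U, T v' = v' := by
    intro v' hv'
    rw [hTapp, hπ0 v' hv']
    simp
  have hK : ∀ (n : ℕ) (v : ι → F), (T ^ n) v = φ ((X₀ ^ n) (π v)) + (v - φ (π v)) := by
    intro n
    induction n with
    | zero => intro v; simp
    | succ n ih =>
      intro v
      rw [pow_succ', Module.End.mul_apply, ih, map_add, hTφ, hTv' _ (hres v), pow_succ',
        Module.End.mul_apply]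
  have hTr : T ^ r = 1 := by
    apply LinearMap.ext
    intro v
    rw [hK, hX₀r]
    simp
  set M : Matrix ι ι F := LinearMap.toMatrix' T with hM
  have hMT : Matrix.toLin' M = T := by rw [hM, Matrix.toLin'_toMatrix']
  have hMr : M ^ r = 1 := by
    apply (Matrix.toLin' : Matrix ι ι F ≃ₗ[F] _).injective
    rw [h94_toLin'_pow, hMT, hTr, Matrix.toLin'_one]
    rfl
  have hr0 : r ≠ 0 := (Fact.out : r.Prime).ne_zero
  let x : GL ι F := Units.ofPowEqOne M r hMr hr0
  have hxval : (x : Matrix ι ι F) = M := rfl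
  have hxT : Matrix.toLin' (x : Matrix ι ι F) = T := by rw [hxval, hMT]
  refine ⟨x, ?_, ?_, ?_⟩
  · intro u v
    show Q (Matrix.mulVec (x : Matrix ι ι F) u) = Q u
    rw [← Matrix.toLin'_apply, hxT]
    have hdec : u = φ (π u) + (u - φ (π u)) := by abel
    rw [hTapp, hQsum _ _ (hres u), hNX]
    conv_rhs => rw [hdec]
    rw [hQsum _ _ (hres u)]
  · apply Units.ext
    rw [Units.val_pow_eq_pow_val, hxval, hMr]
    rfl
  · rw [hxT]
    have hΦT : aeval T (cyclotomic r F) = ∑ i ∈ Finset.range r, T ^ i := by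
      rw [Polynomial.cyclotomic_prime, map_sum]
      simp
    have hΦX : aeval X₀ (cyclotomic r F) = ∑ i ∈ Finset.range r, X₀ ^ i := by
      rw [Polynomial.cyclotomic_prime, map_sum]
      simp
    have hker : LinearMap.ker (aeval T (cyclotomic r F)) =
        (LinearMap.ker (aeval X₀ (cyclotomic r F))).map φ := by
      ext v
      rw [LinearMap.mem_ker, Submodule.mem_map, hΦT, LinearMap.sum_apply]
      have hsum : ∑ i ∈ Finset.range r, (T ^ i) v =
          φ ((∑ i ∈ Finset.range r, X₀ ^ i) (π v)) + (r : F) • (v - φ (π v)) := by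
        simp only [hK, Finset.sum_add_distrib, Finset.sum_const, Finset.card_range,
          LinearMap.sum_apply, map_sum, Nat.cast_smul_eq_nsmul]
      rw [hsum]
      constructor
      · intro h
        have h1 : φ ((∑ i ∈ Finset.range r, X₀ ^ i) (π v)) ∈ U ⊓ B.orthogonal U := by
          refine ⟨LinearMap.mem_range_self φ _, ?_⟩
          have h' : φ ((∑ i ∈ Finset.range r, X₀ ^ i) (π v)) = -((r : F) • (v - φ (π v))) :=
            eq_neg_of_add_eq_zero_left h
          rw [h']
          exact Submodule.neg_mem _ (Submodule.smul_mem _ _ (hres v))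
        rw [hC.inf_eq_bot, Submodule.mem_bot] at h1
        have h2 : (r : F) • (v - φ (π v)) = 0 := by
          rw [h1, zero_add] at h
          exact h
        have h3 : v - φ (π v) = 0 := (smul_eq_zero.1 h2).resolve_left hrF
        refine ⟨π v, ?_, (sub_eq_zero.1 h3).symm⟩
        rw [LinearMap.mem_ker, hΦX]
        exact hinj (by rw [h1, map_zero])
      · rintro ⟨a, ha, rfl⟩
        rw [LinearMap.mem_ker, hΦX] at ha
        rw [hπφ, ha, map_zero, sub_self, smul_zero, add_zero]
    rw [hker]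
    exact (Submodule.equivMapOfInjective φ hinj _).finrank_eq.symm

end Cfsg.Agent.Lib.helper96.FE
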