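import Mathlib
import Cfsg.Prelude.Def_Classical
import Cfsg.Prelude.Def_GeometricClasses

/-! S5977 / S5978 block [B] (architect helper96), piece CYC (racer copy, helper94). -/

set_option autoImplicit false

namespace Cfsg.Agent.Lib.helper96.FE

open Polynomial

/-- CYC (M): a `y`-invariant subspace of dimension `ord_r(q)` without fixed vectors is `y`-cyclic. -/
theorem h94_fe_cyclic {F : Type*} [Field F] [Fintype F] {V : Type*} [AddCommGroup V] [Module F V]
    [FiniteDimensional F V] (r : ℕ) [Fact r.Prime] (y : Module.End F V) (hyr : y ^ r = 1)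
    (W : Submodule F V) (hWy : ∀ w ∈ W, y w ∈ W) (hW1 : ∀ w ∈ W, y w = w → w = 0)
    (hdim : Module.finrank F W = orderOf ((Fintype.card F : ℕ) : ZMod r))
    (w : V) (hw : w ∈ W) (hw0 : w ≠ 0) (w' : V) (hw' : w' ∈ W) :
    ∃ g : F[X], w' = aeval y g w := by
  classical
  let lin : F[X] →ₗ[F] V := (LinearMap.applyₗ w).comp (aeval y).toLinearMap
  have hlin : ∀ g, lin g = aeval y g w := fun g => rfl
  set U : Submodule F V := LinearMap.range lin with hU
  have hpowW : ∀ i : ℕ, (y ^ i) w ∈ W := by
    intro i
    induction i with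
    | zero => simpa using hw
    | succ i ih => rw [pow_succ', Module.End.mul_apply]; exact hWy _ ih
  have hUW : U ≤ W := by
    rintro _ ⟨g, rfl⟩
    rw [hlin, Polynomial.aeval_eq_sum_range, LinearMap.sum_apply]
    refine Submodule.sum_mem _ (fun i _ => ?_)
    rw [LinearMap.smul_apply]
    exact Submodule.smul_mem _ _ (hpowW i)
  have hwU : w ∈ U := ⟨1, by rw [hlin]; simp⟩
  have hUy : ∀ u ∈ U, y u ∈ U := by
    rintro _ ⟨g, rfl⟩
    refine ⟨X * g, ?_⟩
    rw [hlin, hlin, map_mul, aeval_X, Module.End.mul_apply]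
  have hypow : ∀ (n : ℕ), ∀ u ∈ U, (y ^ n) u ∈ U := by
    intro n
    induction n with
    | zero => intro u hu; simpa using hu
    | succ n ih => intro u hu; rw [pow_succ', Module.End.mul_apply]; exact hUy _ (ih u hu)
  have hr : r.Prime := Fact.out
  have hr1 : 1 ≤ r := hr.one_le
  haveI : Finite V := Module.finite_of_finite F
  haveI : Fintype U := Fintype.ofFinite U
  let σ : Equiv.Perm U :=
    { toFun := fun u => ⟨y u.1, hUy u.1 u.2⟩
      invFun := fun u => ⟨(y ^ (r - 1)) u.1, hypow _ u.1 u.2⟩
      left_inv := by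
        intro u
        apply Subtype.ext
        show (y ^ (r - 1)) (y u.1) = u.1
        rw [← Module.End.mul_apply, ← pow_succ, Nat.sub_add_cancel hr1, hyr]
        rfl
      right_inv := by
        intro u
        apply Subtype.ext
        show y ((y ^ (r - 1)) u.1) = u.1
        rw [← Module.End.mul_apply, ← pow_succ', Nat.sub_add_cancel hr1, hyr]
        rfl }
  have hσpow : ∀ (n : ℕ) (u : U), ((σ ^ n) u).1 = (y ^ n) u.1 := by
    intro n
    induction n with
    | zero => intro u; simp
    | succ n ih =>
      intro u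
      rw [pow_succ', Equiv.Perm.mul_apply, pow_succ', Module.End.mul_apply, ← ih]
      rfl
  have hσr : σ ^ r ^ 1 = 1 := by
    rw [pow_one]
    apply Equiv.ext
    intro u
    apply Subtype.ext
    rw [hσpow, hyr]
    rfl
  have hfix : σ.supportᶜ = {0} := by
    ext u
    simp only [Finset.mem_compl, Equiv.Perm.mem_support, not_not, Finset.mem_singleton]
    constructor
    · intro h
      have h' : y u.1 = u.1 := congrArg Subtype.val h
      exact Subtype.ext (hW1 u.1 (hUW u.2) h')
    · rintro rfl
      apply Subtype.ext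
      show y (0 : V) = 0
      simp
  have hmod := Equiv.Perm.card_compl_support_modEq hσr
  rw [hfix, Finset.card_singleton] at hmod
  have hcard : Fintype.card U = Fintype.card F ^ Module.finrank F U := Module.card_eq_pow_finrank
  rw [hcard] at hmod
  have hpow1 : ((Fintype.card F : ℕ) : ZMod r) ^ Module.finrank F U = 1 := by
    have h := (ZMod.natCast_eq_natCast_iff _ _ _).2 hmod
    push_cast at h
    exact h.symm
  have hdvd := orderOf_dvd_of_pow_eq_one hpow1
  have hpos : 0 < Module.finrank F U := by
    rw [Module.finrank_pos_iff_exists_ne_zero]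
    exact ⟨⟨w, hwU⟩, fun h => hw0 (congrArg Subtype.val h)⟩
  have hle : Module.finrank F U ≤ Module.finrank F W := Submodule.finrank_mono hUW
  have heq : Module.finrank F U = Module.finrank F W := by
    rw [hdim] at hle ⊢
    exact le_antisymm hle (Nat.le_of_dvd hpos hdvd)
  have hUeq : U = W := Submodule.eq_of_le_of_finrank_eq hUW heq
  have hw'U : w' ∈ U := hUeq ▸ hw'
  obtain ⟨g, hg⟩ := hw'U
  exact ⟨g, by rw [← hg, hlin]⟩

end Cfsg.Agent.Lib.helper96.FE
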