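import Mathlib
import Cfsg.Prelude.Def_Classical
import Cfsg.Prelude.Def_GeometricClasses
import Cfsg.Agent.Lib.helper17.CartanDieudonne
import Cfsg.Agent.Lib.helper69.FeNDP
import Cfsg.Agent.Lib.helper69.FeNDM

/-! S5977 / S5978 (helper59 / helper96 / helper2 / helper20): the interface hypothesis `HSQ` of
`helper20.BGFieldMain` -- squares of isometries lie in `Ω` (odd characteristic), from the landed
Cartan–Dieudonné theorem `helper17.cartan_dieudonne`.  (helper94) -/

set_option autoImplicit false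

namespace Cfsg.Agent.Lib.helper96.FE

open scoped commutatorElement

/-- squares lie in the commutator subgroup, bundled quadratic form -/
theorem h94_sq_mem_commutator {F : Type*} [Field F] {ι : Type} [Fintype ι] [DecidableEq ι]
    (h2 : (2 : F) ≠ 0) (Q : QuadraticForm F (ι → F))
    (hQ : (QuadraticMap.polarBilin Q).Nondegenerate) (g : Cfsg.isometryGroup F ⇑Q) :
    g * g ∈ commutator (Cfsg.isometryGroup F ⇑Q) := by
  have hg : g ∈ Cfsg.Agent.Lib.helper17.reflSubgroup Q :=
    Cfsg.Agent.Lib.helper17.cartan_dieudonne h2 Q hQ g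
  unfold Cfsg.Agent.Lib.helper17.reflSubgroup at hg
  refine Subgroup.closure_induction
    (p := fun g _ => g * g ∈ commutator (Cfsg.isometryGroup F ⇑Q)) ?_ ?_ ?_ ?_ hg
  · rintro _ ⟨v, hv, rfl⟩
    rw [Cfsg.Agent.Lib.helper17.reflectionIsom_mul_self]
    exact Subgroup.one_mem _
  · rw [mul_one]
    exact Subgroup.one_mem _
  · intro a b _ _ ha hb
    have h : a * b * (a * b) = (a * a) * ⁅a⁻¹, b⁆ * (b * b) := by
      rw [commutatorElement_def]
      group
    rw [h]
    refine Subgroup.mul_mem _ (Subgroup.mul_mem _ ha ?_) hb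
    rw [commutator_def]
    exact Subgroup.commutator_mem_commutator (Subgroup.mem_top _) (Subgroup.mem_top _)
  · intro a _ ha
    have h : a⁻¹ * a⁻¹ = (a * a)⁻¹ := by group
    rw [h]
    exact Subgroup.inv_mem _ ha

/-- `HSQ` in general: for a nondegenerate quadratic form in odd characteristic the square of every
isometry lies in `Ω`. -/
theorem h94_fe_hsq {F : Type*} [Field F] {ι : Type} [Fintype ι] [DecidableEq ι]
    (h2 : (2 : F) ≠ 0) (Q : (ι → F) → F) (hQ : Cfsg.Geo.IsNondegenerateQuadraticForm Q) :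
    ∀ x ∈ Cfsg.isometryGroup F Q, x * x ∈ Cfsg.Geo.omegaGL Q := by
  classical
  have hbil := hQ.polar_bilinear
  let B : LinearMap.BilinMap F (ι → F) F :=
    LinearMap.mk₂ F (QuadraticMap.polar Q) hbil.add_left
      (fun c x v => by rw [hbil.smul_left]; rfl) hbil.add_right
      (fun c v x => by rw [hbil.smul_right]; rfl)
  let Q' : QuadraticForm F (ι → F) :=
    { toFun := Q
      toFun_smul := by
        intro a x
        rw [hQ.smul, smul_eq_mul, sq]
      exists_companion' := ⟨B, fun x y => by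
        show Q (x + y) = Q x + Q y + QuadraticMap.polar Q x y
        simp only [QuadraticMap.polar]
        ring⟩ }
  have hnd : (QuadraticMap.polarBilin Q').Nondegenerate := by
    constructor
    · intro x hx
      by_contra hx0
      obtain ⟨-, ⟨y, hy⟩⟩ := hQ.nondegenerate x hx0
      exact hy (hx y)
    · intro y hy
      by_contra hy0
      obtain ⟨⟨x, hx⟩, -⟩ := hQ.nondegenerate y hy0
      exact hx (hy x)
  intro x hx
  have h := h94_sq_mem_commutator h2 Q' hnd ⟨x, hx⟩
  exact ⟨⟨x, hx⟩ * ⟨x, hx⟩, h, rfl⟩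

/-- `HSQ` for the plus form (the shape used by `helper20.BGFieldMain.h20_s5977_core`). -/
theorem h94_fe_hsq_plus {F : Type*} [Field F] (h2 : (2 : F) ≠ 0) (d : ℕ) :
    ∀ x ∈ Cfsg.isometryGroup F (Cfsg.quadFormPlus d F),
      x * x ∈ Cfsg.Geo.omegaGL (Cfsg.quadFormPlus d F) :=
  h94_fe_hsq h2 _ (fe_nd_plus d)

/-- `HSQ` for the minus form (the shape used by `helper20.BGFieldMain.h20_s5978_core`, `m = d - 1`). -/
theorem h94_fe_hsq_minus {F : Type*} [Field F] (h2 : (2 : F) ≠ 0) (m : ℕ) (a b : F)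
    (hab : ∀ x y : F, x ^ 2 + a * x * y + b * y ^ 2 = 0 → x = 0 ∧ y = 0) :
    ∀ x ∈ Cfsg.isometryGroup F (Cfsg.quadFormMinus m F a b),
      x * x ∈ Cfsg.Geo.omegaGL (Cfsg.quadFormMinus m F a b) :=
  h94_fe_hsq h2 _ (fe_nd_minus h2 m a b hab)

end Cfsg.Agent.Lib.helper96.FE
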