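import Mathlib
import Cfsg.Prelude.Def_Classical
import Cfsg.Prelude.Def_GeometricClasses

/-! S5977 / S5978 block [B] (architect helper96), piece NDEG (racer copy, helper94). -/

set_option autoImplicit false

namespace Cfsg.Agent.Lib.helper96.FE

open Polynomial

/-- NDEG (M): the polar form is nondegenerate on `ker Φ_r(y)` for an isometry `y` with `y^r = 1`. -/
theorem h94_fe_nondeg {F : Type*} [Field F] {ι : Type} [Fintype ι] [DecidableEq ι]
    (Q : (ι → F) → F) (hQ : Cfsg.Geo.IsNondegenerateQuadraticForm Q)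
    (r : ℕ) [Fact r.Prime] (hrF : (r : F) ≠ 0)
    (y : GL ι F) (hy : y ∈ Cfsg.isometryGroup F Q) (hyr : y ^ r = 1)
    (w : ι → F)
    (hw : w ∈ LinearMap.ker (aeval (Matrix.toLin' (y : Matrix ι ι F)) (cyclotomic r F)))
    (hperp : ∀ w' ∈ LinearMap.ker (aeval (Matrix.toLin' (y : Matrix ι ι F)) (cyclotomic r F)),
      QuadraticMap.polar Q w w' = 0) :
    w = 0 := by
  classical
  by_contra hw0
  obtain ⟨-, ⟨v, hv⟩⟩ := hQ.nondegenerate w hw0
  apply hv
  have hbil := hQ.polar_bilinear
  set T : Module.End F (ι → F) := Matrix.toLin' (y : Matrix ι ι F) with hT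
  have hTpow : ∀ (n : ℕ) (u : ι → F),
      (T ^ n) u = Matrix.mulVec ((y ^ n : GL ι F) : Matrix ι ι F) u := by
    intro n
    induction n with
    | zero => intro u; simp
    | succ n ih =>
      intro u
      rw [pow_succ, Module.End.mul_apply, ih, hT, Matrix.toLin'_apply, Matrix.mulVec_mulVec,
        ← Units.val_mul, ← pow_succ]
  have hTr : ∀ u, (T ^ r) u = u := by
    intro u
    rw [hTpow, hyr]
    simp
  have hQT : ∀ (n : ℕ) (u : ι → F), Q ((T ^ n) u) = Q u := by
    intro n u
    rw [hTpow]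
    exact (Subgroup.pow_mem _ hy n) u u
  have hBT : ∀ (n : ℕ) (u u' : ι → F),
      QuadraticMap.polar Q ((T ^ n) u) ((T ^ n) u') = QuadraticMap.polar Q u u' := by
    intro n u u'
    simp only [QuadraticMap.polar]
    rw [← map_add, hQT, hQT, hQT]
  have hΦ : aeval T (cyclotomic r F) = ∑ i ∈ Finset.range r, T ^ i := by
    rw [Polynomial.cyclotomic_prime, map_sum]
    simp
  have hw' : ∑ i ∈ Finset.range r, (T ^ i) w = 0 := by
    have h := LinearMap.mem_ker.1 hw
    rw [hΦ, LinearMap.sum_apply] at h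
    exact h
  have hBsumL : ∀ (s : Finset ℕ) (f : ℕ → ι → F) (u : ι → F),
      QuadraticMap.polar Q (∑ i ∈ s, f i) u = ∑ i ∈ s, QuadraticMap.polar Q (f i) u := by
    intro s f u
    exact map_sum (AddMonoidHom.mk' (fun x => QuadraticMap.polar Q x u)
      (fun x y => hbil.add_left x y u)) f s
  have hB0 : ∀ u, QuadraticMap.polar Q 0 u = 0 := by
    intro u
    have h := hbil.smul_left 0 0 u
    simpa using h
  set v₁ := ∑ i ∈ Finset.range r, (T ^ i) v with hv₁
  have hT1 : T v₁ = v₁ := by
    rw [hv₁, map_sum]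
    have e1 := Finset.sum_range_succ (fun i => (T ^ i) v) r
    have e2 := Finset.sum_range_succ' (fun i => (T ^ i) v) r
    have h := e1.symm.trans e2
    simp only [pow_zero, Module.End.one_apply, hTr] at h
    have h' : ∑ i ∈ Finset.range r, (T ^ (i + 1)) v = ∑ i ∈ Finset.range r, (T ^ i) v :=
      (add_right_cancel h).symm
    rw [← h']
    refine Finset.sum_congr rfl (fun i _ => ?_)
    rw [pow_succ', Module.End.mul_apply]
  have hTv₁ : ∀ j : ℕ, (T ^ j) v₁ = v₁ := by
    intro j
    induction j with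
    | zero => simp
    | succ j ih => rw [pow_succ, Module.End.mul_apply, hT1, ih]
  have hwv₁ : QuadraticMap.polar Q w v₁ = 0 := by
    have h1 : ∀ i : ℕ, QuadraticMap.polar Q ((T ^ i) w) v₁ = QuadraticMap.polar Q w v₁ := by
      intro i
      have h := hBT i w v₁
      rwa [hTv₁ i] at h
    have h2 : ∑ i ∈ Finset.range r, QuadraticMap.polar Q ((T ^ i) w) v₁ =
        (r : F) * QuadraticMap.polar Q w v₁ := by
      rw [Finset.sum_congr rfl (fun i _ => h1 i), Finset.sum_const, Finset.card_range,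
        nsmul_eq_mul]
    have h3 : (r : F) * QuadraticMap.polar Q w v₁ = 0 := by
      rw [← h2, ← hBsumL, hw', hB0]
    exact (mul_eq_zero.1 h3).resolve_left hrF
  have hv₂ : (r : F) • v - v₁ ∈ LinearMap.ker (aeval T (cyclotomic r F)) := by
    rw [LinearMap.mem_ker, hΦ, LinearMap.sum_apply]
    simp only [map_sub, map_smul, hTv₁, Finset.sum_sub_distrib, Finset.sum_const,
      Finset.card_range, ← Finset.smul_sum]
    rw [← hv₁, Nat.cast_smul_eq_nsmul, sub_self]
  have h2 := hperp _ hv₂
  have h3 : QuadraticMap.polar Q w ((r : F) • v) =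
      QuadraticMap.polar Q w ((r : F) • v - v₁) + QuadraticMap.polar Q w v₁ := by
    rw [← hbil.add_right, sub_add_cancel]
  rw [hbil.smul_right, h2, hwv₁, add_zero] at h3
  exact (mul_eq_zero.1 h3).resolve_left hrF

end Cfsg.Agent.Lib.helper96.FE
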