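import Mathlib
import Cfsg.Prelude.Def_ChevG2
import Cfsg.Agent.Lib.helper94.G23Defs

set_option autoImplicit false

/-!
# Data for `G_2(3)` on its 7-dimensional ideal (helper94) -- definitions

In characteristic 3 the fundamental coroot `h_1` and the six short root vectors span an ideal of
the Chevalley algebra of type `G_2`, invariant under the Chevalley group.  `g23M r t` is the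
matrix of the root element `x_r(t)` on it, `g23T` the structure constants of the bracket on it.
`g23Q7`, `g23Q13` are the powers of the restrictions of an element of order 7 and of order 13.
Generated by `tools/helper94/g23/gendata.py`.
-/

namespace Cfsg.Agent.Lib.helper94

open Matrix

/-- the root elements over the field with three elements -/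
def g23xm (r : Fin 12) (t : ZMod 3) : Matrix (Fin 2 ⊕ Fin 12) (Fin 2 ⊕ Fin 12) (ZMod 3) :=
  Cfsg.Lie.chevG2.xMat (ZMod 3) r t

/-- the coordinates of the ideal -/
def g23j : Fin 7 → Fin 2 ⊕ Fin 12 :=
  ![Sum.inl 0, Sum.inr 2, Sum.inr 3, Sum.inr 4, Sum.inr 7, Sum.inr 8, Sum.inr 9]

def g23B : Matrix (Fin 2 ⊕ Fin 12) (Fin 7) (ZMod 3) :=
  Matrix.of fun i k => if i = g23j k then 1 else 0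

def g23Bt : Matrix (Fin 7) (Fin 2 ⊕ Fin 12) (ZMod 3) :=
  Matrix.of fun k i => if i = g23j k then 1 else 0

/-- structure constants of the bracket on the ideal: `g23T c d i` is the `i`-th coordinate of `[e_c, e_d]` -/
def g23T : Fin 7 → Fin 7 → Fin 7 → ZMod 3 :=
  ![![![0, 0, 0, 0, 0, 0, 0], ![0, 2, 0, 0, 0, 0, 0], ![0, 0, 1, 0, 0, 0, 0], ![0, 0, 0, 1, 0, 0, 0], ![0, 0, 0, 0, 2, 0, 0], ![0, 0, 0, 0, 0, 2, 0], ![0, 0, 0, 0, 0, 0, 1]],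
    ![![0, 1, 0, 0, 0, 0, 0], ![0, 0, 0, 0, 0, 0, 0], ![0, 0, 0, 0, 0, 0, 0], ![0, 0, 0, 0, 0, 0, 0], ![0, 0, 1, 0, 0, 0, 0], ![0, 0, 0, 2, 0, 0, 0], ![1, 0, 0, 0, 0, 0, 0]],
    ![![0, 0, 2, 0, 0, 0, 0], ![0, 0, 0, 0, 0, 0, 0], ![0, 0, 0, 0, 0, 0, 0], ![0, 1, 0, 0, 0, 0, 0], ![0, 0, 0, 0, 0, 0, 0], ![2, 0, 0, 0, 0, 0, 0], ![0, 0, 0, 0, 2, 0, 0]],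
    ![![0, 0, 0, 2, 0, 0, 0], ![0, 0, 0, 0, 0, 0, 0], ![0, 2, 0, 0, 0, 0, 0], ![0, 0, 0, 0, 0, 0, 0], ![2, 0, 0, 0, 0, 0, 0], ![0, 0, 0, 0, 0, 0, 0], ![0, 0, 0, 0, 0, 1, 0]],
    ![![0, 0, 0, 0, 1, 0, 0], ![0, 0, 2, 0, 0, 0, 0], ![0, 0, 0, 0, 0, 0, 0], ![1, 0, 0, 0, 0, 0, 0], ![0, 0, 0, 0, 0, 0, 0], ![0, 0, 0, 0, 0, 0, 1], ![0, 0, 0, 0, 0, 0, 0]],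
    ![![0, 0, 0, 0, 0, 1, 0], ![0, 0, 0, 1, 0, 0, 0], ![1, 0, 0, 0, 0, 0, 0], ![0, 0, 0, 0, 0, 0, 0], ![0, 0, 0, 0, 0, 0, 2], ![0, 0, 0, 0, 0, 0, 0], ![0, 0, 0, 0, 0, 0, 0]],
    ![![0, 0, 0, 0, 0, 0, 2], ![2, 0, 0, 0, 0, 0, 0], ![0, 0, 0, 0, 1, 0, 0], ![0, 0, 0, 0, 0, 2, 0], ![0, 0, 0, 0, 0, 0, 0], ![0, 0, 0, 0, 0, 0, 0], ![0, 0, 0, 0, 0, 0, 0]]]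

def g23M1 : Fin 12 → Matrix (Fin 7) (Fin 7) (ZMod 3) :=
  ![!![1, 0, 0, 0, 0, 0, 0; 0, 1, 0, 0, 0, 1, 0; 0, 0, 1, 0, 0, 0, 2; 0, 0, 0, 1, 0, 0, 0; 0, 0, 0, 0, 1, 0, 0; 0, 0, 0, 0, 0, 1, 0; 0, 0, 0, 0, 0, 0, 1],
    !![1, 0, 0, 0, 0, 0, 0; 0, 1, 0, 0, 1, 0, 0; 0, 0, 1, 0, 0, 0, 0; 0, 0, 0, 1, 0, 0, 2; 0, 0, 0, 0, 1, 0, 0; 0, 0, 0, 0, 0, 1, 0; 0, 0, 0, 0, 0, 0, 1],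
    !![1, 0, 0, 0, 0, 0, 1; 1, 1, 0, 0, 0, 0, 2; 0, 0, 1, 0, 1, 0, 0; 0, 0, 0, 1, 0, 2, 0; 0, 0, 0, 0, 1, 0, 0; 0, 0, 0, 0, 0, 1, 0; 0, 0, 0, 0, 0, 0, 1],
    !![1, 0, 0, 0, 0, 2, 0; 0, 1, 0, 1, 0, 0, 0; 2, 0, 1, 0, 0, 2, 0; 0, 0, 0, 1, 0, 0, 0; 0, 0, 0, 0, 1, 0, 2; 0, 0, 0, 0, 0, 1, 0; 0, 0, 0, 0, 0, 0, 1],
    !![1, 0, 0, 0, 2, 0, 0; 0, 1, 2, 0, 0, 0, 0; 0, 0, 1, 0, 0, 0, 0; 2, 0, 0, 1, 2, 0, 0; 0, 0, 0, 0, 1, 0, 0; 0, 0, 0, 0, 0, 1, 1; 0, 0, 0, 0, 0, 0, 1],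
    !![1, 0, 0, 0, 0, 0, 0; 0, 1, 0, 0, 0, 0, 0; 0, 0, 1, 2, 0, 0, 0; 0, 0, 0, 1, 0, 0, 0; 0, 0, 0, 0, 1, 1, 0; 0, 0, 0, 0, 0, 1, 0; 0, 0, 0, 0, 0, 0, 1],
    !![1, 0, 0, 0, 0, 0, 0; 0, 1, 0, 0, 0, 0, 0; 0, 0, 1, 0, 0, 0, 0; 0, 0, 2, 1, 0, 0, 0; 0, 0, 0, 0, 1, 0, 0; 0, 0, 0, 0, 1, 1, 0; 0, 0, 0, 0, 0, 0, 1],
    !![1, 0, 0, 1, 0, 0, 0; 0, 1, 0, 0, 0, 0, 0; 0, 2, 1, 0, 0, 0, 0; 0, 0, 0, 1, 0, 0, 0; 1, 0, 0, 2, 1, 0, 0; 0, 0, 0, 0, 0, 1, 0; 0, 0, 0, 0, 0, 1, 1],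
    !![1, 0, 1, 0, 0, 0, 0; 0, 1, 0, 0, 0, 0, 0; 0, 0, 1, 0, 0, 0, 0; 0, 1, 0, 1, 0, 0, 0; 0, 0, 0, 0, 1, 0, 0; 1, 0, 2, 0, 0, 1, 0; 0, 0, 0, 0, 2, 0, 1],
    !![1, 2, 0, 0, 0, 0, 0; 0, 1, 0, 0, 0, 0, 0; 0, 0, 1, 0, 0, 0, 0; 0, 0, 0, 1, 0, 0, 0; 0, 0, 1, 0, 1, 0, 0; 0, 0, 0, 2, 0, 1, 0; 2, 2, 0, 0, 0, 0, 1],
    !![1, 0, 0, 0, 0, 0, 0; 0, 1, 0, 0, 0, 0, 0; 0, 0, 1, 0, 0, 0, 0; 0, 0, 0, 1, 0, 0, 0; 0, 1, 0, 0, 1, 0, 0; 0, 0, 0, 0, 0, 1, 0; 0, 0, 0, 2, 0, 0, 1],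
    !![1, 0, 0, 0, 0, 0, 0; 0, 1, 0, 0, 0, 0, 0; 0, 0, 1, 0, 0, 0, 0; 0, 0, 0, 1, 0, 0, 0; 0, 0, 0, 0, 1, 0, 0; 0, 1, 0, 0, 0, 1, 0; 0, 0, 2, 0, 0, 0, 1]]

def g23M2 : Fin 12 → Matrix (Fin 7) (Fin 7) (ZMod 3) :=
  ![!![1, 0, 0, 0, 0, 0, 0; 0, 1, 0, 0, 0, 2, 0; 0, 0, 1, 0, 0, 0, 1; 0, 0, 0, 1, 0, 0, 0; 0, 0, 0, 0, 1, 0, 0; 0, 0, 0, 0, 0, 1, 0; 0, 0, 0, 0, 0, 0, 1],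
    !![1, 0, 0, 0, 0, 0, 0; 0, 1, 0, 0, 2, 0, 0; 0, 0, 1, 0, 0, 0, 0; 0, 0, 0, 1, 0, 0, 1; 0, 0, 0, 0, 1, 0, 0; 0, 0, 0, 0, 0, 1, 0; 0, 0, 0, 0, 0, 0, 1],
    !![1, 0, 0, 0, 0, 0, 2; 2, 1, 0, 0, 0, 0, 2; 0, 0, 1, 0, 2, 0, 0; 0, 0, 0, 1, 0, 1, 0; 0, 0, 0, 0, 1, 0, 0; 0, 0, 0, 0, 0, 1, 0; 0, 0, 0, 0, 0, 0, 1],
    !![1, 0, 0, 0, 0, 1, 0; 0, 1, 0, 2, 0, 0, 0; 1, 0, 1, 0, 0, 2, 0; 0, 0, 0, 1, 0, 0, 0; 0, 0, 0, 0, 1, 0, 1; 0, 0, 0, 0, 0, 1, 0; 0, 0, 0, 0, 0, 0, 1],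
    !![1, 0, 0, 0, 1, 0, 0; 0, 1, 1, 0, 0, 0, 0; 0, 0, 1, 0, 0, 0, 0; 1, 0, 0, 1, 2, 0, 0; 0, 0, 0, 0, 1, 0, 0; 0, 0, 0, 0, 0, 1, 2; 0, 0, 0, 0, 0, 0, 1],
    !![1, 0, 0, 0, 0, 0, 0; 0, 1, 0, 0, 0, 0, 0; 0, 0, 1, 1, 0, 0, 0; 0, 0, 0, 1, 0, 0, 0; 0, 0, 0, 0, 1, 2, 0; 0, 0, 0, 0, 0, 1, 0; 0, 0, 0, 0, 0, 0, 1],
    !![1, 0, 0, 0, 0, 0, 0; 0, 1, 0, 0, 0, 0, 0; 0, 0, 1, 0, 0, 0, 0; 0, 0, 1, 1, 0, 0, 0; 0, 0, 0, 0, 1, 0, 0; 0, 0, 0, 0, 2, 1, 0; 0, 0, 0, 0, 0, 0, 1],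
    !![1, 0, 0, 2, 0, 0, 0; 0, 1, 0, 0, 0, 0, 0; 0, 1, 1, 0, 0, 0, 0; 0, 0, 0, 1, 0, 0, 0; 2, 0, 0, 2, 1, 0, 0; 0, 0, 0, 0, 0, 1, 0; 0, 0, 0, 0, 0, 2, 1],
    !![1, 0, 2, 0, 0, 0, 0; 0, 1, 0, 0, 0, 0, 0; 0, 0, 1, 0, 0, 0, 0; 0, 2, 0, 1, 0, 0, 0; 0, 0, 0, 0, 1, 0, 0; 2, 0, 2, 0, 0, 1, 0; 0, 0, 0, 0, 1, 0, 1],
    !![1, 1, 0, 0, 0, 0, 0; 0, 1, 0, 0, 0, 0, 0; 0, 0, 1, 0, 0, 0, 0; 0, 0, 0, 1, 0, 0, 0; 0, 0, 2, 0, 1, 0, 0; 0, 0, 0, 1, 0, 1, 0; 1, 2, 0, 0, 0, 0, 1],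
    !![1, 0, 0, 0, 0, 0, 0; 0, 1, 0, 0, 0, 0, 0; 0, 0, 1, 0, 0, 0, 0; 0, 0, 0, 1, 0, 0, 0; 0, 2, 0, 0, 1, 0, 0; 0, 0, 0, 0, 0, 1, 0; 0, 0, 0, 1, 0, 0, 1],
    !![1, 0, 0, 0, 0, 0, 0; 0, 1, 0, 0, 0, 0, 0; 0, 0, 1, 0, 0, 0, 0; 0, 0, 0, 1, 0, 0, 0; 0, 0, 0, 0, 1, 0, 0; 0, 2, 0, 0, 0, 1, 0; 0, 0, 1, 0, 0, 0, 1]]

/-- the root element `x_r(t)` on the ideal -/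
def g23M (r : Fin 12) (t : ZMod 3) : Matrix (Fin 7) (Fin 7) (ZMod 3) :=
  if t = 0 then 1 else if t = 1 then g23M1 r else g23M2 r

/-- the structure-constant form of "`M` preserves the bracket" at `(a, b, i)` -/
def g23Tens (M : Matrix (Fin 7) (Fin 7) (ZMod 3)) (a b i : Fin 7) : Prop :=
  ∑ c, ∑ d, M c a * M d b * g23T c d i = ∑ k, M i k * g23T a b k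

instance (M : Matrix (Fin 7) (Fin 7) (ZMod 3)) (a b i : Fin 7) : Decidable (g23Tens M a b i) := by
  unfold g23Tens
  infer_instance

def g23Q7 : Fin 7 → Matrix (Fin 7) (Fin 7) (ZMod 3) :=
  ![!![1, 0, 0, 0, 0, 0, 0; 0, 1, 0, 0, 0, 0, 0; 0, 0, 1, 0, 0, 0, 0; 0, 0, 0, 1, 0, 0, 0; 0, 0, 0, 0, 1, 0, 0; 0, 0, 0, 0, 0, 1, 0; 0, 0, 0, 0, 0, 0, 1],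
    !![1, 0, 0, 0, 1, 1, 0; 0, 1, 1, 2, 1, 1, 0; 1, 0, 1, 0, 2, 2, 2; 0, 0, 2, 1, 0, 0, 0; 0, 2, 2, 1, 0, 2, 1; 0, 0, 0, 0, 1, 1, 0; 0, 0, 2, 1, 0, 0, 1],
    !![1, 2, 2, 1, 2, 1, 1; 1, 0, 2, 2, 1, 0, 0; 2, 1, 0, 1, 2, 0, 0; 2, 0, 1, 1, 1, 1, 1; 2, 2, 2, 0, 2, 2, 2; 0, 2, 2, 1, 1, 0, 1; 2, 0, 0, 2, 1, 1, 2],
    !![0, 0, 0, 2, 2, 0, 1; 0, 2, 2, 0, 2, 1, 2; 2, 2, 1, 2, 0, 1, 2; 0, 2, 1, 0, 2, 1, 1; 1, 0, 0, 2, 1, 2, 2; 2, 1, 1, 1, 0, 2, 0; 2, 2, 1, 2, 0, 2, 0],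
    !![0, 1, 1, 2, 0, 1, 0; 2, 0, 0, 2, 1, 2, 2; 0, 2, 2, 2, 1, 1, 1; 1, 0, 0, 1, 2, 0, 2; 1, 2, 1, 2, 0, 2, 0; 0, 1, 1, 0, 1, 1, 2; 0, 2, 1, 0, 2, 2, 2],
    !![1, 1, 0, 1, 1, 1, 2; 2, 2, 1, 2, 1, 0, 0; 2, 1, 0, 2, 1, 0, 0; 1, 1, 1, 2, 1, 2, 1; 2, 2, 1, 0, 1, 1, 2; 1, 0, 2, 2, 1, 0, 2; 1, 0, 2, 2, 0, 1, 0],
    !![1, 0, 0, 0, 0, 2, 0; 0, 1, 0, 1, 0, 2, 0; 2, 0, 1, 2, 0, 2, 1; 2, 0, 1, 0, 0, 2, 1; 0, 1, 0, 1, 1, 0, 2; 0, 2, 0, 2, 2, 1, 1; 0, 0, 0, 2, 0, 0, 1]]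

def g23Q13 : Fin 13 → Matrix (Fin 7) (Fin 7) (ZMod 3) :=
  ![!![1, 0, 0, 0, 0, 0, 0; 0, 1, 0, 0, 0, 0, 0; 0, 0, 1, 0, 0, 0, 0; 0, 0, 0, 1, 0, 0, 0; 0, 0, 0, 0, 1, 0, 0; 0, 0, 0, 0, 0, 1, 0; 0, 0, 0, 0, 0, 0, 1],
    !![1, 0, 0, 0, 0, 0, 0; 0, 1, 0, 0, 1, 0, 0; 0, 0, 1, 1, 0, 0, 2; 0, 0, 0, 1, 0, 0, 2; 0, 0, 0, 0, 1, 2, 0; 0, 2, 0, 0, 2, 1, 0; 0, 0, 1, 1, 0, 0, 0],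
    !![1, 0, 0, 0, 0, 0, 0; 0, 1, 0, 0, 2, 2, 0; 0, 0, 0, 1, 0, 0, 1; 0, 0, 2, 0, 0, 0, 2; 0, 1, 0, 0, 2, 1, 0; 0, 1, 0, 0, 0, 2, 0; 0, 0, 1, 2, 0, 0, 1],
    !![1, 0, 0, 0, 0, 0, 0; 0, 2, 0, 0, 1, 0, 0; 0, 0, 1, 2, 0, 0, 2; 0, 0, 1, 1, 0, 0, 1; 0, 0, 0, 0, 2, 2, 0; 0, 2, 0, 0, 2, 2, 0; 0, 0, 2, 1, 0, 0, 0],
    !![1, 0, 0, 0, 0, 0, 0; 0, 2, 0, 0, 0, 2, 0; 0, 0, 0, 2, 0, 0, 0; 0, 0, 2, 0, 0, 0, 1; 0, 1, 0, 0, 0, 0, 0; 0, 0, 0, 0, 2, 0, 0; 0, 0, 2, 0, 0, 0, 0],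
    !![1, 0, 0, 0, 0, 0, 0; 0, 0, 0, 0, 0, 2, 0; 0, 0, 0, 2, 0, 0, 1; 0, 0, 0, 0, 0, 0, 1; 0, 1, 0, 0, 1, 0, 0; 0, 0, 0, 0, 2, 1, 0; 0, 0, 2, 2, 0, 0, 1],
    !![1, 0, 0, 0, 0, 0, 0; 0, 1, 0, 0, 1, 2, 0; 0, 0, 1, 0, 0, 0, 1; 0, 0, 1, 1, 0, 0, 0; 0, 1, 0, 0, 2, 2, 0; 0, 2, 0, 0, 1, 2, 0; 0, 0, 0, 2, 0, 0, 2],
    !![1, 0, 0, 0, 0, 0, 0; 0, 2, 0, 0, 0, 1, 0; 0, 0, 2, 2, 0, 0, 2; 0, 0, 1, 2, 0, 0, 1; 0, 2, 0, 0, 1, 0, 0; 0, 0, 0, 0, 1, 1, 0; 0, 0, 2, 1, 0, 0, 1],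
    !![1, 0, 0, 0, 0, 0, 0; 0, 1, 0, 0, 1, 1, 0; 0, 0, 1, 0, 0, 0, 2; 0, 0, 2, 1, 0, 0, 0; 0, 2, 0, 0, 0, 2, 0; 0, 2, 0, 0, 0, 0, 0; 0, 0, 0, 1, 0, 0, 0],
    !![1, 0, 0, 0, 0, 0, 0; 0, 0, 0, 0, 1, 0, 0; 0, 0, 0, 0, 0, 0, 2; 0, 0, 2, 0, 0, 0, 0; 0, 0, 0, 0, 0, 2, 0; 0, 2, 0, 0, 2, 0, 0; 0, 0, 0, 1, 0, 0, 2],
    !![1, 0, 0, 0, 0, 0, 0; 0, 0, 0, 0, 1, 2, 0; 0, 0, 2, 2, 0, 0, 0; 0, 0, 2, 2, 0, 0, 1; 0, 1, 0, 0, 1, 2, 0; 0, 2, 0, 0, 1, 1, 0; 0, 0, 2, 0, 0, 0, 2],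
    !![1, 0, 0, 0, 0, 0, 0; 0, 1, 0, 0, 2, 1, 0; 0, 0, 2, 1, 0, 0, 2; 0, 0, 0, 2, 0, 0, 2; 0, 2, 0, 0, 0, 1, 0; 0, 1, 0, 0, 2, 0, 0; 0, 0, 1, 1, 0, 0, 1],
    !![1, 0, 0, 0, 0, 0, 0; 0, 0, 0, 0, 2, 2, 0; 0, 0, 1, 2, 0, 0, 0; 0, 0, 2, 1, 0, 0, 1; 0, 1, 0, 0, 1, 1, 0; 0, 1, 0, 0, 0, 1, 0; 0, 0, 2, 0, 0, 0, 1]]

def g23P13 : Fin 7 → Matrix (Fin 7) (Fin 7) (ZMod 3) :=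
  ![!![1, 0, 0, 0, 0, 0, 0; 0, 1, 0, 0, 0, 0, 0; 0, 0, 1, 0, 0, 0, 0; 0, 0, 0, 1, 0, 0, 0; 0, 0, 0, 0, 1, 0, 0; 0, 0, 0, 0, 0, 1, 0; 0, 0, 0, 0, 0, 0, 1],
    !![1, 0, 0, 0, 0, 0, 0; 0, 1, 0, 0, 1, 0, 0; 0, 0, 1, 1, 0, 0, 2; 0, 0, 0, 1, 0, 0, 2; 0, 0, 0, 0, 1, 2, 0; 0, 2, 0, 0, 2, 1, 0; 0, 0, 1, 1, 0, 0, 0],
    !![1, 0, 0, 0, 0, 0, 0; 0, 1, 0, 0, 2, 2, 0; 0, 0, 0, 1, 0, 0, 1; 0, 0, 2, 0, 0, 0, 2; 0, 1, 0, 0, 2, 1, 0; 0, 1, 0, 0, 0, 2, 0; 0, 0, 1, 2, 0, 0, 1],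
    !![1, 0, 0, 0, 0, 0, 0; 0, 2, 0, 0, 1, 0, 0; 0, 0, 1, 2, 0, 0, 2; 0, 0, 1, 1, 0, 0, 1; 0, 0, 0, 0, 2, 2, 0; 0, 2, 0, 0, 2, 2, 0; 0, 0, 2, 1, 0, 0, 0],
    !![1, 0, 0, 0, 0, 0, 0; 0, 2, 0, 0, 0, 2, 0; 0, 0, 0, 2, 0, 0, 0; 0, 0, 2, 0, 0, 0, 1; 0, 1, 0, 0, 0, 0, 0; 0, 0, 0, 0, 2, 0, 0; 0, 0, 2, 0, 0, 0, 0],
    !![1, 0, 0, 0, 0, 0, 0; 0, 0, 0, 0, 0, 2, 0; 0, 0, 0, 2, 0, 0, 1; 0, 0, 0, 0, 0, 0, 1; 0, 1, 0, 0, 1, 0, 0; 0, 0, 0, 0, 2, 1, 0; 0, 0, 2, 2, 0, 0, 1],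
    !![1, 0, 0, 0, 0, 0, 0; 0, 1, 0, 0, 1, 2, 0; 0, 0, 1, 0, 0, 0, 1; 0, 0, 1, 1, 0, 0, 0; 0, 1, 0, 0, 2, 2, 0; 0, 2, 0, 0, 1, 2, 0; 0, 0, 0, 2, 0, 0, 2]]

def g23X6 : Matrix (Fin 7) (Fin 7) (ZMod 3) :=
  !![2, 0, 2, 0, 0, 0, 0; 0, 1, 0, 1, 0, 0, 0; 2, 0, 1, 0, 0, 2, 0; 0, 2, 0, 0, 0, 0, 0; 0, 0, 0, 0, 1, 0, 2; 0, 0, 2, 0, 0, 0, 0; 0, 0, 0, 0, 1, 0, 0]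

def g23S2 : Matrix (Fin 7) (Fin 7) (ZMod 3) :=
  !![2, 0, 0, 0, 0, 1, 0; 0, 0, 0, 1, 0, 0, 0; 0, 0, 0, 0, 0, 2, 0; 0, 2, 0, 2, 0, 0, 0; 0, 0, 0, 0, 0, 0, 2; 1, 0, 2, 0, 0, 1, 0; 0, 0, 0, 0, 1, 0, 2]

def g23S3 : Matrix (Fin 7) (Fin 7) (ZMod 3) :=
  !![1, 0, 0, 0, 0, 0, 0; 0, 2, 0, 0, 0, 0, 0; 0, 0, 1, 0, 0, 0, 0; 0, 0, 0, 2, 0, 0, 0; 0, 0, 0, 0, 2, 0, 0; 0, 0, 0, 0, 0, 1, 0; 0, 0, 0, 0, 0, 0, 2]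

def g23v7 : Fin 7 → ZMod 3 := ![0, 0, 0, 0, 0, 0, 1]

def g23E7 : Matrix (Fin 7) (Fin 7) (ZMod 3) :=
  !![0, 0, 1, 1, 0, 2, 0; 0, 0, 0, 2, 2, 0, 0; 0, 2, 0, 2, 1, 0, 1; 0, 0, 1, 1, 2, 1, 1; 0, 1, 2, 2, 0, 2, 2; 0, 0, 1, 0, 2, 2, 1; 1, 1, 2, 0, 2, 0, 1]

def g23Ei7 : Matrix (Fin 7) (Fin 7) (ZMod 3) :=
  !![2, 1, 0, 1, 2, 0, 1; 1, 0, 1, 2, 2, 2, 0; 1, 0, 0, 2, 0, 1, 0; 2, 2, 2, 2, 2, 1, 0; 1, 0, 1, 1, 1, 2, 0; 2, 2, 2, 1, 2, 2, 0; 2, 2, 0, 0, 0, 1, 0]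

def g23v13 : Fin 7 → ZMod 3 := ![1, 0, 0, 0, 0, 1, 1]

def g23E13 : Matrix (Fin 7) (Fin 7) (ZMod 3) :=
  !![1, 1, 1, 1, 1, 1, 1; 0, 0, 2, 0, 2, 2, 2; 0, 2, 1, 2, 0, 1, 1; 0, 2, 2, 1, 1, 1, 0; 0, 2, 1, 2, 0, 0, 2; 1, 1, 2, 2, 0, 1, 2; 1, 0, 1, 0, 0, 1, 2]

def g23Ei13 : Matrix (Fin 7) (Fin 7) (ZMod 3) :=
  !![2, 0, 1, 1, 1, 1, 1; 2, 2, 2, 0, 1, 2, 2; 1, 0, 1, 2, 0, 2, 0; 0, 2, 0, 2, 1, 0, 0; 1, 1, 0, 1, 1, 1, 1; 2, 2, 0, 0, 2, 0, 1; 2, 2, 2, 0, 0, 0, 1]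

/-- the polynomial with coefficients `a0, ..., a6` in a matrix with powers `P` -/
def g23lin (P : Fin 7 → Matrix (Fin 7) (Fin 7) (ZMod 3)) (a0 a1 a2 a3 a4 a5 a6 : ZMod 3) :
    Matrix (Fin 7) (Fin 7) (ZMod 3) :=
  a0 • P 0 + a1 • P 1 + a2 • P 2 + a3 • P 3 + a4 • P 4 + a5 • P 5 + a6 • P 6

def g23chk7 (M : Matrix (Fin 7) (Fin 7) (ZMod 3)) : Bool :=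
  decide (g23Tens M 0 2 5) &&
  decide (g23Tens M 0 3 4) &&
  decide (g23Tens M 5 6 5) &&
  decide (g23Tens M 3 4 0) &&
  decide (g23Tens M 0 1 6)

def g23chk13 (M : Matrix (Fin 7) (Fin 7) (ZMod 3)) : Bool :=
  decide (g23Tens M 1 4 2) &&
  decide (g23Tens M 1 4 3) &&
  decide (g23Tens M 1 4 6) &&
  decide (g23Tens M 1 6 0) &&
  decide (g23Tens M 0 1 1) &&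
  decide (g23Tens M 0 6 6)

end Cfsg.Agent.Lib.helper94
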