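import Mathlib
import Cfsg.Prelude.Def_ChevG2
import Cfsg.Agent.Lib.helper94.G23Defs
import Cfsg.Agent.Lib.helper94.G23DataDefs

set_option autoImplicit false

/-!
# Data for `G_2(3)` on its 7-dimensional ideal (helper94) -- the root elements preserve the bracket, part 2

In characteristic 3 the fundamental coroot `h_1` and the six short root vectors span an ideal of
the Chevalley algebra of type `G_2`, invariant under the Chevalley group.  `g23M r t` is the
matrix of the root element `x_r(t)` on it, `g23T` the structure constants of the bracket on it.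
`g23Q7`, `g23Q13` are the powers of the restrictions of an element of order 7 and of order 13.
Generated by `tools/helper94/g23/gendata.py`.
-/

namespace Cfsg.Agent.Lib.helper94

open Matrix

theorem g23_c3_4 : ∀ t : ZMod 3, ∀ a b i : Fin 7, g23Tens (g23M 4 t) a b i := by
  decide +kernel

theorem g23_c3_5 : ∀ t : ZMod 3, ∀ a b i : Fin 7, g23Tens (g23M 5 t) a b i := by
  decide +kernel

theorem g23_c3_6 : ∀ t : ZMod 3, ∀ a b i : Fin 7, g23Tens (g23M 6 t) a b i := by
  decide +kernel

theorem g23_c3_7 : ∀ t : ZMod 3, ∀ a b i : Fin 7, g23Tens (g23M 7 t) a b i := by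
  decide +kernel

end Cfsg.Agent.Lib.helper94
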