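import Mathlib
import Cfsg.Prelude.Def_ChevG2
import Cfsg.Agent.Lib.helper94.G23Defs
import Cfsg.Agent.Lib.helper94.G23DataDefs

set_option autoImplicit false

/-!
# Data for `G_2(3)` on its 7-dimensional ideal (helper94) -- words, powers and cyclic vectors

In characteristic 3 the fundamental coroot `h_1` and the six short root vectors span an ideal of
the Chevalley algebra of type `G_2`, invariant under the Chevalley group.  `g23M r t` is the
matrix of the root element `x_r(t)` on it, `g23T` the structure constants of the bracket on it.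
`g23Q7`, `g23Q13` are the powers of the restrictions of an element of order 7 and of order 13.
Generated by `tools/helper94/g23/gendata.py`.
-/

namespace Cfsg.Agent.Lib.helper94

open Matrix

theorem g23_w7 : g23M 10 2 * g23M 3 2 * g23M 0 1 * g23M 6 1 = g23Q7 1 := by decide +kernel

theorem g23_w13 : g23M 11 2 * g23M 5 2 * g23M 1 1 = g23Q13 1 := by decide +kernel

theorem g23_w6 : g23M 8 2 * g23M 3 1 = g23X6 := by decide +kernel

theorem g23_Q7 : g23Q7 0 = 1 ∧ (∀ i : Fin 6, g23Q7 i.succ = g23Q7 i.castSucc * g23Q7 1) ∧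
    g23Q7 6 * g23Q7 1 = 1 ∧ g23Q7 1 ≠ 1 := by
  decide +kernel

theorem g23_Q13 : g23Q13 0 = 1 ∧ (∀ i : Fin 12, g23Q13 i.succ = g23Q13 i.castSucc * g23Q13 1) ∧
    g23Q13 12 * g23Q13 1 = 1 ∧ g23Q13 1 ≠ 1 := by
  decide +kernel

theorem g23_P13 : ∀ k : Fin 7, g23P13 k = g23Q13 (Fin.castLE (by norm_num) k) := by
  decide +kernel

theorem g23_X6 : g23X6 * g23X6 = g23S2 ∧ g23S2 * g23X6 = g23S3 ∧ g23S3 * g23S3 = 1 ∧
    g23S2 ≠ 1 ∧ g23S3 ≠ 1 := by
  decide +kernel

theorem g23_E7 : g23E7 = Matrix.of (fun i k => (g23Q7 k).mulVec g23v7 i) := by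
  decide +kernel

theorem g23_E7' : g23E7 * g23Ei7 = 1 := by
  decide +kernel

theorem g23_E13 : g23E13 = Matrix.of (fun i k => (g23P13 k).mulVec g23v13 i) := by
  decide +kernel

theorem g23_E13' : g23E13 * g23Ei13 = 1 := by
  decide +kernel

end Cfsg.Agent.Lib.helper94
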