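import Mathlib
import Cfsg.Prelude.Def_ChevG2
import Cfsg.Agent.Lib.helper94.G23Defs
import Cfsg.Agent.Lib.helper94.G23DataDefs

set_option autoImplicit false

/-!
# Data for `G_2(3)` on its 7-dimensional ideal (helper94) -- the commutant of the element of order 7

In characteristic 3 the fundamental coroot `h_1` and the six short root vectors span an ideal of
the Chevalley algebra of type `G_2`, invariant under the Chevalley group.  `g23M r t` is the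
matrix of the root element `x_r(t)` on it, `g23T` the structure constants of the bracket on it.
`g23Q7`, `g23Q13` are the powers of the restrictions of an element of order 7 and of order 13.
Generated by `tools/helper94/g23/gendata.py`.
-/

namespace Cfsg.Agent.Lib.helper94

open Matrix

theorem g23_enum7_00 : ∀ a2 a3 a4 a5 a6 : ZMod 3,
    g23chk7 (g23lin g23Q7 0 0 a2 a3 a4 a5 a6) = true →
    g23lin g23Q7 0 0 a2 a3 a4 a5 a6 = 0 ∨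
      ∃ i : Fin 7, g23lin g23Q7 0 0 a2 a3 a4 a5 a6 = g23Q7 i := by
  decide +kernel

theorem g23_enum7_01 : ∀ a2 a3 a4 a5 a6 : ZMod 3,
    g23chk7 (g23lin g23Q7 0 1 a2 a3 a4 a5 a6) = true →
    g23lin g23Q7 0 1 a2 a3 a4 a5 a6 = 0 ∨
      ∃ i : Fin 7, g23lin g23Q7 0 1 a2 a3 a4 a5 a6 = g23Q7 i := by
  decide +kernel

theorem g23_enum7_02 : ∀ a2 a3 a4 a5 a6 : ZMod 3,
    g23chk7 (g23lin g23Q7 0 2 a2 a3 a4 a5 a6) = true →
    g23lin g23Q7 0 2 a2 a3 a4 a5 a6 = 0 ∨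
      ∃ i : Fin 7, g23lin g23Q7 0 2 a2 a3 a4 a5 a6 = g23Q7 i := by
  decide +kernel

theorem g23_enum7_10 : ∀ a2 a3 a4 a5 a6 : ZMod 3,
    g23chk7 (g23lin g23Q7 1 0 a2 a3 a4 a5 a6) = true →
    g23lin g23Q7 1 0 a2 a3 a4 a5 a6 = 0 ∨
      ∃ i : Fin 7, g23lin g23Q7 1 0 a2 a3 a4 a5 a6 = g23Q7 i := by
  decide +kernel

theorem g23_enum7_11 : ∀ a2 a3 a4 a5 a6 : ZMod 3,
    g23chk7 (g23lin g23Q7 1 1 a2 a3 a4 a5 a6) = true →
    g23lin g23Q7 1 1 a2 a3 a4 a5 a6 = 0 ∨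
      ∃ i : Fin 7, g23lin g23Q7 1 1 a2 a3 a4 a5 a6 = g23Q7 i := by
  decide +kernel

theorem g23_enum7_12 : ∀ a2 a3 a4 a5 a6 : ZMod 3,
    g23chk7 (g23lin g23Q7 1 2 a2 a3 a4 a5 a6) = true →
    g23lin g23Q7 1 2 a2 a3 a4 a5 a6 = 0 ∨
      ∃ i : Fin 7, g23lin g23Q7 1 2 a2 a3 a4 a5 a6 = g23Q7 i := by
  decide +kernel

theorem g23_enum7_20 : ∀ a2 a3 a4 a5 a6 : ZMod 3,
    g23chk7 (g23lin g23Q7 2 0 a2 a3 a4 a5 a6) = true →
    g23lin g23Q7 2 0 a2 a3 a4 a5 a6 = 0 ∨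
      ∃ i : Fin 7, g23lin g23Q7 2 0 a2 a3 a4 a5 a6 = g23Q7 i := by
  decide +kernel

theorem g23_enum7_21 : ∀ a2 a3 a4 a5 a6 : ZMod 3,
    g23chk7 (g23lin g23Q7 2 1 a2 a3 a4 a5 a6) = true →
    g23lin g23Q7 2 1 a2 a3 a4 a5 a6 = 0 ∨
      ∃ i : Fin 7, g23lin g23Q7 2 1 a2 a3 a4 a5 a6 = g23Q7 i := by
  decide +kernel

theorem g23_enum7_22 : ∀ a2 a3 a4 a5 a6 : ZMod 3,
    g23chk7 (g23lin g23Q7 2 2 a2 a3 a4 a5 a6) = true →
    g23lin g23Q7 2 2 a2 a3 a4 a5 a6 = 0 ∨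
      ∃ i : Fin 7, g23lin g23Q7 2 2 a2 a3 a4 a5 a6 = g23Q7 i := by
  decide +kernel

end Cfsg.Agent.Lib.helper94
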