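import Mathlib
import Cfsg.Prelude.Def_ChevG2
import Cfsg.Agent.Lib.helper94.G23Defs
import Cfsg.Agent.Lib.helper94.G23DataDefs
import Cfsg.Agent.Lib.helper94.G23DataA
import Cfsg.Agent.Lib.helper94.G23DataB
import Cfsg.Agent.Lib.helper94.G23DataC1
import Cfsg.Agent.Lib.helper94.G23DataC2
import Cfsg.Agent.Lib.helper94.G23DataC3
import Cfsg.Agent.Lib.helper94.G23DataD
import Cfsg.Agent.Lib.helper94.G23DataE7
import Cfsg.Agent.Lib.helper94.G23DataE13
import Cfsg.Agent.Lib.helper17.S2518A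
import Cfsg.Agent.Lib.helper17.S2518B
import Cfsg.Agent.Lib.helper91.S2518D
import Cfsg.Agent.Lib.helper91.S2518E
import Cfsg.Agent.Lib.helper19.S2518G
import Cfsg.Agent.Lib.helper23.ChevMap
import Cfsg.Agent.Lib.helper23.ChevSimpleFinal
import Cfsg.Agent.Lib.helper41.ChevOrderG2

set_option autoImplicit false

/-!
# `G_2(3)`: elements of order 6, 7, 13 and the centralizers of the latter two (helper94)

The Chevalley group of type `G_2` over the field with three elements acts faithfully on the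
7-dimensional ideal of its Lie algebra spanned by `h_1` and the short root vectors, preserving the
bracket.  The centralizers of an element of order 7 and of an element of order 13 are computed
there: the commutant of each in the matrix algebra is the algebra of its polynomials, and the only
polynomials preserving the bracket are its powers.
-/

namespace Cfsg.Agent.Lib.helper94

open Matrix Cfsg Cfsg.Lie

/-- the root elements as elements of `GL` -/
def g23gen (r : Fin 12) (t : ZMod 3) : GL (Fin 2 ⊕ Fin 12) (ZMod 3) :=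
  ⟨g23xm r t, g23xm r (-t), g23_c2 r t, by have h := g23_c2 r (-t); rwa [neg_neg] at h⟩

/-- the root elements on the ideal as elements of `GL` -/
def g23genM (r : Fin 12) (t : ZMod 3) : GL (Fin 7) (ZMod 3) :=
  ⟨g23M r t, g23M r (-t), g23_c2' r t, by have h := g23_c2' r (-t); rwa [neg_neg] at h⟩

theorem g23_c3 (r : Fin 12) (t : ZMod 3) (a b i : Fin 7) : g23Tens (g23M r t) a b i := by
  fin_cases r
  exacts [g23_c3_0 t a b i, g23_c3_1 t a b i, g23_c3_2 t a b i, g23_c3_3 t a b i,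
    g23_c3_4 t a b i, g23_c3_5 t a b i, g23_c3_6 t a b i, g23_c3_7 t a b i,
    g23_c3_8 t a b i, g23_c3_9 t a b i, g23_c3_10 t a b i, g23_c3_11 t a b i]

theorem g23genM_mem (r : Fin 12) (t : ZMod 3) : g23genM r t ∈ presSubgroup g23T :=
  Cfsg.Agent.Lib.helper91.presT_of_tensor g23T _ (fun a b i => g23_c3 r t a b i)

/-- the generating set -/
def g23S : Set (GL (Fin 2 ⊕ Fin 12) (ZMod 3)) :=
  {g | ∃ (r : Fin 12) (t : ZMod 3),
    (g : Matrix (Fin 2 ⊕ Fin 12) (Fin 2 ⊕ Fin 12) (ZMod 3)) = g23xm r t}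

theorem g23S_restr : ∀ g ∈ g23S, ∃ M ∈ presSubgroup g23T,
    (g : Matrix (Fin 2 ⊕ Fin 12) (Fin 2 ⊕ Fin 12) (ZMod 3)) * g23B
      = g23B * (M : Matrix (Fin 7) (Fin 7) (ZMod 3)) := by
  rintro g ⟨r, t, h⟩
  exact ⟨g23genM r t, g23genM_mem r t, by rw [h]; exact g23_c1 r t⟩

theorem g23_group_eq : chevG2.group (ZMod 3) = Subgroup.closure g23S := rfl

theorem g23_exists_rho : ∃ ρ : ↥(Subgroup.closure g23S) →* ↥(presSubgroup g23T),
    ∀ g : ↥(Subgroup.closure g23S),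
      ((g : GL (Fin 2 ⊕ Fin 12) (ZMod 3)) : Matrix (Fin 2 ⊕ Fin 12) (Fin 2 ⊕ Fin 12) (ZMod 3))
          * g23B
        = g23B * (((ρ g : ↥(presSubgroup g23T)) : GL (Fin 7) (ZMod 3)) :
            Matrix (Fin 7) (Fin 7) (ZMod 3)) :=
  Cfsg.Agent.Lib.helper19.exists_restriction g23B g23Bt g23_c0 g23S (presSubgroup g23T) g23S_restr

instance g23_simple : IsSimpleGroup ↥(Subgroup.closure g23S) :=
  (Cfsg.Agent.Lib.helper23.chev_simple_all (F := ZMod 3) chevG2 (by simp)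
    (fun _ => ⟨2, by decide, by decide⟩)).1

/-! ### powers -/

theorem g23Q7_pow : ∀ k : Fin 7, g23Q7 k = g23Q7 1 ^ (k : ℕ) := by
  intro k
  induction k using Fin.induction with
  | zero => rw [Fin.val_zero, pow_zero]; exact g23_Q7.1
  | succ i ih => rw [g23_Q7.2.1 i, ih, Fin.val_succ, pow_succ]; rfl

theorem g23Q13_pow : ∀ k : Fin 13, g23Q13 k = g23Q13 1 ^ (k : ℕ) := by
  intro k
  induction k using Fin.induction with
  | zero => rw [Fin.val_zero, pow_zero]; exact g23_Q13.1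
  | succ i ih => rw [g23_Q13.2.1 i, ih, Fin.val_succ, pow_succ]; rfl

theorem g23P13_pow : ∀ k : Fin 7, g23P13 k = g23Q13 1 ^ (k : ℕ) := by
  intro k
  exact (g23_P13 k).trans (g23Q13_pow _)

theorem g23Q7_pow7 : g23Q7 1 ^ 7 = 1 := by
  have h := g23_Q7.2.2.1
  rw [g23Q7_pow 6] at h
  rw [pow_succ]
  exact h

theorem g23Q13_pow13 : g23Q13 1 ^ 13 = 1 := by
  have h := g23_Q13.2.2.1
  rw [g23Q13_pow 12] at h
  rw [pow_succ]
  exact h

/-! ### from the bracket to the tensor identities -/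

theorem bilT_single {n : ℕ} {K : Type*} [CommRing K] (T : Fin n → Fin n → Fin n → K)
    (p q k : Fin n) : bilT T (Pi.single p 1) (Pi.single q 1) k = T p q k := by
  unfold bilT
  rw [Finset.sum_eq_single p]
  · rw [Finset.sum_eq_single q]
    · simp
    · intro d _ hd
      simp [Pi.single_eq_of_ne hd]
    · simp
  · intro c _ hc
    apply Finset.sum_eq_zero
    intro d _
    simp [Pi.single_eq_of_ne hc]
  · simp

theorem g23Tens_of_presT (M : Matrix (Fin 7) (Fin 7) (ZMod 3)) (h : PresT g23T M)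
    (p q i : Fin 7) : g23Tens M p q i := by
  have h1 := congrFun (h (Pi.single p 1) (Pi.single q 1)) i
  have h2 : ∀ (j c : Fin 7), (M.mulVec (Pi.single j 1)) c = M c j := by
    intro j c
    simp [Matrix.mulVec, dotProduct, Pi.single_apply]
  have h3 : bilT g23T (M.mulVec (Pi.single p 1)) (M.mulVec (Pi.single q 1)) i
      = ∑ c, ∑ d, M c p * M d q * g23T c d i := by
    unfold bilT
    simp only [h2]
  have h4 : (M.mulVec (bilT g23T (Pi.single p 1) (Pi.single q 1))) i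
      = ∑ k, M i k * g23T p q k := by
    simp only [Matrix.mulVec, dotProduct, bilT_single]
  rw [h3, h4] at h1
  exact h1

theorem g23chk7_of_presT (M : Matrix (Fin 7) (Fin 7) (ZMod 3)) (h : PresT g23T M) :
    g23chk7 M = true := by
  have h' := g23Tens_of_presT M h
  delta g23chk7
  simp [h']

theorem g23chk13_of_presT (M : Matrix (Fin 7) (Fin 7) (ZMod 3)) (h : PresT g23T M) :
    g23chk13 M = true := by
  have h' := g23Tens_of_presT M h
  delta g23chk13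
  simp [h']

theorem g23_zmod3 : ∀ a : ZMod 3, a = 0 ∨ a = 1 ∨ a = 2 := by decide

theorem g23_enum7 (a0 a1 a2 a3 a4 a5 a6 : ZMod 3)
    (h : g23chk7 (g23lin g23Q7 a0 a1 a2 a3 a4 a5 a6) = true) :
    g23lin g23Q7 a0 a1 a2 a3 a4 a5 a6 = 0 ∨
      ∃ i : Fin 7, g23lin g23Q7 a0 a1 a2 a3 a4 a5 a6 = g23Q7 i := by
  rcases g23_zmod3 a0 with rfl | rfl | rfl <;> rcases g23_zmod3 a1 with rfl | rfl | rfl
  · exact g23_enum7_00 a2 a3 a4 a5 a6 h
  · exact g23_enum7_01 a2 a3 a4 a5 a6 h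
  · exact g23_enum7_02 a2 a3 a4 a5 a6 h
  · exact g23_enum7_10 a2 a3 a4 a5 a6 h
  · exact g23_enum7_11 a2 a3 a4 a5 a6 h
  · exact g23_enum7_12 a2 a3 a4 a5 a6 h
  · exact g23_enum7_20 a2 a3 a4 a5 a6 h
  · exact g23_enum7_21 a2 a3 a4 a5 a6 h
  · exact g23_enum7_22 a2 a3 a4 a5 a6 h

theorem g23_enum13 (a0 a1 a2 a3 a4 a5 a6 : ZMod 3)
    (h : g23chk13 (g23lin g23P13 a0 a1 a2 a3 a4 a5 a6) = true) :
    g23lin g23P13 a0 a1 a2 a3 a4 a5 a6 = 0 ∨
      ∃ i : Fin 13, g23lin g23P13 a0 a1 a2 a3 a4 a5 a6 = g23Q13 i := by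
  rcases g23_zmod3 a0 with rfl | rfl | rfl <;> rcases g23_zmod3 a1 with rfl | rfl | rfl
  · exact g23_enum13_00 a2 a3 a4 a5 a6 h
  · exact g23_enum13_01 a2 a3 a4 a5 a6 h
  · exact g23_enum13_02 a2 a3 a4 a5 a6 h
  · exact g23_enum13_10 a2 a3 a4 a5 a6 h
  · exact g23_enum13_11 a2 a3 a4 a5 a6 h
  · exact g23_enum13_12 a2 a3 a4 a5 a6 h
  · exact g23_enum13_20 a2 a3 a4 a5 a6 h
  · exact g23_enum13_21 a2 a3 a4 a5 a6 h
  · exact g23_enum13_22 a2 a3 a4 a5 a6 h

/-- a matrix commuting with the element of order 7 and preserving the bracket is one of its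
powers -/
theorem g23_cent7 (M : Matrix (Fin 7) (Fin 7) (ZMod 3)) (hM : M * g23Q7 1 = g23Q7 1 * M)
    (hp : PresT g23T M) : M = 0 ∨ ∃ i : ℕ, M = g23Q7 1 ^ i := by
  obtain ⟨a, ha⟩ := Cfsg.Agent.Lib.helper91.comm_cyclic (g23Q7 1) g23E7 g23Ei7 g23Q7 g23v7
    g23Q7_pow (fun i k => congrFun (congrFun g23_E7 i) k) g23_E7' M hM
  have hl : M = g23lin g23Q7 (a 0) (a 1) (a 2) (a 3) (a 4) (a 5) (a 6) := by
    rw [ha, Fin.sum_univ_seven]
    rfl
  have hc := g23chk7_of_presT M hp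
  rw [hl] at hc
  rcases g23_enum7 _ _ _ _ _ _ _ hc with h | ⟨i, h⟩
  · left
    rw [hl, h]
  · right
    exact ⟨i, by rw [hl, h]; exact g23Q7_pow i⟩

/-- a matrix commuting with the element of order 13 and preserving the bracket is one of its
powers -/
theorem g23_cent13 (M : Matrix (Fin 7) (Fin 7) (ZMod 3)) (hM : M * g23Q13 1 = g23Q13 1 * M)
    (hp : PresT g23T M) : M = 0 ∨ ∃ i : ℕ, M = g23Q13 1 ^ i := by
  obtain ⟨a, ha⟩ := Cfsg.Agent.Lib.helper91.comm_cyclic (g23Q13 1) g23E13 g23Ei13 g23P13 g23v13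
    g23P13_pow (fun i k => congrFun (congrFun g23_E13 i) k) g23_E13' M hM
  have hl : M = g23lin g23P13 (a 0) (a 1) (a 2) (a 3) (a 4) (a 5) (a 6) := by
    rw [ha, Fin.sum_univ_seven]
    rfl
  have hc := g23chk13_of_presT M hp
  rw [hl] at hc
  rcases g23_enum13 _ _ _ _ _ _ _ hc with h | ⟨i, h⟩
  · left
    rw [hl, h]
  · right
    exact ⟨i, by rw [hl, h]; exact g23Q13_pow i⟩

/-! ### the group -/

section grp

variable (ρ : ↥(Subgroup.closure g23S) →* ↥(presSubgroup g23T))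

/-- the matrix of a group element on the ideal -/
def g23mu : ↥(Subgroup.closure g23S) →* Matrix (Fin 7) (Fin 7) (ZMod 3) :=
  (Units.coeHom (Matrix (Fin 7) (Fin 7) (ZMod 3))).comp ((presSubgroup g23T).subtype.comp ρ)

theorem g23mu_apply (g : ↥(Subgroup.closure g23S)) :
    g23mu ρ g = (((ρ g : ↥(presSubgroup g23T)) : GL (Fin 7) (ZMod 3)) :
      Matrix (Fin 7) (Fin 7) (ZMod 3)) := rfl

theorem g23mu_presT (g : ↥(Subgroup.closure g23S)) : PresT g23T (g23mu ρ g) := (ρ g).2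

theorem g23mu_ne_zero (g : ↥(Subgroup.closure g23S)) : g23mu ρ g ≠ 0 :=
  Units.ne_zero ((ρ g : ↥(presSubgroup g23T)) : GL (Fin 7) (ZMod 3))

/-- the root elements in the group -/
def g23elt (r : Fin 12) (t : ZMod 3) : ↥(Subgroup.closure g23S) :=
  ⟨g23gen r t, Subgroup.subset_closure ⟨r, t, rfl⟩⟩

/-- an element of order 7 -/
def g23x7 : ↥(Subgroup.closure g23S) := g23elt 10 2 * g23elt 3 2 * g23elt 0 1 * g23elt 6 1

/-- an element of order 13 -/
def g23x13 : ↥(Subgroup.closure g23S) := g23elt 11 2 * g23elt 5 2 * g23elt 1 1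

/-- an element of order 6 -/
def g23x6 : ↥(Subgroup.closure g23S) := g23elt 8 2 * g23elt 3 1

variable (hρ : ∀ g : ↥(Subgroup.closure g23S),
  ((g : GL (Fin 2 ⊕ Fin 12) (ZMod 3)) : Matrix (Fin 2 ⊕ Fin 12) (Fin 2 ⊕ Fin 12) (ZMod 3))
      * g23B
    = g23B * (((ρ g : ↥(presSubgroup g23T)) : GL (Fin 7) (ZMod 3)) :
        Matrix (Fin 7) (Fin 7) (ZMod 3)))

include hρ

theorem g23mu_elt (r : Fin 12) (t : ZMod 3) : g23mu ρ (g23elt r t) = g23M r t := by
  have h1 : g23xm r t * g23B = g23B * g23mu ρ (g23elt r t) := hρ (g23elt r t)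
  rw [g23_c1] at h1
  have h2 := congrArg (fun X => g23Bt * X) h1
  simp only [← Matrix.mul_assoc, g23_c0, Matrix.one_mul] at h2
  exact h2.symm

theorem g23mu_x7 : g23mu ρ g23x7 = g23Q7 1 := by
  unfold g23x7
  rw [map_mul, map_mul, map_mul, g23mu_elt ρ hρ, g23mu_elt ρ hρ, g23mu_elt ρ hρ, g23mu_elt ρ hρ]
  exact g23_w7

theorem g23mu_x13 : g23mu ρ g23x13 = g23Q13 1 := by
  unfold g23x13
  rw [map_mul, map_mul, g23mu_elt ρ hρ, g23mu_elt ρ hρ, g23mu_elt ρ hρ]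
  exact g23_w13

theorem g23mu_x6 : g23mu ρ g23x6 = g23X6 := by
  unfold g23x6
  rw [map_mul, g23mu_elt ρ hρ, g23mu_elt ρ hρ]
  exact g23_w6

theorem g23_rho_inj : Function.Injective ρ := by
  rw [← MonoidHom.ker_eq_bot_iff]
  rcases (MonoidHom.normal_ker ρ).eq_bot_or_eq_top with h | h
  · exact h
  · exfalso
    have h1 : g23x7 ∈ ρ.ker := by
      rw [h]
      exact Subgroup.mem_top _
    have h2 : ρ g23x7 = 1 := MonoidHom.mem_ker.1 h1
    have h3 : g23mu ρ g23x7 = 1 := by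
      rw [g23mu_apply, h2]
      rfl
    rw [g23mu_x7 ρ hρ] at h3
    exact g23_Q7.2.2.2 h3

theorem g23mu_inj : Function.Injective (g23mu ρ) := by
  intro g h e
  apply g23_rho_inj ρ hρ
  apply Subtype.ext
  apply Units.ext
  exact e

theorem g23_order7 : orderOf g23x7 = 7 := by
  have : Fact (Nat.Prime 7) := ⟨by norm_num⟩
  apply orderOf_eq_prime
  · apply g23mu_inj ρ hρ
    rw [map_pow, map_one, g23mu_x7 ρ hρ]
    exact g23Q7_pow7
  · intro h
    have h3 : g23mu ρ g23x7 = 1 := by rw [h, map_one]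
    rw [g23mu_x7 ρ hρ] at h3
    exact g23_Q7.2.2.2 h3

theorem g23_order13 : orderOf g23x13 = 13 := by
  have : Fact (Nat.Prime 13) := ⟨by norm_num⟩
  apply orderOf_eq_prime
  · apply g23mu_inj ρ hρ
    rw [map_pow, map_one, g23mu_x13 ρ hρ]
    exact g23Q13_pow13
  · intro h
    have h3 : g23mu ρ g23x13 = 1 := by rw [h, map_one]
    rw [g23mu_x13 ρ hρ] at h3
    exact g23_Q13.2.2.2 h3

theorem g23_order6 : orderOf g23x6 = 6 := by
  have hX := g23_X6
  have h2 : g23mu ρ (g23x6 ^ 2) = g23S2 := by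
    rw [map_pow, g23mu_x6 ρ hρ, pow_two]
    exact hX.1
  have h3 : g23mu ρ (g23x6 ^ 3) = g23S3 := by
    rw [map_pow, g23mu_x6 ρ hρ, pow_succ, pow_two, hX.1]
    exact hX.2.1
  have h6 : g23x6 ^ 6 = 1 := by
    apply g23mu_inj ρ hρ
    rw [show (6 : ℕ) = 3 * 2 from rfl, pow_mul, map_pow, h3, pow_two, map_one]
    exact hX.2.2.1
  refine orderOf_eq_of_pow_and_pow_div_prime (by norm_num) h6 ?_
  intro p hp hd
  have hp' : p = 2 ∨ p = 3 := by
    have h6' : p ∣ 2 * 3 := hd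
    rcases (Nat.Prime.dvd_mul hp).1 h6' with h | h
    · left
      exact (Nat.prime_dvd_prime_iff_eq hp Nat.prime_two).1 h
    · right
      exact (Nat.prime_dvd_prime_iff_eq hp Nat.prime_three).1 h
  rcases hp' with rfl | rfl
  · intro h
    have h' : g23x6 ^ 3 = 1 := h
    have h4 : g23mu ρ (g23x6 ^ 3) = 1 := by rw [h', map_one]
    rw [h3] at h4
    exact hX.2.2.2.2 h4
  · intro h
    have h' : g23x6 ^ 2 = 1 := h
    have h4 : g23mu ρ (g23x6 ^ 2) = 1 := by rw [h', map_one]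
    rw [h2] at h4
    exact hX.2.2.2.1 h4

theorem g23_centr7 (g : ↥(Subgroup.closure g23S)) (hg : g * g23x7 = g23x7 * g) :
    g ∈ Subgroup.zpowers g23x7 := by
  have h1 : g23mu ρ g * g23Q7 1 = g23Q7 1 * g23mu ρ g := by
    rw [← g23mu_x7 ρ hρ, ← map_mul, ← map_mul, hg]
  rcases g23_cent7 _ h1 (g23mu_presT ρ g) with h | ⟨i, h⟩
  · exact absurd h (g23mu_ne_zero ρ g)
  · have h2 : g = g23x7 ^ i := by
      apply g23mu_inj ρ hρ
      rw [h, map_pow, g23mu_x7 ρ hρ]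
    rw [h2]
    exact Subgroup.npow_mem_zpowers _ _

theorem g23_centr13 (g : ↥(Subgroup.closure g23S)) (hg : g * g23x13 = g23x13 * g) :
    g ∈ Subgroup.zpowers g23x13 := by
  have h1 : g23mu ρ g * g23Q13 1 = g23Q13 1 * g23mu ρ g := by
    rw [← g23mu_x13 ρ hρ, ← map_mul, ← map_mul, hg]
  rcases g23_cent13 _ h1 (g23mu_presT ρ g) with h | ⟨i, h⟩
  · exact absurd h (g23mu_ne_zero ρ g)
  · have h2 : g = g23x13 ^ i := by
      apply g23mu_inj ρ hρ
      rw [h, map_pow, g23mu_x13 ρ hρ]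
    rw [h2]
    exact Subgroup.npow_mem_zpowers _ _

end grp

theorem g23_data_closure : ∃ x6 x7 x13 : ↥(Subgroup.closure g23S),
    orderOf x6 = 6 ∧ orderOf x7 = 7 ∧ orderOf x13 = 13 ∧
      (∀ g, g * x7 = x7 * g → g ∈ Subgroup.zpowers x7) ∧
      (∀ g, g * x13 = x13 * g → g ∈ Subgroup.zpowers x13) := by
  obtain ⟨ρ, hρ⟩ := g23_exists_rho
  exact ⟨g23x6, g23x7, g23x13, g23_order6 ρ hρ, g23_order7 ρ hρ, g23_order13 ρ hρ,
    g23_centr7 ρ hρ, g23_centr13 ρ hρ⟩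

theorem g23_transport {G H : Type*} [Group G] [Group H] (e : G ≃* H)
    (h : ∃ x6 x7 x13 : G, orderOf x6 = 6 ∧ orderOf x7 = 7 ∧ orderOf x13 = 13 ∧
      (∀ g, g * x7 = x7 * g → g ∈ Subgroup.zpowers x7) ∧
      (∀ g, g * x13 = x13 * g → g ∈ Subgroup.zpowers x13)) :
    ∃ x6 x7 x13 : H, orderOf x6 = 6 ∧ orderOf x7 = 7 ∧ orderOf x13 = 13 ∧
      (∀ g, g * x7 = x7 * g → g ∈ Subgroup.zpowers x7) ∧
      (∀ g, g * x13 = x13 * g → g ∈ Subgroup.zpowers x13) := by
  obtain ⟨x6, x7, x13, h6, h7, h13, hc7, hc13⟩ := h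
  have key : ∀ x : G, (∀ g, g * x = x * g → g ∈ Subgroup.zpowers x) →
      ∀ g : H, g * e x = e x * g → g ∈ Subgroup.zpowers (e x) := by
    intro x hx g hg
    have h1 : e.symm g * x = x * e.symm g := by
      apply e.injective
      rw [map_mul, map_mul, MulEquiv.apply_symm_apply]
      exact hg
    obtain ⟨k, hk⟩ := Subgroup.mem_zpowers_iff.1 (hx _ h1)
    rw [Subgroup.mem_zpowers_iff]
    refine ⟨k, ?_⟩
    rw [← map_zpow, hk, MulEquiv.apply_symm_apply]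
  exact ⟨e x6, e x7, e x13, by rw [MulEquiv.orderOf_eq]; exact h6,
    by rw [MulEquiv.orderOf_eq]; exact h7, by rw [MulEquiv.orderOf_eq]; exact h13,
    key x7 hc7, key x13 hc13⟩

/-- the prime graph of `G_2(3)`: the primes are 2, 3, 7, 13 and the only edge joins 2 and 3 -/
theorem g23_pg {F : Type*} [Field F] [Fintype F] (hF : Fintype.card F = 3) :
    (∀ r : ℕ, r.Prime → (r ∣ Nat.card ↥(chevG2.group F) ↔ r = 2 ∨ r = 3 ∨ r = 7 ∨ r = 13)) ∧
    (∀ r s : ℕ, r.Prime → s.Prime → r ≠ s →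
      ((∃ x : ↥(chevG2.group F), orderOf x = r * s) ↔ r * s = 6)) := by
  have e0 : ZMod 3 ≃+* F := ZMod.ringEquivOfPrime F Nat.prime_three hF
  have e1 : ↥(Subgroup.closure g23S) ≃* ↥(chevG2.group F) :=
    Cfsg.Agent.Lib.helper23.groupEquivOfRingEquiv chevG2 e0
  obtain ⟨x6, x7, x13, h6, h7, h13, hc7, hc13⟩ := g23_transport e1 g23_data_closure
  have hcard : Nat.card ↥(chevG2.group F) = 2 ^ 6 * 3 ^ 6 * 7 * 13 := by
    have h1 := Cfsg.Agent.Lib.helper41.TabG2.order_formula (F := F)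
    rw [hF] at h1
    exact h1.trans (by norm_num)
  exact Cfsg.Agent.Lib.helper17.pg_of_data 6 6 hcard x6 x7 x13 h6 h7 h13 hc7 hc13

end Cfsg.Agent.Lib.helper94
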