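import Mathlib

set_option autoImplicit false

/-!
# The field with 4 elements, concretely (helper94)

`G24K` is `F_2[x]/(x^2 + x + 1)`; the element `a0 + a1 x` has code `a0 + 2 a1 < 4`.  Addition is
`xor` of the codes, multiplication and inversion are read off tables packed into natural numbers,
so that the kernel evaluates them quickly.  Generated by `tools/helper94/g24/genfield.py`.
-/

namespace Cfsg.Agent.Lib.helper94

def g24addc (x y : Nat) : Nat := (x ^^^ y) % 4

def g24mulc (x y : Nat) : Nat := (2625168384 >>> (2 * (4 * (x % 4) + y % 4))) % 4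

def g24invc (x : Nat) : Nat := (180 >>> (2 * (x % 4))) % 4

theorem g24addc_lt (x y : Nat) : g24addc x y < 4 := Nat.mod_lt _ (by norm_num)
theorem g24mulc_lt (x y : Nat) : g24mulc x y < 4 := Nat.mod_lt _ (by norm_num)
theorem g24invc_lt (x : Nat) : g24invc x < 4 := Nat.mod_lt _ (by norm_num)

/-- the field with 4 elements -/
structure G24K where
  c : Nat
  h : c < 4

namespace G24K

theorem ext' {a b : G24K} (h : a.c = b.c) : a = b := by
  cases a; cases b; simp only at h; subst h; rfl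

theorem ext_iff' {a b : G24K} : a = b ↔ a.c = b.c := ⟨fun h => by rw [h], ext'⟩

instance : DecidableEq G24K := fun a b => decidable_of_iff (a.c = b.c) ext_iff'.symm

/-- the element with a given code -/
def ofN (n : Nat) : G24K := ⟨n % 4, Nat.mod_lt _ (by norm_num)⟩

instance : Zero G24K := ⟨⟨0, by norm_num⟩⟩
instance : One G24K := ⟨⟨1, by norm_num⟩⟩
instance : Add G24K := ⟨fun a b => ⟨g24addc a.c b.c, g24addc_lt _ _⟩⟩
instance : Neg G24K := ⟨fun a => a⟩
instance : Mul G24K := ⟨fun a b => ⟨g24mulc a.c b.c, g24mulc_lt _ _⟩⟩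
instance : Inv G24K := ⟨fun a => ⟨g24invc a.c, g24invc_lt _⟩⟩

@[simp] theorem zero_c : (0 : G24K).c = 0 := rfl
@[simp] theorem one_c : (1 : G24K).c = 1 := rfl
@[simp] theorem add_c (a b : G24K) : (a + b).c = g24addc a.c b.c := rfl
@[simp] theorem neg_c (a : G24K) : (-a).c = a.c := rfl
@[simp] theorem mul_c (a b : G24K) : (a * b).c = g24mulc a.c b.c := rfl
@[simp] theorem inv_c (a : G24K) : (a⁻¹).c = g24invc a.c := rfl
@[simp] theorem ofN_c (n : Nat) : (ofN n).c = n % 4 := rfl

theorem ofN_c_self (a : G24K) : ofN a.c = a := ext' (Nat.mod_eq_of_lt a.h)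

theorem c3a : ∀ a, a < 4 → ∀ b, b < 4 → ∀ c, c < 4 →
    g24addc (g24addc a b) c = g24addc a (g24addc b c) := by
  decide +kernel

theorem c3m : ∀ a, a < 4 → ∀ b, b < 4 → ∀ c, c < 4 →
    g24mulc (g24mulc a b) c = g24mulc a (g24mulc b c) := by
  decide +kernel

theorem c3d : ∀ a, a < 4 → ∀ b, b < 4 → ∀ c, c < 4 →
    g24mulc a (g24addc b c) = g24addc (g24mulc a b) (g24mulc a c) := by
  decide +kernel

theorem c2 : ∀ a, a < 4 → ∀ b, b < 4 → g24mulc a b = g24mulc b a := by
  decide +kernel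

theorem c1 : ∀ a, a < 4 →
    g24addc 0 a = a ∧ g24addc a a = 0 ∧ g24mulc 1 a = a ∧
    (a ≠ 0 → g24mulc a (g24invc a) = 1) := by
  decide +kernel

instance instField : Field G24K :=
  Field.ofMinimalAxioms G24K
    (fun a b c => ext' (c3a a.c a.h b.c b.h c.c c.h))
    (fun a => ext' (c1 a.c a.h).1)
    (fun a => ext' (c1 a.c a.h).2.1)
    (fun a b c => ext' (c3m a.c a.h b.c b.h c.c c.h))
    (fun a b => ext' (c2 a.c a.h b.c b.h))
    (fun a => ext' (c1 a.c a.h).2.2.1)
    (fun a ha => ext' ((c1 a.c a.h).2.2.2 (fun h0 => ha (ext' h0))))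
    (ext' (by decide))
    (fun a b c => ext' (c3d a.c a.h b.c b.h c.c c.h))
    ⟨0, 1, fun h => by
      have := congrArg G24K.c h
      simp at this⟩

/-- codes as an equivalence with `Fin 4` -/
def equivFin : G24K ≃ Fin 4 where
  toFun a := ⟨a.c, a.h⟩
  invFun i := ⟨i.1, i.2⟩
  left_inv _ := rfl
  right_inv _ := rfl

instance : Fintype G24K := Fintype.ofEquiv (Fin 4) equivFin.symm

theorem card_eq : Fintype.card G24K = 4 := by
  rw [Fintype.card_congr equivFin, Fintype.card_fin]

/-- the element with a given code in `Fin 4` -/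
def ofF (i : Fin 4) : G24K := ⟨i.1, i.2⟩

theorem ofF_surj (a : G24K) : ∃ i : Fin 4, a = ofF i := ⟨⟨a.c, a.h⟩, rfl⟩

theorem add_self' (a : G24K) : a + a = 0 := ext' (c1 a.c a.h).2.1

theorem neg_eq' (a : G24K) : -a = a := rfl

end G24K

end Cfsg.Agent.Lib.helper94
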