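import Mathlib
import Cfsg.Prelude.Def_ChevG2
import Cfsg.Agent.Lib.helper94.G24Field

set_option autoImplicit false

/-!
# Data for `G_2(4)` on its 6-dimensional module (helper94) -- definitions

The 7-dimensional representation of the Chevalley algebra of type `G_2` over the integers has,
modulo 2, an invariant line; `g24X j` are the matrices of the Chevalley basis on the quotient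
(over the field with four elements) and `g24M r t` is the matrix of the root element `x_r(t)` on
it: `g24M r t * g24X j = (∑ i, x_r(t) i j • g24X i) * g24M r t`.  `g24J` is the invariant
alternating form; `g24Q6`, `g24Q10`, `g24Q7`, `g24Q13` are the images of elements of order
6, 10, 7, 13.  Generated by `tools/helper94/g24/gendata.py`.
-/

namespace Cfsg.Agent.Lib.helper94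

open Matrix

/-- the index type of the Chevalley basis -/
abbrev G24I : Type := Fin 2 ⊕ Fin 12

/-- a generator of the multiplicative group of the field -/
def g24w : G24K := ⟨2, by norm_num⟩

/-- its square -/
def g24w2 : G24K := ⟨3, by norm_num⟩

/-- the root elements over the field with four elements -/
def g24xm (r : Fin 12) (t : G24K) : Matrix G24I G24I G24K :=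
  Cfsg.Lie.chevG2.xMat G24K r t

/-- the matrices of the Chevalley basis on the 6-dimensional module -/
def g24X : G24I → Matrix (Fin 6) (Fin 6) G24K :=
  Sum.elim
    ![!![1, 0, 0, 0, 0, 0; 0, 1, 0, 0, 0, 0; 0, 0, 0, 0, 0, 0; 0, 0, 0, 0, 0, 0; 0, 0, 0, 0, 1, 0; 0, 0, 0, 0, 0, 1],
      !![0, 0, 0, 0, 0, 0; 0, 1, 0, 0, 0, 0; 0, 0, 1, 0, 0, 0; 0, 0, 0, 1, 0, 0; 0, 0, 0, 0, 1, 0; 0, 0, 0, 0, 0, 0]]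
    ![!![0, 0, 0, 0, 0, 0; 0, 0, 0, 0, 0, 0; 0, 0, 0, 0, 0, 0; 0, 0, 0, 0, 0, 0; 1, 0, 0, 0, 0, 0; 0, 1, 0, 0, 0, 0],
      !![0, 0, 0, 0, 0, 0; 0, 0, 0, 0, 0, 0; 0, 0, 0, 0, 0, 0; 1, 0, 0, 0, 0, 0; 0, 0, 0, 0, 0, 0; 0, 0, 1, 0, 0, 0],
      !![0, 0, 0, 0, 0, 0; 0, 0, 0, 0, 0, 0; 0, 0, 0, 0, 0, 0; 0, 1, 0, 0, 0, 0; 0, 0, 1, 0, 0, 0; 0, 0, 0, 0, 0, 0],
      !![0, 0, 0, 0, 0, 0; 0, 0, 0, 0, 0, 0; 1, 0, 0, 0, 0, 0; 0, 0, 0, 0, 0, 0; 0, 0, 0, 0, 0, 0; 0, 0, 0, 1, 0, 0],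
      !![0, 0, 0, 0, 0, 0; 1, 0, 0, 0, 0, 0; 0, 0, 0, 0, 0, 0; 0, 0, 0, 0, 0, 0; 0, 0, 0, 0, 0, 0; 0, 0, 0, 0, 1, 0],
      !![0, 0, 0, 0, 0, 0; 0, 0, 0, 0, 0, 0; 0, 1, 0, 0, 0, 0; 0, 0, 0, 0, 0, 0; 0, 0, 0, 1, 0, 0; 0, 0, 0, 0, 0, 0],
      !![0, 0, 0, 0, 0, 0; 0, 0, 1, 0, 0, 0; 0, 0, 0, 0, 0, 0; 0, 0, 0, 0, 1, 0; 0, 0, 0, 0, 0, 0; 0, 0, 0, 0, 0, 0],
      !![0, 1, 0, 0, 0, 0; 0, 0, 0, 0, 0, 0; 0, 0, 0, 0, 0, 0; 0, 0, 0, 0, 0, 0; 0, 0, 0, 0, 0, 1; 0, 0, 0, 0, 0, 0],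
      !![0, 0, 1, 0, 0, 0; 0, 0, 0, 0, 0, 0; 0, 0, 0, 0, 0, 0; 0, 0, 0, 0, 0, 1; 0, 0, 0, 0, 0, 0; 0, 0, 0, 0, 0, 0],
      !![0, 0, 0, 0, 0, 0; 0, 0, 0, 1, 0, 0; 0, 0, 0, 0, 1, 0; 0, 0, 0, 0, 0, 0; 0, 0, 0, 0, 0, 0; 0, 0, 0, 0, 0, 0],
      !![0, 0, 0, 1, 0, 0; 0, 0, 0, 0, 0, 0; 0, 0, 0, 0, 0, 1; 0, 0, 0, 0, 0, 0; 0, 0, 0, 0, 0, 0; 0, 0, 0, 0, 0, 0],
      !![0, 0, 0, 0, 1, 0; 0, 0, 0, 0, 0, 1; 0, 0, 0, 0, 0, 0; 0, 0, 0, 0, 0, 0; 0, 0, 0, 0, 0, 0; 0, 0, 0, 0, 0, 0]]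

/-- the root elements on the 6-dimensional module, by the code of the parameter -/
def g24Mc : Fin 12 → Fin 4 → Matrix (Fin 6) (Fin 6) G24K :=
  ![![!![1, 0, 0, 0, 0, 0; 0, 1, 0, 0, 0, 0; 0, 0, 1, 0, 0, 0; 0, 0, 0, 1, 0, 0; 0, 0, 0, 0, 1, 0; 0, 0, 0, 0, 0, 1],
      !![1, 0, 0, 0, 0, 0; 0, 1, 0, 0, 0, 0; 0, 0, 1, 0, 0, 0; 0, 0, 0, 1, 0, 0; 1, 0, 0, 0, 1, 0; 0, 1, 0, 0, 0, 1],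
      !![1, 0, 0, 0, 0, 0; 0, 1, 0, 0, 0, 0; 0, 0, 1, 0, 0, 0; 0, 0, 0, 1, 0, 0; g24w, 0, 0, 0, 1, 0; 0, g24w, 0, 0, 0, 1],
      !![1, 0, 0, 0, 0, 0; 0, 1, 0, 0, 0, 0; 0, 0, 1, 0, 0, 0; 0, 0, 0, 1, 0, 0; g24w2, 0, 0, 0, 1, 0; 0, g24w2, 0, 0, 0, 1]],
    ![!![1, 0, 0, 0, 0, 0; 0, 1, 0, 0, 0, 0; 0, 0, 1, 0, 0, 0; 0, 0, 0, 1, 0, 0; 0, 0, 0, 0, 1, 0; 0, 0, 0, 0, 0, 1],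
      !![1, 0, 0, 0, 0, 0; 0, 1, 0, 0, 0, 0; 0, 0, 1, 0, 0, 0; 1, 0, 0, 1, 0, 0; 0, 0, 0, 0, 1, 0; 0, 0, 1, 0, 0, 1],
      !![1, 0, 0, 0, 0, 0; 0, 1, 0, 0, 0, 0; 0, 0, 1, 0, 0, 0; g24w, 0, 0, 1, 0, 0; 0, 0, 0, 0, 1, 0; 0, 0, g24w, 0, 0, 1],
      !![1, 0, 0, 0, 0, 0; 0, 1, 0, 0, 0, 0; 0, 0, 1, 0, 0, 0; g24w2, 0, 0, 1, 0, 0; 0, 0, 0, 0, 1, 0; 0, 0, g24w2, 0, 0, 1]],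
    ![!![1, 0, 0, 0, 0, 0; 0, 1, 0, 0, 0, 0; 0, 0, 1, 0, 0, 0; 0, 0, 0, 1, 0, 0; 0, 0, 0, 0, 1, 0; 0, 0, 0, 0, 0, 1],
      !![1, 0, 0, 0, 0, 0; 0, 1, 0, 0, 0, 0; 0, 0, 1, 0, 0, 0; 0, 1, 0, 1, 0, 0; 0, 0, 1, 0, 1, 0; 1, 0, 0, 0, 0, 1],
      !![1, 0, 0, 0, 0, 0; 0, 1, 0, 0, 0, 0; 0, 0, 1, 0, 0, 0; 0, g24w, 0, 1, 0, 0; 0, 0, g24w, 0, 1, 0; g24w2, 0, 0, 0, 0, 1],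
      !![1, 0, 0, 0, 0, 0; 0, 1, 0, 0, 0, 0; 0, 0, 1, 0, 0, 0; 0, g24w2, 0, 1, 0, 0; 0, 0, g24w2, 0, 1, 0; g24w, 0, 0, 0, 0, 1]],
    ![!![1, 0, 0, 0, 0, 0; 0, 1, 0, 0, 0, 0; 0, 0, 1, 0, 0, 0; 0, 0, 0, 1, 0, 0; 0, 0, 0, 0, 1, 0; 0, 0, 0, 0, 0, 1],
      !![1, 0, 0, 0, 0, 0; 0, 1, 0, 0, 0, 0; 1, 0, 1, 0, 0, 0; 0, 0, 0, 1, 0, 0; 0, 1, 0, 0, 1, 0; 0, 0, 0, 1, 0, 1],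
      !![1, 0, 0, 0, 0, 0; 0, 1, 0, 0, 0, 0; g24w, 0, 1, 0, 0, 0; 0, 0, 0, 1, 0, 0; 0, g24w2, 0, 0, 1, 0; 0, 0, 0, g24w, 0, 1],
      !![1, 0, 0, 0, 0, 0; 0, 1, 0, 0, 0, 0; g24w2, 0, 1, 0, 0, 0; 0, 0, 0, 1, 0, 0; 0, g24w, 0, 0, 1, 0; 0, 0, 0, g24w2, 0, 1]],
    ![!![1, 0, 0, 0, 0, 0; 0, 1, 0, 0, 0, 0; 0, 0, 1, 0, 0, 0; 0, 0, 0, 1, 0, 0; 0, 0, 0, 0, 1, 0; 0, 0, 0, 0, 0, 1],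
      !![1, 0, 0, 0, 0, 0; 1, 1, 0, 0, 0, 0; 0, 0, 1, 0, 0, 0; 0, 0, 1, 1, 0, 0; 0, 0, 0, 0, 1, 0; 0, 0, 0, 0, 1, 1],
      !![1, 0, 0, 0, 0, 0; g24w, 1, 0, 0, 0, 0; 0, 0, 1, 0, 0, 0; 0, 0, g24w2, 1, 0, 0; 0, 0, 0, 0, 1, 0; 0, 0, 0, 0, g24w, 1],
      !![1, 0, 0, 0, 0, 0; g24w2, 1, 0, 0, 0, 0; 0, 0, 1, 0, 0, 0; 0, 0, g24w, 1, 0, 0; 0, 0, 0, 0, 1, 0; 0, 0, 0, 0, g24w2, 1]],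
    ![!![1, 0, 0, 0, 0, 0; 0, 1, 0, 0, 0, 0; 0, 0, 1, 0, 0, 0; 0, 0, 0, 1, 0, 0; 0, 0, 0, 0, 1, 0; 0, 0, 0, 0, 0, 1],
      !![1, 0, 0, 0, 0, 0; 0, 1, 0, 0, 0, 0; 0, 1, 1, 0, 0, 0; 0, 0, 0, 1, 0, 0; 0, 0, 0, 1, 1, 0; 0, 0, 0, 0, 0, 1],
      !![1, 0, 0, 0, 0, 0; 0, 1, 0, 0, 0, 0; 0, g24w, 1, 0, 0, 0; 0, 0, 0, 1, 0, 0; 0, 0, 0, g24w, 1, 0; 0, 0, 0, 0, 0, 1],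
      !![1, 0, 0, 0, 0, 0; 0, 1, 0, 0, 0, 0; 0, g24w2, 1, 0, 0, 0; 0, 0, 0, 1, 0, 0; 0, 0, 0, g24w2, 1, 0; 0, 0, 0, 0, 0, 1]],
    ![!![1, 0, 0, 0, 0, 0; 0, 1, 0, 0, 0, 0; 0, 0, 1, 0, 0, 0; 0, 0, 0, 1, 0, 0; 0, 0, 0, 0, 1, 0; 0, 0, 0, 0, 0, 1],
      !![1, 0, 0, 0, 0, 0; 0, 1, 1, 0, 0, 0; 0, 0, 1, 0, 0, 0; 0, 0, 0, 1, 1, 0; 0, 0, 0, 0, 1, 0; 0, 0, 0, 0, 0, 1],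
      !![1, 0, 0, 0, 0, 0; 0, 1, g24w, 0, 0, 0; 0, 0, 1, 0, 0, 0; 0, 0, 0, 1, g24w, 0; 0, 0, 0, 0, 1, 0; 0, 0, 0, 0, 0, 1],
      !![1, 0, 0, 0, 0, 0; 0, 1, g24w2, 0, 0, 0; 0, 0, 1, 0, 0, 0; 0, 0, 0, 1, g24w2, 0; 0, 0, 0, 0, 1, 0; 0, 0, 0, 0, 0, 1]],
    ![!![1, 0, 0, 0, 0, 0; 0, 1, 0, 0, 0, 0; 0, 0, 1, 0, 0, 0; 0, 0, 0, 1, 0, 0; 0, 0, 0, 0, 1, 0; 0, 0, 0, 0, 0, 1],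
      !![1, 1, 0, 0, 0, 0; 0, 1, 0, 0, 0, 0; 0, 0, 1, 1, 0, 0; 0, 0, 0, 1, 0, 0; 0, 0, 0, 0, 1, 1; 0, 0, 0, 0, 0, 1],
      !![1, g24w, 0, 0, 0, 0; 0, 1, 0, 0, 0, 0; 0, 0, 1, g24w2, 0, 0; 0, 0, 0, 1, 0, 0; 0, 0, 0, 0, 1, g24w; 0, 0, 0, 0, 0, 1],
      !![1, g24w2, 0, 0, 0, 0; 0, 1, 0, 0, 0, 0; 0, 0, 1, g24w, 0, 0; 0, 0, 0, 1, 0, 0; 0, 0, 0, 0, 1, g24w2; 0, 0, 0, 0, 0, 1]],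
    ![!![1, 0, 0, 0, 0, 0; 0, 1, 0, 0, 0, 0; 0, 0, 1, 0, 0, 0; 0, 0, 0, 1, 0, 0; 0, 0, 0, 0, 1, 0; 0, 0, 0, 0, 0, 1],
      !![1, 0, 1, 0, 0, 0; 0, 1, 0, 0, 1, 0; 0, 0, 1, 0, 0, 0; 0, 0, 0, 1, 0, 1; 0, 0, 0, 0, 1, 0; 0, 0, 0, 0, 0, 1],
      !![1, 0, g24w, 0, 0, 0; 0, 1, 0, 0, g24w2, 0; 0, 0, 1, 0, 0, 0; 0, 0, 0, 1, 0, g24w; 0, 0, 0, 0, 1, 0; 0, 0, 0, 0, 0, 1],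
      !![1, 0, g24w2, 0, 0, 0; 0, 1, 0, 0, g24w, 0; 0, 0, 1, 0, 0, 0; 0, 0, 0, 1, 0, g24w2; 0, 0, 0, 0, 1, 0; 0, 0, 0, 0, 0, 1]],
    ![!![1, 0, 0, 0, 0, 0; 0, 1, 0, 0, 0, 0; 0, 0, 1, 0, 0, 0; 0, 0, 0, 1, 0, 0; 0, 0, 0, 0, 1, 0; 0, 0, 0, 0, 0, 1],
      !![1, 0, 0, 0, 0, 1; 0, 1, 0, 1, 0, 0; 0, 0, 1, 0, 1, 0; 0, 0, 0, 1, 0, 0; 0, 0, 0, 0, 1, 0; 0, 0, 0, 0, 0, 1],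
      !![1, 0, 0, 0, 0, g24w2; 0, 1, 0, g24w, 0, 0; 0, 0, 1, 0, g24w, 0; 0, 0, 0, 1, 0, 0; 0, 0, 0, 0, 1, 0; 0, 0, 0, 0, 0, 1],
      !![1, 0, 0, 0, 0, g24w; 0, 1, 0, g24w2, 0, 0; 0, 0, 1, 0, g24w2, 0; 0, 0, 0, 1, 0, 0; 0, 0, 0, 0, 1, 0; 0, 0, 0, 0, 0, 1]],
    ![!![1, 0, 0, 0, 0, 0; 0, 1, 0, 0, 0, 0; 0, 0, 1, 0, 0, 0; 0, 0, 0, 1, 0, 0; 0, 0, 0, 0, 1, 0; 0, 0, 0, 0, 0, 1],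
      !![1, 0, 0, 1, 0, 0; 0, 1, 0, 0, 0, 0; 0, 0, 1, 0, 0, 1; 0, 0, 0, 1, 0, 0; 0, 0, 0, 0, 1, 0; 0, 0, 0, 0, 0, 1],
      !![1, 0, 0, g24w, 0, 0; 0, 1, 0, 0, 0, 0; 0, 0, 1, 0, 0, g24w; 0, 0, 0, 1, 0, 0; 0, 0, 0, 0, 1, 0; 0, 0, 0, 0, 0, 1],
      !![1, 0, 0, g24w2, 0, 0; 0, 1, 0, 0, 0, 0; 0, 0, 1, 0, 0, g24w2; 0, 0, 0, 1, 0, 0; 0, 0, 0, 0, 1, 0; 0, 0, 0, 0, 0, 1]],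
    ![!![1, 0, 0, 0, 0, 0; 0, 1, 0, 0, 0, 0; 0, 0, 1, 0, 0, 0; 0, 0, 0, 1, 0, 0; 0, 0, 0, 0, 1, 0; 0, 0, 0, 0, 0, 1],
      !![1, 0, 0, 0, 1, 0; 0, 1, 0, 0, 0, 1; 0, 0, 1, 0, 0, 0; 0, 0, 0, 1, 0, 0; 0, 0, 0, 0, 1, 0; 0, 0, 0, 0, 0, 1],
      !![1, 0, 0, 0, g24w, 0; 0, 1, 0, 0, 0, g24w; 0, 0, 1, 0, 0, 0; 0, 0, 0, 1, 0, 0; 0, 0, 0, 0, 1, 0; 0, 0, 0, 0, 0, 1],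
      !![1, 0, 0, 0, g24w2, 0; 0, 1, 0, 0, 0, g24w2; 0, 0, 1, 0, 0, 0; 0, 0, 0, 1, 0, 0; 0, 0, 0, 0, 1, 0; 0, 0, 0, 0, 0, 1]]]

/-- the root element `x_r(t)` on the 6-dimensional module -/
def g24M (r : Fin 12) (t : G24K) : Matrix (Fin 6) (Fin 6) G24K := g24Mc r ⟨t.c, t.h⟩

/-- the invariant alternating form -/
def g24J : Matrix (Fin 6) (Fin 6) G24K :=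
  !![0, 0, 0, 0, 0, 1; 0, 0, 0, 0, 1, 0; 0, 0, 0, 1, 0, 0; 0, 0, 1, 0, 0, 0; 0, 1, 0, 0, 0, 0; 1, 0, 0, 0, 0, 0]

/-- the image of an element of order 6 -/
def g24Q6 : Matrix (Fin 6) (Fin 6) G24K :=
  !![1, 0, 0, 0, 1, 0; 0, 1, 0, 0, 0, 1; 0, 0, 1, 0, 0, 0; 0, 1, 0, 1, 0, 1; 1, 0, 1, 0, 0, 0; 1, 1, 0, 0, 1, 0]

/-- the image of an element of order 10 -/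
def g24Q10 : Matrix (Fin 6) (Fin 6) G24K :=
  !![1, 0, 0, 0, 0, g24w2; 0, 1, 0, g24w, 0, 0; 0, 0, 1, 0, g24w, 0; 0, 1, 0, g24w2, 0, 0; 1, 0, 1, 0, g24w2, g24w2; 1, 1, 0, g24w, 0, g24w]

/-- the image of an element of order 7 -/
def g24Q7 : Matrix (Fin 6) (Fin 6) G24K :=
  !![1, 0, 0, 0, 0, 1; 1, 1, 0, 1, 0, 1; 0, 0, 1, 0, 1, 0; 0, 0, 1, 1, 1, 0; 1, 0, 0, 0, 1, 1; 1, 1, 0, 1, 1, 0]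

/-- the image of an element of order 13 -/
def g24Q13 : Matrix (Fin 6) (Fin 6) G24K :=
  !![1, 0, 0, 0, 0, g24w2; g24w, 1, 0, g24w, 0, 1; 0, 0, 1, 0, g24w, 0; g24w, 1, g24w2, g24w2, 1, 1; 1, 0, 1, 0, g24w2, g24w2; g24w2, 1, 0, g24w, g24w, g24w2]

/-- the inverse of `g24Q7 - 1` -/
def g24R7 : Matrix (Fin 6) (Fin 6) G24K :=
  !![1, 0, 0, 0, 1, 0; 0, 1, 1, 0, 0, 1; 0, 0, 1, 1, 0, 0; 0, 1, 0, 0, 1, 0; 0, 0, 1, 0, 0, 0; 1, 0, 0, 0, 0, 0]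

/-- the inverse of `g24Q13 - 1` -/
def g24R13 : Matrix (Fin 6) (Fin 6) G24K :=
  !![1, 0, g24w2, g24w2, g24w, g24w2; 0, 1, g24w, g24w2, g24w, g24w; 0, 0, g24w, g24w2, g24w2, g24w2; 0, g24w2, g24w2, g24w2, g24w, g24w2; 0, 0, g24w2, 0, 0, 0; g24w, 0, 0, 0, 0, 0]


end Cfsg.Agent.Lib.helper94
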