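import Mathlib
import Cfsg.Prelude.Def_ChevG2
import Cfsg.Agent.Lib.helper94.G24Field
import Cfsg.Agent.Lib.helper94.G24DataDefs

set_option autoImplicit false

/-!
# Data for `G_2(4)` on its 6-dimensional module (helper94) -- the conjugation relation, part 2

The 7-dimensional representation of the Chevalley algebra of type `G_2` over the integers has,
modulo 2, an invariant line; `g24X j` are the matrices of the Chevalley basis on the quotient
(over the field with four elements) and `g24M r t` is the matrix of the root element `x_r(t)` on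
it: `g24M r t * g24X j = (∑ i, x_r(t) i j • g24X i) * g24M r t`.  `g24J` is the invariant
alternating form; `g24Q6`, `g24Q10`, `g24Q7`, `g24Q13` are the images of elements of order
6, 10, 7, 13.  Generated by `tools/helper94/g24/gendata.py`.
-/

namespace Cfsg.Agent.Lib.helper94

open Matrix

theorem g24_c1_4 : ∀ t : Fin 4, ∀ j : G24I,
    g24Mc 4 t * g24X j = (∑ i, g24xm 4 (G24K.ofF t) i j • g24X i) * g24Mc 4 t := by
  decide +kernel

theorem g24_c1_5 : ∀ t : Fin 4, ∀ j : G24I,
    g24Mc 5 t * g24X j = (∑ i, g24xm 5 (G24K.ofF t) i j • g24X i) * g24Mc 5 t := by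
  decide +kernel

theorem g24_c1_6 : ∀ t : Fin 4, ∀ j : G24I,
    g24Mc 6 t * g24X j = (∑ i, g24xm 6 (G24K.ofF t) i j • g24X i) * g24Mc 6 t := by
  decide +kernel

theorem g24_c1_7 : ∀ t : Fin 4, ∀ j : G24I,
    g24Mc 7 t * g24X j = (∑ i, g24xm 7 (G24K.ofF t) i j • g24X i) * g24Mc 7 t := by
  decide +kernel


end Cfsg.Agent.Lib.helper94
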