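import Mathlib
import Cfsg.Prelude.Def_ChevG2
import Cfsg.Agent.Lib.helper94.G24Field
import Cfsg.Agent.Lib.helper94.G24DataDefs

set_option autoImplicit false

/-!
# Data for `G_2(4)` on its 6-dimensional module (helper94) -- the 6-dimensional facts

The 7-dimensional representation of the Chevalley algebra of type `G_2` over the integers has,
modulo 2, an invariant line; `g24X j` are the matrices of the Chevalley basis on the quotient
(over the field with four elements) and `g24M r t` is the matrix of the root element `x_r(t)` on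
it: `g24M r t * g24X j = (∑ i, x_r(t) i j • g24X i) * g24M r t`.  `g24J` is the invariant
alternating form; `g24Q6`, `g24Q10`, `g24Q7`, `g24Q13` are the images of elements of order
6, 10, 7, 13.  Generated by `tools/helper94/g24/gendata.py`.
-/

namespace Cfsg.Agent.Lib.helper94

open Matrix

theorem g24_c2' : ∀ r : Fin 12, ∀ t : Fin 4, g24Mc r t * g24Mc r t = 1 := by
  decide +kernel

theorem g24_c3 : ∀ r : Fin 12, ∀ t : Fin 4, (g24Mc r t)ᵀ * g24J * g24Mc r t = g24J := by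
  decide +kernel

/-- every basis matrix has an entry where it is 1 and the others are 0 -/
theorem g24_detect : ∀ i₀ : G24I, ∃ a b : Fin 6, ∀ i : G24I,
    g24X i a b = if i = i₀ then 1 else 0 := by
  decide +kernel

/-- for the off-diagonal entries of a matrix commuting with the `g24X j` -/
theorem g24_off : ∀ c a : Fin 6, c ≠ a → ∃ j : G24I, ∃ d : Fin 6,
    (∀ k : Fin 6, g24X j k d = if k = a then 1 else 0) ∧ (∀ k : Fin 6, g24X j c k = 0) := by
  decide +kernel

/-- for the diagonal entries of a matrix commuting with the `g24X j` -/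
theorem g24_diag : ∀ a : Fin 6, a ≠ 0 → ∃ j : G24I, ∃ d : Fin 6, d < a ∧
    (∀ k : Fin 6, g24X j k d = if k = a then 1 else 0) ∧
    (∀ k : Fin 6, g24X j a k = if k = d then 1 else 0) := by
  decide +kernel

theorem g24_sq_one : ∀ c : Fin 4, G24K.ofF c * G24K.ofF c = 1 → G24K.ofF c = 1 := by
  decide +kernel

theorem g24_w6 : g24Mc 0 1 * g24Mc 2 1 * g24Mc 11 1 = g24Q6 := by
  decide +kernel

theorem g24_w10 : g24Mc 0 1 * g24Mc 2 1 * g24Mc 9 2 = g24Q10 := by
  decide +kernel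

theorem g24_w7 : g24Mc 0 1 * g24Mc 4 1 * g24Mc 9 1 = g24Q7 := by
  decide +kernel

theorem g24_w13 : g24Mc 0 1 * g24Mc 2 1 * g24Mc 4 2 * g24Mc 9 2 = g24Q13 := by
  decide +kernel

theorem g24_Q7 : g24Q7 * g24Q7 * g24Q7 * g24Q7 * g24Q7 * g24Q7 * g24Q7 = 1 ∧ g24Q7 ≠ 1 := by
  decide +kernel

theorem g24_Q13 : g24Q13 * g24Q13 * g24Q13 * g24Q13 * g24Q13 * g24Q13 * g24Q13 * g24Q13 * g24Q13 * g24Q13 * g24Q13 * g24Q13 * g24Q13 = 1 ∧ g24Q13 ≠ 1 := by
  decide +kernel

theorem g24_Q6 : g24Q6 * g24Q6 * g24Q6 * g24Q6 * g24Q6 * g24Q6 = 1 ∧ g24Q6 * g24Q6 ≠ 1 ∧ g24Q6 * g24Q6 * g24Q6 ≠ 1 := by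
  decide +kernel

theorem g24_Q10 : g24Q10 * g24Q10 * g24Q10 * g24Q10 * g24Q10 * g24Q10 * g24Q10 * g24Q10 * g24Q10 * g24Q10 = 1 ∧ g24Q10 * g24Q10 ≠ 1 ∧
    g24Q10 * g24Q10 * g24Q10 * g24Q10 * g24Q10 ≠ 1 := by
  decide +kernel

theorem g24_R7 : g24R7 * (g24Q7 - 1) = 1 := by
  decide +kernel

theorem g24_R13 : g24R13 * (g24Q13 - 1) = 1 := by
  decide +kernel

end Cfsg.Agent.Lib.helper94
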