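import Mathlib
import Cfsg.Prelude.Def_ChevG2
import Cfsg.Agent.Lib.helper94.G24Field
import Cfsg.Agent.Lib.helper94.G24DataDefs
import Cfsg.Agent.Lib.helper94.G24DataA1
import Cfsg.Agent.Lib.helper94.G24DataA2
import Cfsg.Agent.Lib.helper94.G24DataA3
import Cfsg.Agent.Lib.helper94.G24DataB
import Cfsg.Agent.Lib.helper94.G24DataC
import Cfsg.Agent.Lib.helper67.S3662CL
import Cfsg.Agent.Lib.helper67.S3662T2s
import Cfsg.Agent.Lib.helper23.ChevMap
import Cfsg.Agent.Lib.helper41.ChevOrderG2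

set_option autoImplicit false

/-!
# Groups of arbitrarily large order with the prime graph of `G_2(4)` (helper94)

The Chevalley group of type `G_2` over the field with four elements acts faithfully on a
6-dimensional module over that field (the quotient of the reduction modulo 2 of the 7-dimensional
module by its invariant line), through matrices preserving an alternating form: the action is
obtained from the conjugation relation `M X_j = (∑ i, g i j • X_i) M` with the images `X_j` of the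
Chevalley basis (piece `exists_conj_lift`, helper67).  Elements of order 7 and 13 have no fixed
point on the module, and the group has elements of order 6 and 10; the semidirect products of
the powers of the module with the group have the prime graph of the group (piece
`pg_of_module_set`, helper67 after helper6).
-/

namespace Cfsg.Agent.Lib.helper94

open Matrix Cfsg Cfsg.Lie

/-- the invertible matrices preserving a bilinear form -/
def presForm {n : Type*} [Fintype n] [DecidableEq n] {K : Type*} [CommRing K] (J : Matrix n n K) :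
    Subgroup (GL n K) where
  carrier := {M | (M : Matrix n n K)ᵀ * J * (M : Matrix n n K) = J}
  mul_mem' := by
    intro a b ha hb
    have ha' : (a : Matrix n n K)ᵀ * J * (a : Matrix n n K) = J := ha
    have hb' : (b : Matrix n n K)ᵀ * J * (b : Matrix n n K) = J := hb
    show ((a * b : GL n K) : Matrix n n K)ᵀ * J * ((a * b : GL n K) : Matrix n n K) = J
    rw [Matrix.GeneralLinearGroup.coe_mul, Matrix.transpose_mul]
    calc (b : Matrix n n K)ᵀ * (a : Matrix n n K)ᵀ * J * ((a : Matrix n n K) * (b : Matrix n n K))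
        = (b : Matrix n n K)ᵀ * ((a : Matrix n n K)ᵀ * J * (a : Matrix n n K))
            * (b : Matrix n n K) := by
          simp only [Matrix.mul_assoc]
      _ = J := by rw [ha', hb']
  one_mem' := by
    show ((1 : GL n K) : Matrix n n K)ᵀ * J * ((1 : GL n K) : Matrix n n K) = J
    simp
  inv_mem' := by
    intro a ha
    have ha' : (a : Matrix n n K)ᵀ * J * (a : Matrix n n K) = J := ha
    have h1 : (a : Matrix n n K) * ((a⁻¹ : GL n K) : Matrix n n K) = 1 := by
      rw [← Matrix.GeneralLinearGroup.coe_mul, mul_inv_cancel]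
      rfl
    have h2 : ((a⁻¹ : GL n K) : Matrix n n K)ᵀ * (a : Matrix n n K)ᵀ = 1 := by
      rw [← Matrix.transpose_mul, h1, Matrix.transpose_one]
    show ((a⁻¹ : GL n K) : Matrix n n K)ᵀ * J * ((a⁻¹ : GL n K) : Matrix n n K) = J
    calc ((a⁻¹ : GL n K) : Matrix n n K)ᵀ * J * ((a⁻¹ : GL n K) : Matrix n n K)
        = ((a⁻¹ : GL n K) : Matrix n n K)ᵀ * ((a : Matrix n n K)ᵀ * J * (a : Matrix n n K))
            * ((a⁻¹ : GL n K) : Matrix n n K) := by rw [ha']
      _ = (((a⁻¹ : GL n K) : Matrix n n K)ᵀ * (a : Matrix n n K)ᵀ) * J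
            * ((a : Matrix n n K) * ((a⁻¹ : GL n K) : Matrix n n K)) := by
          simp only [Matrix.mul_assoc]
      _ = J := by rw [h2, h1, Matrix.one_mul, Matrix.mul_one]

/-! ### the root elements -/

theorem g24xm_sq (r : Fin 12) (t : G24K) : g24xm r t * g24xm r t = 1 := by
  obtain ⟨c, rfl⟩ := G24K.ofF_surj t
  exact g24_c2 r c

/-- the root elements as elements of `GL` -/
def g24gen (r : Fin 12) (t : G24K) : GL G24I G24K :=
  ⟨g24xm r t, g24xm r t, g24xm_sq r t, g24xm_sq r t⟩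

theorem g24M_sq (r : Fin 12) (t : G24K) : g24M r t * g24M r t = 1 := by
  obtain ⟨c, rfl⟩ := G24K.ofF_surj t
  exact g24_c2' r c

/-- the root elements on the 6-dimensional module as elements of `GL` -/
def g24genM (r : Fin 12) (t : G24K) : GL (Fin 6) G24K :=
  ⟨g24M r t, g24M r t, g24M_sq r t, g24M_sq r t⟩

theorem g24genM_mem (r : Fin 12) (t : G24K) : g24genM r t ∈ presForm g24J := by
  obtain ⟨c, rfl⟩ := G24K.ofF_surj t
  exact g24_c3 r c

theorem g24_c1 (r : Fin 12) (t : G24K) (j : G24I) :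
    g24M r t * g24X j = (∑ i, g24xm r t i j • g24X i) * g24M r t := by
  obtain ⟨c, rfl⟩ := G24K.ofF_surj t
  fin_cases r
  exacts [g24_c1_0 c j, g24_c1_1 c j, g24_c1_2 c j, g24_c1_3 c j, g24_c1_4 c j, g24_c1_5 c j,
    g24_c1_6 c j, g24_c1_7 c j, g24_c1_8 c j, g24_c1_9 c j, g24_c1_10 c j, g24_c1_11 c j]

/-- the generating set -/
def g24S : Set (GL G24I G24K) :=
  {g | ∃ (r : Fin 12) (t : G24K), (g : Matrix G24I G24I G24K) = g24xm r t}

theorem g24_group_eq : chevG2.group G24K = Subgroup.closure g24S := rfl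

theorem g24S_lift : ∀ g ∈ g24S, ∃ M ∈ presForm g24J, ∀ j,
    (M : Matrix (Fin 6) (Fin 6) G24K) * g24X j
      = (∑ i, (g : Matrix G24I G24I G24K) i j • g24X i) * (M : Matrix (Fin 6) (Fin 6) G24K) := by
  rintro g ⟨r, t, h⟩
  refine ⟨g24genM r t, g24genM_mem r t, fun j => ?_⟩
  rw [h]
  exact g24_c1 r t j

/-! ### the commutant of the `g24X j` -/

theorem g24_comm_scalar (M : Matrix (Fin 6) (Fin 6) G24K)
    (h : ∀ j, M * g24X j = g24X j * M) : M = M 0 0 • (1 : Matrix (Fin 6) (Fin 6) G24K) := by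
  have off : ∀ c a : Fin 6, c ≠ a → M c a = 0 := by
    intro c a hca
    obtain ⟨j, d, h1, h2⟩ := g24_off c a hca
    have e := congrFun (congrFun (h j) c) d
    rw [Matrix.mul_apply, Matrix.mul_apply] at e
    simp only [h1, h2, mul_ite, mul_one, mul_zero, zero_mul, Finset.sum_ite_eq',
      Finset.mem_univ, if_true, Finset.sum_const_zero] at e
    exact e
  have key : ∀ n : ℕ, ∀ a : Fin 6, (a : ℕ) < n → M a a = M 0 0 := by
    intro n
    induction n with
    | zero => intro a ha; exact absurd ha (Nat.not_lt_zero _)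
    | succ n ih =>
      intro a ha
      by_cases h0 : a = 0
      · rw [h0]
      · obtain ⟨j, d, hd, h1, h2⟩ := g24_diag a h0
        have e := congrFun (congrFun (h j) a) d
        rw [Matrix.mul_apply, Matrix.mul_apply] at e
        simp only [h1, h2, mul_ite, mul_one, mul_zero, ite_mul, one_mul, zero_mul,
          Finset.sum_ite_eq', Finset.mem_univ, if_true] at e
        rw [e]
        exact ih d (lt_of_lt_of_le (Fin.lt_def.1 hd) (Nat.lt_succ_iff.1 ha))
  ext c a
  rw [Matrix.smul_apply, Matrix.one_apply]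
  by_cases hca : c = a
  · subst hca
    simp [key 6 c c.2]
  · simp [hca, off c a hca]

theorem g24_huniq : ∀ M ∈ presForm g24J,
    (∀ j, (M : Matrix (Fin 6) (Fin 6) G24K) * g24X j
      = g24X j * (M : Matrix (Fin 6) (Fin 6) G24K)) → M = 1 := by
  intro M hM hc
  have h1 := g24_comm_scalar _ hc
  have hJ : (M : Matrix (Fin 6) (Fin 6) G24K)ᵀ * g24J * (M : Matrix (Fin 6) (Fin 6) G24K)
      = g24J := hM
  generalize (M : Matrix (Fin 6) (Fin 6) G24K) 0 0 = c at h1
  rw [h1] at hJ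
  rw [Matrix.transpose_smul, Matrix.transpose_one, Matrix.smul_mul, Matrix.one_mul,
    Matrix.mul_smul, Matrix.mul_one, smul_smul] at hJ
  have e := congrFun (congrFun hJ 0) 5
  rw [Matrix.smul_apply, smul_eq_mul] at e
  have hj : g24J 0 5 = 1 := rfl
  rw [hj, mul_one] at e
  obtain ⟨k, hk⟩ := G24K.ofF_surj c
  rw [hk] at e
  have hc1 : c = 1 := by
    rw [hk]
    exact g24_sq_one k e
  apply Units.ext
  rw [h1, hc1, one_smul]
  rfl

theorem g24_exists_rho : ∃ ρ : ↥(Subgroup.closure g24S) →* ↥(presForm g24J),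
    ∀ (g : ↥(Subgroup.closure g24S)) (j : G24I),
      (((ρ g : ↥(presForm g24J)) : GL (Fin 6) G24K) : Matrix (Fin 6) (Fin 6) G24K) * g24X j
        = (∑ i, ((g : GL G24I G24K) : Matrix G24I G24I G24K) i j • g24X i)
          * (((ρ g : ↥(presForm g24J)) : GL (Fin 6) G24K) : Matrix (Fin 6) (Fin 6) G24K) :=
  Cfsg.Agent.Lib.helper67.S3662.exists_conj_lift g24X g24S (presForm g24J) g24S_lift g24_huniq

/-! ### the group -/

section grp

variable (ρ : ↥(Subgroup.closure g24S) →* ↥(presForm g24J))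

/-- the matrix of a group element on the 6-dimensional module -/
def g24mu : ↥(Subgroup.closure g24S) →* Matrix (Fin 6) (Fin 6) G24K :=
  (Units.coeHom (Matrix (Fin 6) (Fin 6) G24K)).comp ((presForm g24J).subtype.comp ρ)

theorem g24mu_apply (g : ↥(Subgroup.closure g24S)) :
    g24mu ρ g = (((ρ g : ↥(presForm g24J)) : GL (Fin 6) G24K) :
      Matrix (Fin 6) (Fin 6) G24K) := rfl

/-- the root elements in the group -/
def g24elt (r : Fin 12) (t : G24K) : ↥(Subgroup.closure g24S) :=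
  ⟨g24gen r t, Subgroup.subset_closure ⟨r, t, rfl⟩⟩

/-- an element of order 6 -/
def g24x6 : ↥(Subgroup.closure g24S) := g24elt 0 1 * g24elt 2 1 * g24elt 11 1

/-- an element of order 10 -/
def g24x10 : ↥(Subgroup.closure g24S) := g24elt 0 1 * g24elt 2 1 * g24elt 9 g24w

/-- an element of order 7 -/
def g24x7 : ↥(Subgroup.closure g24S) := g24elt 0 1 * g24elt 4 1 * g24elt 9 1

/-- an element of order 13 -/
def g24x13 : ↥(Subgroup.closure g24S) :=
  g24elt 0 1 * g24elt 2 1 * g24elt 4 g24w * g24elt 9 g24w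

variable (hρ : ∀ (g : ↥(Subgroup.closure g24S)) (j : G24I),
  (((ρ g : ↥(presForm g24J)) : GL (Fin 6) G24K) : Matrix (Fin 6) (Fin 6) G24K) * g24X j
    = (∑ i, ((g : GL G24I G24K) : Matrix G24I G24I G24K) i j • g24X i)
      * (((ρ g : ↥(presForm g24J)) : GL (Fin 6) G24K) : Matrix (Fin 6) (Fin 6) G24K))

include hρ

theorem g24mu_elt (r : Fin 12) (t : G24K) : g24mu ρ (g24elt r t) = g24M r t := by
  have hN : (g24genM r t)⁻¹ * ((ρ (g24elt r t) : ↥(presForm g24J)) : GL (Fin 6) G24K)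
      ∈ presForm g24J :=
    Subgroup.mul_mem _ (Subgroup.inv_mem _ (g24genM_mem r t)) (ρ (g24elt r t)).2
  have hinv : (((g24genM r t)⁻¹ : GL (Fin 6) G24K) : Matrix (Fin 6) (Fin 6) G24K)
      = g24M r t := rfl
  have hcomm : ∀ j, (((g24genM r t)⁻¹ * ((ρ (g24elt r t) : ↥(presForm g24J)) : GL (Fin 6) G24K)
      : GL (Fin 6) G24K) : Matrix (Fin 6) (Fin 6) G24K) * g24X j
      = g24X j * (((g24genM r t)⁻¹ * ((ρ (g24elt r t) : ↥(presForm g24J)) : GL (Fin 6) G24K)
      : GL (Fin 6) G24K) : Matrix (Fin 6) (Fin 6) G24K) := by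
    intro j
    rw [Matrix.GeneralLinearGroup.coe_mul, hinv]
    have h1 : (((ρ (g24elt r t) : ↥(presForm g24J)) : GL (Fin 6) G24K) :
        Matrix (Fin 6) (Fin 6) G24K) * g24X j
        = (∑ i, g24xm r t i j • g24X i)
          * (((ρ (g24elt r t) : ↥(presForm g24J)) : GL (Fin 6) G24K) :
            Matrix (Fin 6) (Fin 6) G24K) := hρ (g24elt r t) j
    have h2 := g24_c1 r t j
    have h3 : g24X j * g24M r t = g24M r t * (∑ i, g24xm r t i j • g24X i) := by
      calc g24X j * g24M r t = (g24M r t * g24M r t) * g24X j * g24M r t := by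
            rw [g24M_sq, Matrix.one_mul]
        _ = g24M r t * (g24M r t * g24X j) * g24M r t := by simp only [Matrix.mul_assoc]
        _ = g24M r t * ((∑ i, g24xm r t i j • g24X i) * g24M r t) * g24M r t := by rw [h2]
        _ = g24M r t * (∑ i, g24xm r t i j • g24X i) * (g24M r t * g24M r t) := by
            simp only [Matrix.mul_assoc]
        _ = g24M r t * (∑ i, g24xm r t i j • g24X i) := by rw [g24M_sq, Matrix.mul_one]
    rw [Matrix.mul_assoc, h1, ← Matrix.mul_assoc, ← h3, Matrix.mul_assoc]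
  have h5 := g24_huniq _ hN hcomm
  rw [g24mu_apply, ← inv_mul_eq_one.1 h5]
  rfl

theorem g24mu_x6 : g24mu ρ g24x6 = g24Q6 := by
  unfold g24x6
  rw [map_mul, map_mul, g24mu_elt ρ hρ, g24mu_elt ρ hρ, g24mu_elt ρ hρ]
  exact g24_w6

theorem g24mu_x10 : g24mu ρ g24x10 = g24Q10 := by
  unfold g24x10
  rw [map_mul, map_mul, g24mu_elt ρ hρ, g24mu_elt ρ hρ, g24mu_elt ρ hρ]
  exact g24_w10

theorem g24mu_x7 : g24mu ρ g24x7 = g24Q7 := by
  unfold g24x7
  rw [map_mul, map_mul, g24mu_elt ρ hρ, g24mu_elt ρ hρ, g24mu_elt ρ hρ]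
  exact g24_w7

theorem g24mu_x13 : g24mu ρ g24x13 = g24Q13 := by
  unfold g24x13
  rw [map_mul, map_mul, map_mul, g24mu_elt ρ hρ, g24mu_elt ρ hρ, g24mu_elt ρ hρ,
    g24mu_elt ρ hρ]
  exact g24_w13

theorem g24_rho_inj : Function.Injective ρ := by
  rw [injective_iff_map_eq_one]
  intro g hg
  have hg' : (((ρ g : ↥(presForm g24J)) : GL (Fin 6) G24K) : Matrix (Fin 6) (Fin 6) G24K)
      = 1 := by
    rw [hg]
    rfl
  have h1 : ∀ j, g24X j = ∑ i, ((g : GL G24I G24K) : Matrix G24I G24I G24K) i j • g24X i := by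
    intro j
    have h := hρ g j
    rw [hg', Matrix.one_mul, Matrix.mul_one] at h
    exact h
  apply Subtype.ext
  apply Units.ext
  ext i₀ j
  obtain ⟨a, b, hab⟩ := g24_detect i₀
  have h2 := congrFun (congrFun (h1 j) a) b
  rw [Matrix.sum_apply] at h2
  simp only [Matrix.smul_apply, smul_eq_mul, hab, mul_ite, mul_one, mul_zero,
    Finset.sum_ite_eq', Finset.mem_univ, if_true] at h2
  rw [← h2]
  show _ = (1 : Matrix G24I G24I G24K) i₀ j
  rw [Matrix.one_apply]
  by_cases hj : j = i₀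
  · simp [hj]
  · have hj' : ¬ i₀ = j := fun h => hj h.symm
    simp [hj, hj']

theorem g24mu_inj : Function.Injective (g24mu ρ) := by
  intro g h e
  apply g24_rho_inj ρ hρ
  apply Subtype.ext
  apply Units.ext
  exact e

omit hρ in
theorem g24_pow_ne (x : ↥(Subgroup.closure g24S)) (Q : Matrix (Fin 6) (Fin 6) G24K)
    (hx : g24mu ρ x = Q) (k : ℕ) (hne : Q ^ k ≠ 1) : x ^ k ≠ 1 := by
  intro h
  apply hne
  rw [← hx, ← map_pow, h, map_one]

theorem g24_pow_eq (x : ↥(Subgroup.closure g24S)) (Q : Matrix (Fin 6) (Fin 6) G24K)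
    (hx : g24mu ρ x = Q) (k : ℕ) (he : Q ^ k = 1) : x ^ k = 1 := by
  apply g24mu_inj ρ hρ
  rw [map_pow, hx, he, map_one]

theorem g24_order7 : orderOf g24x7 = 7 := by
  have : Fact (Nat.Prime 7) := ⟨by norm_num⟩
  have h7 : g24Q7 ^ 7 = 1 := by
    simp only [pow_succ, pow_zero, one_mul]
    exact g24_Q7.1
  have h1 : g24Q7 ^ 1 ≠ 1 := by
    rw [pow_one]
    exact g24_Q7.2
  apply orderOf_eq_prime (g24_pow_eq ρ hρ _ _ (g24mu_x7 ρ hρ) 7 h7)
  have h := g24_pow_ne ρ _ _ (g24mu_x7 ρ hρ) 1 h1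
  rwa [pow_one] at h

theorem g24_order13 : orderOf g24x13 = 13 := by
  have : Fact (Nat.Prime 13) := ⟨by norm_num⟩
  have h13 : g24Q13 ^ 13 = 1 := by
    simp only [pow_succ, pow_zero, one_mul]
    exact g24_Q13.1
  have h1 : g24Q13 ^ 1 ≠ 1 := by
    rw [pow_one]
    exact g24_Q13.2
  apply orderOf_eq_prime (g24_pow_eq ρ hρ _ _ (g24mu_x13 ρ hρ) 13 h13)
  have h := g24_pow_ne ρ _ _ (g24mu_x13 ρ hρ) 1 h1
  rwa [pow_one] at h

theorem g24_order6 : orderOf g24x6 = 2 * 3 := by
  have hX := g24_Q6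
  have h6 : g24Q6 ^ 6 = 1 := by
    simp only [pow_succ, pow_zero, one_mul]
    exact hX.1
  have h2 : g24Q6 ^ 2 ≠ 1 := by
    simp only [pow_succ, pow_zero, one_mul]
    exact hX.2.1
  have h3 : g24Q6 ^ 3 ≠ 1 := by
    simp only [pow_succ, pow_zero, one_mul]
    exact hX.2.2
  refine orderOf_eq_of_pow_and_pow_div_prime (by norm_num)
    (g24_pow_eq ρ hρ _ _ (g24mu_x6 ρ hρ) 6 h6) ?_
  intro p hp hd
  have hp' : p = 2 ∨ p = 3 := by
    rcases (Nat.Prime.dvd_mul hp).1 hd with h | h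
    · left
      exact (Nat.prime_dvd_prime_iff_eq hp Nat.prime_two).1 h
    · right
      exact (Nat.prime_dvd_prime_iff_eq hp Nat.prime_three).1 h
  rcases hp' with rfl | rfl
  · exact g24_pow_ne ρ _ _ (g24mu_x6 ρ hρ) 3 h3
  · exact g24_pow_ne ρ _ _ (g24mu_x6 ρ hρ) 2 h2

theorem g24_order10 : orderOf g24x10 = 2 * 5 := by
  have hX := g24_Q10
  have h10 : g24Q10 ^ 10 = 1 := by
    simp only [pow_succ, pow_zero, one_mul]
    exact hX.1
  have h2 : g24Q10 ^ 2 ≠ 1 := by
    simp only [pow_succ, pow_zero, one_mul]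
    exact hX.2.1
  have h5 : g24Q10 ^ 5 ≠ 1 := by
    simp only [pow_succ, pow_zero, one_mul]
    exact hX.2.2
  refine orderOf_eq_of_pow_and_pow_div_prime (by norm_num)
    (g24_pow_eq ρ hρ _ _ (g24mu_x10 ρ hρ) 10 h10) ?_
  intro p hp hd
  have hp' : p = 2 ∨ p = 5 := by
    rcases (Nat.Prime.dvd_mul hp).1 hd with h | h
    · left
      exact (Nat.prime_dvd_prime_iff_eq hp Nat.prime_two).1 h
    · right
      exact (Nat.prime_dvd_prime_iff_eq hp Nat.prime_five).1 h
  rcases hp' with rfl | rfl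
  · exact g24_pow_ne ρ _ _ (g24mu_x10 ρ hρ) 5 h5
  · exact g24_pow_ne ρ _ _ (g24mu_x10 ρ hρ) 2 h2

theorem g24_fpf7 (v : Fin 6 → G24K) (h : (g24mu ρ g24x7).mulVec v = v) : v = 0 := by
  rw [g24mu_x7 ρ hρ] at h
  have h1 : (g24Q7 - 1).mulVec v = 0 := by
    rw [Matrix.sub_mulVec, h, Matrix.one_mulVec, sub_self]
  have h2 := congrArg (fun w => g24R7.mulVec w) h1
  simp only [Matrix.mulVec_mulVec, g24_R7, Matrix.one_mulVec, Matrix.mulVec_zero] at h2
  exact h2

theorem g24_fpf13 (v : Fin 6 → G24K) (h : (g24mu ρ g24x13).mulVec v = v) : v = 0 := by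
  rw [g24mu_x13 ρ hρ] at h
  have h1 : (g24Q13 - 1).mulVec v = 0 := by
    rw [Matrix.sub_mulVec, h, Matrix.one_mulVec, sub_self]
  have h2 := congrArg (fun w => g24R13.mulVec w) h1
  simp only [Matrix.mulVec_mulVec, g24_R13, Matrix.one_mulVec, Matrix.mulVec_zero] at h2
  exact h2

end grp

theorem g24_card : Nat.card ↥(Subgroup.closure g24S) = 2 ^ 12 * 3 ^ 3 * 5 ^ 2 * 7 * 13 := by
  have h1 := Cfsg.Agent.Lib.helper41.TabG2.order_formula (F := G24K)
  rw [G24K.card_eq] at h1
  exact h1.trans (by norm_num)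

/-- the statement for the concrete field -/
theorem g24_concrete (N : ℕ) :
    ∃ (H : Type) (_ : Group H) (_ : Finite H), N < Nat.card H ∧
      ((∀ q : ℕ, q.Prime → (q ∣ Nat.card ↥(Subgroup.closure g24S) ↔ q ∣ Nat.card H)) ∧
       (∀ q s : ℕ, q.Prime → s.Prime → q ≠ s →
         ((∃ g : ↥(Subgroup.closure g24S), orderOf g = q * s) ↔
          (∃ g : H, orderOf g = q * s)))) := by
  obtain ⟨ρ, hρ⟩ := g24_exists_rho
  have hfin : Finite ↥(Subgroup.closure g24S) :=
    Nat.finite_of_card_ne_zero (by rw [g24_card]; norm_num)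
  refine Cfsg.Agent.Lib.helper67.S3662.pg_of_module_set 2 Nat.prime_two
    (by rw [g24_card]; norm_num) (Fin 6 → G24K) (fun a => ?_)
    (fun g v => (g24mu ρ g).mulVec v) (fun a => ?_) (fun g h a => ?_) (fun g a b => ?_) ?_ N
  · funext i
    rw [two_nsmul]
    exact G24K.add_self' (a i)
  · show (g24mu ρ 1).mulVec a = a
    rw [map_one, Matrix.one_mulVec]
  · show (g24mu ρ (g * h)).mulVec a = (g24mu ρ g).mulVec ((g24mu ρ h).mulVec a)
    rw [map_mul, Matrix.mulVec_mulVec]
  · exact Matrix.mulVec_add _ _ _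
  · intro s hs hs2 hdvd
    rw [g24_card] at hdvd ⊢
    rcases (Nat.Prime.dvd_mul hs).1 hdvd with h | h
    · rcases (Nat.Prime.dvd_mul hs).1 h with h | h
      · rcases (Nat.Prime.dvd_mul hs).1 h with h | h
        · rcases (Nat.Prime.dvd_mul hs).1 h with h | h
          · exact absurd ((Nat.prime_dvd_prime_iff_eq hs Nat.prime_two).1
              (hs.dvd_of_dvd_pow h)) hs2
          · have := (Nat.prime_dvd_prime_iff_eq hs Nat.prime_three).1 (hs.dvd_of_dvd_pow h)
            subst this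
            exact Or.inl ⟨g24x6, g24_order6 ρ hρ⟩
        · have := (Nat.prime_dvd_prime_iff_eq hs Nat.prime_five).1 (hs.dvd_of_dvd_pow h)
          subst this
          exact Or.inl ⟨g24x10, g24_order10 ρ hρ⟩
      · have := (Nat.prime_dvd_prime_iff_eq hs (by norm_num)).1 h
        subst this
        exact Or.inr ⟨by norm_num, g24x7, g24_order7 ρ hρ, g24_fpf7 ρ hρ⟩
    · have := (Nat.prime_dvd_prime_iff_eq hs (by norm_num)).1 h
      subst this
      exact Or.inr ⟨by norm_num, g24x13, g24_order13 ρ hρ, g24_fpf13 ρ hρ⟩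

/-- the statement for every field with 4 elements -/
theorem g24_final {F : Type*} [Field F] [Fintype F] (hF : Fintype.card F = 4) (N : ℕ) :
    ∃ (H : Type) (_ : Group H) (_ : Finite H), N < Nat.card H ∧
      ((∀ p : ℕ, p.Prime → (p ∣ Nat.card ↥(Cfsg.Lie.chevG2.group F) ↔ p ∣ Nat.card H)) ∧
      (∀ p q : ℕ, p.Prime → q.Prime → p ≠ q →
        ((∃ g : ↥(Cfsg.Lie.chevG2.group F), orderOf g = p * q) ↔
         (∃ g : H, orderOf g = p * q)))) := by
  have e0 : G24K ≃+* F := FiniteField.ringEquivOfCardEq (by rw [hF, G24K.card_eq])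
  have e : ↥(Subgroup.closure g24S) ≃* ↥(chevG2.group F) :=
    Cfsg.Agent.Lib.helper23.groupEquivOfRingEquiv chevG2 e0
  obtain ⟨H, iG, iF, hN, h1, h2⟩ := g24_concrete N
  refine ⟨H, iG, iF, hN, ?_, ?_⟩
  · intro p hp
    rw [← h1 p hp, Nat.card_congr e.toEquiv]
  · intro p q hp hq hpq
    rw [← h2 p q hp hq hpq]
    constructor
    · rintro ⟨g, hg⟩
      exact ⟨e.symm g, by rw [MulEquiv.orderOf_eq]; exact hg⟩
    · rintro ⟨g, hg⟩
      exact ⟨e g, by rw [MulEquiv.orderOf_eq]; exact hg⟩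

end Cfsg.Agent.Lib.helper94
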