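import Mathlib

/-!
# S4395, EXB sub-split, piece HFC (racer copy of helper94): trace facts in a field with `m * m`
elements, `σ x = x ^ m`.
-/

set_option autoImplicit false

namespace Cfsg.Agent.Lib.helper3.Gf

universe u

/-- A finite type that injects into the roots of a non-zero polynomial of degree `≤ m` has at most
`m` elements. -/
theorem h94_card_le_of_root {L : Type*} [Field L] {α : Type*} [Finite α] (P : Polynomial L)
    (hP : P ≠ 0) (m : ℕ) (hdeg : P.natDegree ≤ m) (g : α → L) (hg : Function.Injective g)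
    (hroot : ∀ a, P.eval (g a) = 0) : Nat.card α ≤ m := by
  classical
  have := Fintype.ofFinite α
  rw [Nat.card_eq_fintype_card]
  calc Fintype.card α = (Finset.univ.image g).card := by
        rw [Finset.card_image_of_injective _ hg, Finset.card_univ]
    _ ≤ P.roots.toFinset.card := Finset.card_le_card (by
        intro x hx
        obtain ⟨a, -, rfl⟩ := Finset.mem_image.1 hx
        rw [Multiset.mem_toFinset, Polynomial.mem_roots hP]
        exact hroot a)
    _ ≤ Multiset.card P.roots := Multiset.toFinset_card_le _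
    _ ≤ P.natDegree := Polynomial.card_roots' P
    _ ≤ m := hdeg

/-- HFC (M), racer copy -/
theorem h94_hfc (L : Type u) [Field L] [Finite L] (m : ℕ) (hm : Nat.card L = m * m) (σ : L →+* L)
    (hσ : ∀ x, σ x = x ^ m) :
    (∀ x : L, ∃ z, z + σ z = x * σ x) ∧ (∀ z : L, z + σ z = 0 → ∃ x, x - σ x = z) ∧
    Nat.card {z : L // z + σ z = 0} = m := by
  classical
  have := Fintype.ofFinite L
  have hm2 : 2 ≤ m := by
    have h1 : 1 < Nat.card L := Finite.one_lt_card
    rw [hm] at h1
    by_contra h
    have : m = 0 ∨ m = 1 := by omega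
    rcases this with rfl | rfl <;> simp at h1
  have hσσ : ∀ x, σ (σ x) = x := by
    intro x
    rw [hσ, hσ, ← pow_mul, ← hm, Nat.card_eq_fintype_card]
    exact FiniteField.pow_card x
  let tr : L →+ L := AddMonoidHom.id L + σ.toAddMonoidHom
  let dl : L →+ L := AddMonoidHom.id L - σ.toAddMonoidHom
  have htr : ∀ z, tr z = z + σ z := fun z => rfl
  have hdl : ∀ z, dl z = z - σ z := fun z => rfl
  have hP1 : (Polynomial.X ^ m + Polynomial.X : Polynomial L) ≠ 0 := by
    intro h
    have h' := congrArg (fun P => Polynomial.coeff P m) h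
    simp only [Polynomial.coeff_add, Polynomial.coeff_X_pow, Polynomial.coeff_X,
      Polynomial.coeff_zero] at h'
    rw [if_pos trivial, if_neg (by omega : ¬ (1 = m)), add_zero] at h'
    exact one_ne_zero h'
  have hd1 : (Polynomial.X ^ m + Polynomial.X : Polynomial L).natDegree ≤ m := by
    refine (Polynomial.natDegree_add_le _ _).trans ?_
    rw [Polynomial.natDegree_X_pow, Polynomial.natDegree_X]
    exact max_le le_rfl (by omega)
  have hP2 : (Polynomial.X ^ m - Polynomial.X : Polynomial L) ≠ 0 :=
    FiniteField.X_pow_card_sub_X_ne_zero L (by omega)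
  have hd2 : (Polynomial.X ^ m - Polynomial.X : Polynomial L).natDegree ≤ m :=
    (FiniteField.X_pow_card_sub_X_natDegree_eq L (by omega)).le
  have hk_tr : Nat.card tr.ker ≤ m :=
    h94_card_le_of_root _ hP1 m hd1 (fun z : tr.ker => (z : L)) Subtype.val_injective (by
      intro z
      have h := z.2
      rw [AddMonoidHom.mem_ker, htr, hσ] at h
      simp only [Polynomial.eval_add, Polynomial.eval_pow, Polynomial.eval_X]
      rw [add_comm]; exact h)
  have hk_dl : Nat.card dl.ker ≤ m :=
    h94_card_le_of_root _ hP2 m hd2 (fun z : dl.ker => (z : L)) Subtype.val_injective (by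
      intro z
      have h := z.2
      rw [AddMonoidHom.mem_ker, hdl, hσ] at h
      simp only [Polynomial.eval_sub, Polynomial.eval_pow, Polynomial.eval_X]
      rw [← neg_sub, h, neg_zero])
  have hle1 : tr.range ≤ dl.ker := by
    rintro y ⟨w, rfl⟩
    rw [AddMonoidHom.mem_ker, hdl, htr, map_add, hσσ]
    ring
  have hle2 : dl.range ≤ tr.ker := by
    rintro y ⟨w, rfl⟩
    rw [AddMonoidHom.mem_ker, htr, hdl, map_sub, hσσ]
    ring
  have h1 : Nat.card tr.ker * Nat.card tr.range = m * m := by
    rw [← AddSubgroup.index_ker, AddSubgroup.card_mul_index, hm]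
  have h2 : Nat.card dl.ker * Nat.card dl.range = m * m := by
    rw [← AddSubgroup.index_ker, AddSubgroup.card_mul_index, hm]
  have c1 : Nat.card tr.range ≤ Nat.card dl.ker := AddSubgroup.card_le_of_le hle1
  have c2 : Nat.card dl.range ≤ Nat.card tr.ker := AddSubgroup.card_le_of_le hle2
  have e1 : Nat.card tr.ker = m := by
    by_contra h
    have hlt : Nat.card tr.ker < m := lt_of_le_of_ne hk_tr h
    nlinarith
  have e2 : Nat.card tr.range = m := by
    rw [e1] at h1
    exact Nat.eq_of_mul_eq_mul_left (by omega) h1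
  have e3 : Nat.card dl.ker = m := le_antisymm hk_dl (e2 ▸ c1)
  have e4 : Nat.card dl.range = m := by
    rw [e3] at h2
    exact Nat.eq_of_mul_eq_mul_left (by omega) h2
  have hE1 : tr.range = dl.ker := AddSubgroup.eq_of_le_of_card_ge hle1 (by rw [e2, e3])
  have hE2 : dl.range = tr.ker := AddSubgroup.eq_of_le_of_card_ge hle2 (by rw [e4, e1])
  refine ⟨?_, ?_, ?_⟩
  · intro x
    have hx : x * σ x ∈ dl.ker := by
      rw [AddMonoidHom.mem_ker, hdl, map_mul, hσσ]
      ring
    rw [← hE1] at hx
    obtain ⟨z, hz⟩ := hx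
    exact ⟨z, hz⟩
  · intro z hz
    have hz' : z ∈ tr.ker := by
      rw [AddMonoidHom.mem_ker, htr]; exact hz
    rw [← hE2] at hz'
    obtain ⟨x, hx⟩ := hz'
    exact ⟨x, hx⟩
  · rw [← e1]
    exact Nat.card_congr (Equiv.subtypeEquivRight (fun z => by
      rw [AddMonoidHom.mem_ker, htr]))

end Cfsg.Agent.Lib.helper3.Gf
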