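/-
Linear automorphisms of the length-24 code that preserve the weight classes `{w, 24 - w}`:
a certificate-driven base-chain argument showing that a group of such automorphisms containing
the permutation action of `M24` induces exactly `M24` modulo the all-ones word.
-/
import Mathlib
import Cfsg.Prelude.Def_Sporadic_a
import Cfsg.Agent.Lib.helper94.M24Class

set_option autoImplicit false
set_option linter.unusedSectionVars false

namespace Cfsg.Agent.Lib.helper94

open Cfsg

/-- The all-ones word as an element of the code. -/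
def oneC : ↥golayCode := ⟨fun _ => (1 : ZMod 2), Submodule.subset_span (Or.inr rfl)⟩

theorem oneC_add_oneC : oneC + oneC = 0 := by
  apply Subtype.ext
  funext p
  show (1 : ZMod 2) + 1 = 0
  decide

/-- Equality of code words modulo the all-ones word. -/
def Ec (a b : ↥golayCode) : Prop := a = b ∨ a = b + oneC

theorem Ec.refl (a : ↥golayCode) : Ec a a := Or.inl rfl

theorem Ec.symm {a b : ↥golayCode} (h : Ec a b) : Ec b a := by
  rcases h with h | h
  · exact Or.inl h.symm
  · right
    rw [h, add_assoc, oneC_add_oneC, add_zero]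

theorem Ec.add {a b a' b' : ↥golayCode} (h : Ec a b) (h' : Ec a' b') : Ec (a + a') (b + b') := by
  rcases h with h | h <;> rcases h' with h' | h'
  · left; rw [h, h']
  · right; rw [h, h', add_assoc]
  · right; rw [h, h', add_right_comm]
  · left
    rw [h, h', add_add_add_comm, oneC_add_oneC, add_zero]

theorem Ec.trans {a b c : ↥golayCode} (h : Ec a b) (h' : Ec b c) : Ec a c := by
  rcases h with h | h <;> rcases h' with h' | h'
  · left; rw [h, h']
  · right; rw [h, h']
  · right; rw [h, h']
  · left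
    rw [h, h', add_assoc, oneC_add_oneC, add_zero]

theorem Ec.map {x : ↥golayCode ≃ₗ[ZMod 2] ↥golayCode} (hx : x oneC = oneC) {a b : ↥golayCode}
    (h : Ec a b) : Ec (x a) (x b) := by
  rcases h with h | h
  · left; rw [h]
  · right; rw [h, map_add, hx]

/-- The code word of a mask (zero for masks not in the code). -/
def cwd (m : ℕ) : ↥golayCode :=
  if h : isCode m = true then ⟨wordOf m, (wordOf_mem_golayCode_iff m).mpr h⟩ else 0

theorem cwd_coe {m : ℕ} (h : isCode m = true) : ((cwd m : ↥golayCode) : GolayPt → ZMod 2) = wordOf m := by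
  rw [cwd, dif_pos h]

theorem isCode_xor {a b : ℕ} (ha : isCode a = true) (hb : isCode b = true) :
    isCode (Nat.xor a b) = true := by
  rw [← wordOf_mem_golayCode_iff] at ha hb ⊢
  show wordOf (a ^^^ b) ∈ golayCode
  rw [wordOf_xor]
  exact golayCode.add_mem ha hb

theorem isCode_zero : isCode 0 = true := by decide +kernel

theorem isCode_full : isCode 16777215 = true := by decide +kernel

theorem cwd_xor {a b : ℕ} (ha : isCode a = true) (hb : isCode b = true) :
    cwd (Nat.xor a b) = cwd a + cwd b := by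
  apply Subtype.ext
  rw [cwd_coe (isCode_xor ha hb), Submodule.coe_add, cwd_coe ha, cwd_coe hb]
  exact wordOf_xor a b

theorem cwd_zero : cwd 0 = 0 := by
  apply Subtype.ext
  rw [cwd_coe isCode_zero, wordOf_zero]; rfl

theorem cwd_full : cwd 16777215 = oneC := by
  apply Subtype.ext
  rw [cwd_coe isCode_full, ← one_eq_wordOf]; rfl

theorem eq_cwd (c : ↥golayCode) :
    isCode (enc (infoOf (c : GolayPt → ZMod 2))) = true ∧ c = cwd (enc (infoOf (c : GolayPt → ZMod 2))) := by
  have h := eq_wordOf_enc c.2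
  have hc : isCode (enc (infoOf (c : GolayPt → ZMod 2))) = true := by
    rw [← wordOf_mem_golayCode_iff, ← h]; exact c.2
  refine ⟨hc, Subtype.ext ?_⟩
  rw [cwd_coe hc]; exact h

/-! ### Weights -/

theorem hammingNorm_perm (σ : Equiv.Perm GolayPt) (w : GolayPt → ZMod 2) :
    hammingNorm (fun p => w (σ.symm p)) = hammingNorm w := by
  rw [hammingNorm_eq_card_bsupp, hammingNorm_eq_card_bsupp]
  apply Finset.card_equiv σ.symm
  intro p
  simp only [bsupp, Finset.mem_filter, Finset.mem_univ, true_and]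

theorem hammingNorm_add_one (w : GolayPt → ZMod 2) :
    hammingNorm (w + fun _ => (1 : ZMod 2)) = 24 - hammingNorm w := by
  rw [hammingNorm_eq_card_bsupp, hammingNorm_eq_card_bsupp]
  have h : bsupp (w + fun _ => (1 : ZMod 2)) = (bsupp w)ᶜ := by
    ext p
    simp only [bsupp, Finset.mem_filter, Finset.mem_univ, true_and, Finset.mem_compl, Pi.add_apply]
    generalize w p = a
    revert a; decide
  rw [h, Finset.card_compl, card_golayPt]

theorem popc_le (m : ℕ) : popc m ≤ 24 := by
  rw [← card_setOf, ← card_golayPt]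
  exact Finset.card_le_univ _

/-- Weight classes agree. -/
def wcOK (a b : ℕ) : Bool := Nat.beq (popc a) (popc b) || Nat.beq (Nat.add (popc a) (popc b)) 24

/-- Subset sums of a list of masks. -/
def xs : List ℕ → ℕ → ℕ
  | [], _ => 0
  | m :: l, s => Nat.xor (cond (Nat.testBit s 0) m 0) (xs l (Nat.div s 2))

def hintAt (H k : ℕ) : ℕ := Nat.land (Nat.shiftRight H (Nat.mul 16 k)) 65535

def witAt (W j : ℕ) : ℕ := Nat.land (Nat.shiftRight W (Nat.mul 120 j)) 1329227995784915872903807060280344575

def fixOK (t m : ℕ) : Bool :=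
  Nat.beq (applyP t 1 m) m || Nat.beq (applyP t 1 m) (Nat.xor m 16777215)

def mapOK (t c d : ℕ) : Bool :=
  Nat.beq (applyP t 1 c) d || Nat.beq (applyP t 1 c) (Nat.xor d 16777215)

/-- The fields `0, …, n - 1` of a packed family are code masks. -/
def codeFlds (Y : ℕ) : ℕ → Bool
  | 0 => true
  | n + 1 => isCode (fld Y n) && codeFlds Y n

theorem codeFlds_iff (Y n : ℕ) : codeFlds Y n = true ↔ ∀ j < n, isCode (fld Y j) = true := by
  induction n with
  | zero => simp [codeFlds]
  | succ n ih =>
    rw [codeFlds, Bool.and_eq_true, ih]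
    constructor
    · rintro ⟨h1, h2⟩ j hj
      rcases Nat.lt_succ_iff_lt_or_eq.mp hj with h | rfl
      · exact h2 j h
      · exact h1
    · intro h
      exact ⟨h n (Nat.lt_succ_self n), fun j hj => h j (Nat.lt_succ_of_lt hj)⟩

/-- A faster test for a table to define an element of `M24`: all twelve generators are mapped at
once. -/
def isM24F (t : ℕ) : Bool := validPerm t && codeFlds (applyP t (onesN 12) gPacked) 12

theorem isM24F_sound {t : ℕ} (h : isM24F t = true) : isM24 t = true := by
  rw [isM24F, Bool.and_eq_true] at h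
  rw [isM24, Bool.and_eq_true]
  refine ⟨h.1, (gensAux_iff t 12).mpr fun j hj => ?_⟩
  have h2 := (codeFlds_iff _ _).mp h.2 j hj
  rw [fld_applyP h.1 12 gPacked j hj] at h2
  exact h2

/-- The table `t` is in `M24` and fixes the classes of the masks of `cs`. -/
def witTest (cs : List ℕ) (t : ℕ) : Bool := isM24F t && cs.all (fixOK t)

/-- Witness tables checked in chunks. -/
theorem wits_chunk {cs : List ℕ} {W a n : ℕ}
    (h : allBelow (fun j => witTest cs (witAt W (Nat.add a j))) n = true) :
    ∀ j, a ≤ j → j < a + n → witTest cs (witAt W j) = true := by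
  intro j h1 h2
  have h3 := (allBelow_iff _ _).mp h (j - a) (by omega)
  have h4 : Nat.add a (j - a) = j := by show a + (j - a) = j; omega
  rw [h4] at h3
  exact h3

def refOK (cs : List ℕ) (c d s : ℕ) : Bool :=
  !(wcOK (Nat.xor d (xs cs s)) (Nat.xor c (xs cs s)))

/-- The level check: code word `enc k` is either refuted as an image of `c` by a weight class, or
is the image of `c` (modulo the all-ones word) under one of the witness tables. -/
def lvlCheck (c H W n : ℕ) (cs : List ℕ) (k : ℕ) : Bool :=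
  cond (Nat.ble 32768 (hintAt H k))
    (Nat.blt (Nat.sub (hintAt H k) 32768) n && mapOK (witAt W (Nat.sub (hintAt H k) 32768)) c (enc k))
    (refOK cs c (enc k) (hintAt H k))

/-- The base check: every code word is a subset sum of the chain modulo the all-ones word. -/
def baseCheck (cs : List ℕ) (H k : ℕ) : Bool :=
  Nat.beq (Nat.xor (enc k) (xs cs (hintAt H k))) 0 ||
    Nat.beq (Nat.xor (enc k) (xs cs (hintAt H k))) 16777215

theorem act_wordOf {t : ℕ} (hv : validPerm t = true) (m : ℕ) :
    (fun p => wordOf m ((tperm t).symm p)) = wordOf (applyP t 1 m) := by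
  rw [wordOf_eq_bword, wordOf_eq_bword, ← smul_setOf hv, bword_smul]

theorem wordOf_xor_full (m : ℕ) : wordOf (Nat.xor m 16777215) = wordOf m + fun _ => (1 : ZMod 2) := by
  show wordOf (m ^^^ 16777215) = _
  rw [wordOf_xor, ← one_eq_wordOf]; rfl

section

variable (X : Subgroup (↥golayCode ≃ₗ[ZMod 2] ↥golayCode))
  (h1 : ∀ x ∈ X, ∀ e : ↥golayCode, (e : (GolayPt → ZMod 2)) = (fun _ => (1 : ZMod 2)) → x e = e)
  (hM : ∀ σ ∈ M24, ∃ x ∈ X, ∀ c : ↥golayCode,
    ((x c : ↥golayCode) : (GolayPt → ZMod 2)) = fun p => (c : (GolayPt → ZMod 2)) (σ.symm p))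
  (horb : ∀ x ∈ X, ∀ c : ↥golayCode, ∃ σ ∈ M24,
    ((x c : ↥golayCode) : (GolayPt → ZMod 2)) = (fun p => (c : (GolayPt → ZMod 2)) (σ.symm p)) ∨
    ((x c : ↥golayCode) : (GolayPt → ZMod 2)) = (fun p => (c : (GolayPt → ZMod 2)) (σ.symm p)) + fun _ => (1 : ZMod 2))

include h1 in
theorem map_oneC {x : ↥golayCode ≃ₗ[ZMod 2] ↥golayCode} (hx : x ∈ X) : x oneC = oneC := h1 x hx oneC rfl

include horb in
theorem weight_class {x : ↥golayCode ≃ₗ[ZMod 2] ↥golayCode} (hx : x ∈ X) (c : ↥golayCode) :
    hammingNorm ((x c : ↥golayCode) : GolayPt → ZMod 2) = hammingNorm (c : GolayPt → ZMod 2) ∨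
    hammingNorm ((x c : ↥golayCode) : GolayPt → ZMod 2) = 24 - hammingNorm (c : GolayPt → ZMod 2) := by
  obtain ⟨σ, -, h | h⟩ := horb x hx c
  · left; rw [h, hammingNorm_perm]
  · right; rw [h, hammingNorm_add_one, hammingNorm_perm]

include horb in
theorem profile {x : ↥golayCode ≃ₗ[ZMod 2] ↥golayCode} (hx : x ∈ X) {a b : ℕ}
    (ha : isCode a = true) (hb : isCode b = true) (h : Ec (x (cwd a)) (cwd b)) : wcOK b a = true := by
  have hw := weight_class X horb hx (cwd a)
  rw [cwd_coe ha, hammingNorm_wordOf] at hw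
  have hb' : hammingNorm ((x (cwd a) : ↥golayCode) : GolayPt → ZMod 2) = popc b ∨
      hammingNorm ((x (cwd a) : ↥golayCode) : GolayPt → ZMod 2) = 24 - popc b := by
    rcases h with h | h
    · left; rw [h, cwd_coe hb, hammingNorm_wordOf]
    · right
      rw [h, Submodule.coe_add, cwd_coe hb]
      show hammingNorm (wordOf b + fun _ => (1 : ZMod 2)) = _
      rw [hammingNorm_add_one, hammingNorm_wordOf]
  have h1 := popc_le a
  have h2 := popc_le b
  rw [wcOK, Bool.or_eq_true]
  have h3 : popc b = popc a ∨ popc b + popc a = 24 := by omega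
  rcases h3 with h3 | h3
  · left; rw [h3]; exact Nat.beq_refl _
  · right
    show Nat.beq (popc b + popc a) 24 = true
    rw [h3]; rfl

/-- `x` fixes the code word of the mask `m` modulo the all-ones word. -/
def Fixes (x : ↥golayCode ≃ₗ[ZMod 2] ↥golayCode) (m : ℕ) : Prop := Ec (x (cwd m)) (cwd m)

theorem fixes_xs (x : ↥golayCode ≃ₗ[ZMod 2] ↥golayCode) :
    ∀ (cs : List ℕ), (∀ m ∈ cs, isCode m = true) → (∀ m ∈ cs, Fixes x m) →
      ∀ s, isCode (xs cs s) = true ∧ Fixes x (xs cs s) := by
  intro cs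
  induction cs with
  | nil =>
    intro _ _ s
    refine ⟨isCode_zero, ?_⟩
    show Ec (x (cwd 0)) (cwd 0)
    rw [cwd_zero, map_zero]; exact Ec.refl _
  | cons m l ih =>
    intro hc hf s
    have hm := hc m (List.mem_cons_self ..)
    have hfm := hf m (List.mem_cons_self ..)
    obtain ⟨ih1, ih2⟩ := ih (fun a ha => hc a (List.mem_cons_of_mem _ ha))
      (fun a ha => hf a (List.mem_cons_of_mem _ ha)) (Nat.div s 2)
    have h0 : isCode (cond (Nat.testBit s 0) m 0) = true ∧ Fixes x (cond (Nat.testBit s 0) m 0) := by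
      cases Nat.testBit s 0
      · refine ⟨isCode_zero, ?_⟩
        show Ec (x (cwd 0)) (cwd 0)
        rw [cwd_zero, map_zero]; exact Ec.refl _
      · exact ⟨hm, hfm⟩
    refine ⟨isCode_xor h0.1 ih1, ?_⟩
    show Ec (x (cwd (Nat.xor _ _))) (cwd (Nat.xor _ _))
    rw [cwd_xor h0.1 ih1, map_add]
    exact Ec.add h0.2 ih2

/-- The conclusion for one automorphism. -/
def Goal (x : ↥golayCode ≃ₗ[ZMod 2] ↥golayCode) : Prop :=
  ∃ σ ∈ M24, ∀ c : ↥golayCode,
    ((x c : ↥golayCode) : (GolayPt → ZMod 2)) = (fun p => (c : (GolayPt → ZMod 2)) (σ.symm p)) ∨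
    ((x c : ↥golayCode) : (GolayPt → ZMod 2)) = (fun p => (c : (GolayPt → ZMod 2)) (σ.symm p)) + fun _ => (1 : ZMod 2)

include h1 hM horb in
theorem level_step (cs : List ℕ) (c H W n : ℕ)
    (hcs : ∀ m ∈ cs, isCode m = true) (hc : isCode c = true)
    (hwits : ∀ j < n, witTest cs (witAt W j) = true)
    (hcert : allBelow (lvlCheck c H W n cs) 4096 = true)
    (hnext : ∀ x ∈ X, (∀ m ∈ cs ++ [c], Fixes x m) → Goal x) :
    ∀ x ∈ X, (∀ m ∈ cs, Fixes x m) → Goal x := by
  intro x hx hfix
  obtain ⟨hd, hxc⟩ := eq_cwd (x (cwd c))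
  have hk := infoOf_lt ((x (cwd c) : ↥golayCode) : GolayPt → ZMod 2)
  generalize infoOf ((x (cwd c) : ↥golayCode) : GolayPt → ZMod 2) = k at hd hxc hk
  have hck := (allBelow_iff _ _).mp hcert k hk
  rw [lvlCheck] at hck
  cases hb : Nat.ble 32768 (hintAt H k)
  · -- refutation
    exfalso
    rw [hb, cond_false, refOK] at hck
    obtain ⟨hv, hfv⟩ := fixes_xs x cs hcs hfix (hintAt H k)
    generalize xs cs (hintAt H k) = v at hck hv hfv
    have hE : Ec (x (cwd (Nat.xor c v))) (cwd (Nat.xor (enc k) v)) := by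
      rw [cwd_xor hc hv, cwd_xor hd hv, map_add, ← hxc]
      exact Ec.add (Ec.refl _) hfv
    have := profile X horb hx (isCode_xor hc hv) (isCode_xor hd hv) hE
    rw [this] at hck
    exact absurd hck (by decide)
  · -- witness
    rw [hb, cond_true, Bool.and_eq_true] at hck
    obtain ⟨hjn, hmap⟩ := hck
    have hjn' : Nat.sub (hintAt H k) 32768 < n := Nat.ble_eq.mp hjn
    have hw := hwits _ hjn'
    rw [witTest, Bool.and_eq_true, List.all_eq_true] at hw
    obtain ⟨hM24F, hfx⟩ := hw
    have hM24 := isM24F_sound hM24F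
    generalize witAt W (Nat.sub (hintAt H k) 32768) = t at hM24 hfx hmap
    have hv := isM24_valid hM24
    obtain ⟨y, hyX, hy⟩ := hM (tperm t) (tperm_mem_M24 hM24)
    have hy1 := map_oneC X h1 hyX
    have hyi1 : y⁻¹ oneC = oneC := map_oneC X h1 (X.inv_mem hyX)
    -- action of y on masks
    have hyw : ∀ m, isCode m = true → ((y (cwd m) : ↥golayCode) : GolayPt → ZMod 2) = wordOf (applyP t 1 m) := by
      intro m hm
      rw [hy, cwd_coe hm]
      exact act_wordOf hv m
    have hinv : ∀ a b : ↥golayCode, Ec (y a) b → Ec (y⁻¹ b) a := by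
      intro a b hab
      have : Ec (y⁻¹ (y a)) (y⁻¹ b) := Ec.map hyi1 hab
      have h2 : y⁻¹ (y a) = a := y.symm_apply_apply a
      rw [h2] at this
      exact this.symm
    have hEy : ∀ m d', isCode m = true → isCode d' = true → mapOK t m d' = true → Ec (y (cwd m)) (cwd d') := by
      intro m d' hm hd' hmd
      rw [mapOK, Bool.or_eq_true] at hmd
      rcases hmd with hmd | hmd
      · have hmd := Nat.eq_of_beq_eq_true hmd
        left
        apply Subtype.ext
        rw [hyw m hm, hmd, cwd_coe hd']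
      · have hmd := Nat.eq_of_beq_eq_true hmd
        right
        apply Subtype.ext
        rw [hyw m hm, hmd, Submodule.coe_add, cwd_coe hd', wordOf_xor_full]
        rfl
    have hx' : y⁻¹ * x ∈ X := X.mul_mem (X.inv_mem hyX) hx
    have hfix' : ∀ m ∈ cs ++ [c], Fixes (y⁻¹ * x) m := by
      intro m hm
      rw [List.mem_append, List.mem_singleton] at hm
      rcases hm with hm | rfl
      · have hmc := hcs m hm
        have e1 : Ec (y (cwd m)) (cwd m) := hEy m m hmc hmc (hfx m hm)
        have e2 : Ec (y⁻¹ (cwd m)) (cwd m) := hinv _ _ e1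
        have e3 : Ec (y⁻¹ (x (cwd m))) (y⁻¹ (cwd m)) := Ec.map hyi1 (hfix m hm)
        exact e3.trans e2
      · have e1 : Ec (y (cwd m)) (cwd (enc k)) := hEy m (enc k) hc hd hmap
        have e2 : Ec (y⁻¹ (cwd (enc k))) (cwd m) := hinv _ _ e1
        show Ec (y⁻¹ (x (cwd m))) (cwd m)
        rw [hxc]; exact e2
    obtain ⟨σ', hσ', h'⟩ := hnext (y⁻¹ * x) hx' hfix'
    refine ⟨tperm t * σ', M24.mul_mem (tperm_mem_M24 hM24) hσ', ?_⟩
    intro c0
    have hxy : x c0 = y ((y⁻¹ * x) c0) := (y.apply_symm_apply (x c0)).symm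
    rw [hxy, hy]
    rcases h' c0 with h2 | h2
    · left; rw [h2]; rfl
    · right; rw [h2]; rfl

include h1 in
theorem base_step (cs : List ℕ) (H : ℕ) (hcs : ∀ m ∈ cs, isCode m = true)
    (hcert : allBelow (baseCheck cs H) 4096 = true) :
    ∀ x ∈ X, (∀ m ∈ cs, Fixes x m) → Goal x := by
  intro x hx hfix
  refine ⟨1, M24.one_mem, fun c => ?_⟩
  obtain ⟨hd, hc⟩ := eq_cwd c
  have hk := infoOf_lt (c : GolayPt → ZMod 2)
  generalize infoOf (c : GolayPt → ZMod 2) = k at hd hc hk
  have hck := (allBelow_iff _ _).mp hcert k hk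
  rw [baseCheck, Bool.or_eq_true] at hck
  obtain ⟨hv, hfv⟩ := fixes_xs x cs hcs hfix (hintAt H k)
  generalize xs cs (hintAt H k) = v at hck hv hfv
  have hx1 := map_oneC X h1 hx
  have hcv : Ec c (cwd v) := by
    rcases hck with h | h
    · have h := Nat.eq_of_beq_eq_true h
      left
      have : enc k = v := Nat.xor_eq_zero_iff.mp h
      rw [hc, this]
    · have h := Nat.eq_of_beq_eq_true h
      right
      have : enc k = Nat.xor v 16777215 := by
        have h2 : (enc k ^^^ v) ^^^ v = 16777215 ^^^ v := congrArg (· ^^^ v) h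
        rw [Nat.xor_assoc, Nat.xor_self, Nat.xor_zero] at h2
        rw [h2]; exact Nat.xor_comm _ _
      rw [hc, this, cwd_xor hv isCode_full, cwd_full]
  have hE : Ec (x c) c := ((Ec.map hx1 hcv).trans hfv).trans hcv.symm
  rcases hE with h | h
  · left; rw [h]; rfl
  · right; rw [h]; rfl

end

end Cfsg.Agent.Lib.helper94
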