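import Mathlib
import Cfsg.Prelude.Def_LieTypeChar
import Cfsg.Agent.Lib.helper44.LODefs
import Cfsg.Agent.Lib.helper6.LOARITH

/-! S2363 piece TF4 (racing copy by helper94): arithmetic core. -/

set_option autoImplicit false

namespace Cfsg.Agent.Lib.helper44.LO

/-- arithmetic core of TF4 -/
theorem h94_lo_tf4_core (f : ℕ) (hf : 1 ≤ f) (n : ℕ)
    (h : n = (2 ^ f) ^ 12 * (2 ^ f - 1) * ((2 ^ f) ^ 3 + 1) * ((2 ^ f) ^ 4 - 1) * ((2 ^ f) ^ 6 + 1)) :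
    LOGood 2 n := by
  obtain ⟨q, hq⟩ : ∃ q, q = 2 ^ f := ⟨_, rfl⟩
  rw [← hq] at h
  have h2q : 2 ∣ q := by rw [hq]; exact dvd_pow_self 2 (by omega)
  have hq2 : 2 ≤ q := Nat.le_of_dvd (by rw [hq]; positivity) h2q
  refine lo_good Nat.prime_two f hf 1 n 12 ((q - 1) * (q ^ 3 + 1) * (q ^ 4 - 1) * (q ^ 6 + 1)) 14 ?_
    (by norm_num) ?_ ?_ (by norm_num) (by norm_num)
  · rw [← hq, h]; ring
  · intro hd
    obtain ⟨s3, hs3⟩ : 2 ∣ q ^ 3 := dvd_pow h2q (by norm_num)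
    obtain ⟨s4, hs4⟩ : 2 ∣ q ^ 4 := dvd_pow h2q (by norm_num)
    obtain ⟨s6, hs6⟩ : 2 ∣ q ^ 6 := dvd_pow h2q (by norm_num)
    have h4pos : 0 < q ^ 4 := by positivity
    obtain ⟨t, ht⟩ := h2q
    rcases (Nat.Prime.dvd_mul Nat.prime_two).1 hd with h1 | h1
    · rcases (Nat.Prime.dvd_mul Nat.prime_two).1 h1 with h1 | h1
      · rcases (Nat.Prime.dvd_mul Nat.prime_two).1 h1 with h1 | h1
        · omega
        · omega
      · omega
    · omega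
  · rw [← hq, one_mul]
    have e1 : (q - 1) * (q ^ 3 + 1) < q ^ 4 := by
      obtain ⟨t, rfl⟩ : ∃ t, q = t + 1 := ⟨q - 1, by omega⟩
      rw [Nat.add_sub_cancel]
      have : 1 ≤ t := by omega
      nlinarith [pow_pos (show 0 < t + 1 by omega) 3, pow_pos (show 0 < t + 1 by omega) 2]
    have e2 : (q ^ 4 - 1) * (q ^ 6 + 1) < q ^ 10 := by
      have h4 : 1 ≤ q ^ 4 := Nat.one_le_pow _ _ (by omega)
      have h46 : q ^ 4 < q ^ 6 := Nat.pow_lt_pow_right (by omega) (by norm_num)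
      obtain ⟨a, ha⟩ : ∃ a, q ^ 4 = a + 1 := ⟨q ^ 4 - 1, by omega⟩
      have h10 : q ^ 10 = q ^ 4 * q ^ 6 := by ring
      rw [h10, ha, Nat.add_sub_cancel]
      rw [ha] at h46
      nlinarith
    calc (q - 1) * (q ^ 3 + 1) * (q ^ 4 - 1) * (q ^ 6 + 1)
        = ((q - 1) * (q ^ 3 + 1)) * ((q ^ 4 - 1) * (q ^ 6 + 1)) := by ring
      _ < q ^ 4 * q ^ 10 := Nat.mul_lt_mul'' e1 e2
      _ = q ^ 14 := by ring

end Cfsg.Agent.Lib.helper44.LO
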