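/-
Ree's inequality for permutations (via Scott's lemma on the rational permutation module): if
`x * y * z = 1` then the ranks of `x - 1`, `y - 1`, `z - 1` on the permutation module add up to at
least `2 (n - r)`, where `r` bounds the number of orbits of the group generated by `x` and `y`.
Also the bound of the rank of `g - 1` by the number of orbits of the powers of `g`.
-/
import Mathlib

set_option autoImplicit false

namespace Cfsg.Agent.Lib.helper94

open Equiv

variable {Ω : Type*} [Fintype Ω] [DecidableEq Ω]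

/-- The permutation operator `v ↦ v ∘ g` on rational functions. -/
def pmap (g : Perm Ω) : (Ω → ℚ) →ₗ[ℚ] (Ω → ℚ) := LinearMap.funLeft ℚ ℚ g

omit [Fintype Ω] [DecidableEq Ω] in
theorem pmap_apply (g : Perm Ω) (v : Ω → ℚ) (ω : Ω) : pmap g v ω = v (g ω) := rfl

omit [Fintype Ω] [DecidableEq Ω] in
theorem pmap_mul (g h : Perm Ω) (v : Ω → ℚ) : pmap (g * h) v = pmap h (pmap g v) := rfl

omit [Fintype Ω] [DecidableEq Ω] in
theorem pmap_inv_cancel (g : Perm Ω) (v : Ω → ℚ) : pmap g (pmap g⁻¹ v) = v := by
  funext ω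
  rw [pmap_apply, pmap_apply]
  exact congrArg v (Equiv.symm_apply_apply g ω)

omit [Fintype Ω] [DecidableEq Ω] in
theorem pmap_inv_cancel' (g : Perm Ω) (v : Ω → ℚ) : pmap g⁻¹ (pmap g v) = v := by
  funext ω
  rw [pmap_apply, pmap_apply]
  exact congrArg v (Equiv.apply_symm_apply g ω)

/-- The operator `v ↦ v ∘ g - v`. -/
def dmap (g : Perm Ω) : (Ω → ℚ) →ₗ[ℚ] (Ω → ℚ) := pmap g - LinearMap.id

omit [Fintype Ω] [DecidableEq Ω] in
theorem dmap_apply (g : Perm Ω) (v : Ω → ℚ) : dmap g v = pmap g v - v := rfl

/-- The rank of `g - 1` on the permutation module. -/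
noncomputable def prank (g : Perm Ω) : ℕ := Module.finrank ℚ (LinearMap.range (dmap g))

/-- **Ree's inequality** (Scott's lemma for the permutation module). -/
theorem ree_bound (x y z : Perm Ω) (hxyz : x * y * z = 1) (R : Finset Ω)
    (hR : ∀ ω, ∃ r ∈ R, ∃ g ∈ Subgroup.closure ({x, y} : Set (Perm Ω)), g r = ω) :
    2 * Fintype.card Ω ≤ prank x + prank y + prank z + 2 * R.card := by
  classical
  let β : (Ω → ℚ) →ₗ[ℚ]
      (LinearMap.range (dmap x) × LinearMap.range (dmap y) × LinearMap.range (dmap z)) :=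
    (dmap x).rangeRestrict.prod ((dmap y).rangeRestrict.prod (dmap z).rangeRestrict)
  let δ : (LinearMap.range (dmap x) × LinearMap.range (dmap y) × LinearMap.range (dmap z))
      →ₗ[ℚ] (Ω → ℚ) :=
    (pmap (y * z)).comp ((LinearMap.range (dmap x)).subtype.comp (LinearMap.fst ℚ _ _)) +
    (pmap z).comp ((LinearMap.range (dmap y)).subtype.comp
      ((LinearMap.fst ℚ _ _).comp (LinearMap.snd ℚ _ _))) +
    (LinearMap.range (dmap z)).subtype.comp ((LinearMap.snd ℚ _ _).comp (LinearMap.snd ℚ _ _))
  have hδ : ∀ (a : LinearMap.range (dmap x)) (b : LinearMap.range (dmap y))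
      (c : LinearMap.range (dmap z)), δ (a, b, c) = pmap (y * z) a.1 + pmap z b.1 + c.1 :=
    fun a b c => rfl
  have hβ : ∀ v, β v = (⟨dmap x v, LinearMap.mem_range_self _ v⟩,
      ⟨dmap y v, LinearMap.mem_range_self _ v⟩, ⟨dmap z v, LinearMap.mem_range_self _ v⟩) :=
    fun v => rfl
  have hx1 : ∀ ω, x (y (z ω)) = ω := by
    intro ω
    have := congrArg (fun f : Perm Ω => f ω) hxyz
    simpa using this
  have hβδ : ∀ v, δ (β v) = 0 := by
    intro v
    rw [hβ, hδ]
    funext ω
    simp only [dmap_apply, pmap_apply, Pi.add_apply, Pi.sub_apply, Pi.zero_apply, Perm.mul_apply,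
      hx1]
    ring
  -- invariant functions
  have hinv : ∀ v, dmap x v = 0 → dmap y v = 0 →
      ∀ g ∈ Subgroup.closure ({x, y} : Set (Perm Ω)), pmap g v = v := by
    intro v hvx hvy g hg
    induction hg using Subgroup.closure_induction with
    | mem g hg =>
      rcases hg with rfl | rfl
      · rw [dmap_apply] at hvx; exact sub_eq_zero.mp hvx
      · rw [dmap_apply] at hvy; exact sub_eq_zero.mp hvy
    | one => rfl
    | mul g h _ _ ihg ihh => rw [pmap_mul, ihg, ihh]
    | inv g _ ih =>
      have h2 := pmap_inv_cancel' g v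
      rw [ih] at h2
      exact h2
  have hker : Module.finrank ℚ (LinearMap.ker β) ≤ R.card := by
    let ρ : LinearMap.ker β →ₗ[ℚ] (R → ℚ) :=
      (LinearMap.funLeft ℚ ℚ (Subtype.val : R → Ω)).comp (LinearMap.ker β).subtype
    have hinj : Function.Injective ρ := by
      rw [← LinearMap.ker_eq_bot, LinearMap.ker_eq_bot']
      rintro ⟨v, hv⟩ h0
      rw [LinearMap.mem_ker, hβ] at hv
      simp only [Prod.mk_eq_zero, Submodule.mk_eq_zero] at hv
      obtain ⟨hvx, hvy, -⟩ := hv
      apply Subtype.ext
      funext ω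
      obtain ⟨r, hr, g, hg, rfl⟩ := hR ω
      have h1 := congrFun (hinv v hvx hvy g hg) r
      rw [pmap_apply] at h1
      show v (g r) = 0
      rw [h1]
      exact congrFun h0 ⟨r, hr⟩
    calc Module.finrank ℚ (LinearMap.ker β) ≤ Module.finrank ℚ (R → ℚ) :=
          LinearMap.finrank_le_finrank_of_injective hinj
      _ = R.card := by rw [Module.finrank_fintype_fun_eq_card, Fintype.card_coe]
  -- the range of δ
  have hUz : ∀ v, dmap z v ∈ LinearMap.range δ := fun v =>
    ⟨(0, 0, ⟨dmap z v, LinearMap.mem_range_self _ v⟩), by rw [hδ]; simp⟩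
  have hUy : ∀ v, dmap y v ∈ LinearMap.range δ := by
    intro v
    have h1 : pmap z (dmap y v) ∈ LinearMap.range δ :=
      ⟨(0, ⟨dmap y v, LinearMap.mem_range_self _ v⟩, 0), by rw [hδ]; simp⟩
    have h2 := hUz (dmap y v)
    have h3 : dmap y v = pmap z (dmap y v) - dmap z (dmap y v) := by
      rw [dmap_apply z]; abel
    rw [h3]
    exact Submodule.sub_mem _ h1 h2
  have hUx : ∀ v, dmap x v ∈ LinearMap.range δ := by
    intro v
    have h1 : pmap (y * z) (dmap x v) ∈ LinearMap.range δ :=
      ⟨(⟨dmap x v, LinearMap.mem_range_self _ v⟩, 0, 0), by rw [hδ]; simp⟩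
    rw [pmap_mul] at h1
    have h2 := hUz (pmap y (dmap x v))
    have h3 := hUy (dmap x v)
    have h4 : dmap x v = pmap z (pmap y (dmap x v)) - dmap z (pmap y (dmap x v))
        - dmap y (dmap x v) := by
      rw [dmap_apply z, dmap_apply y]; abel
    rw [h4]
    exact Submodule.sub_mem _ (Submodule.sub_mem _ h1 h2) h3
  have hcl : ∀ g ∈ Subgroup.closure ({x, y} : Set (Perm Ω)), ∀ v,
      pmap g v - v ∈ LinearMap.range δ := by
    intro g hg
    induction hg using Subgroup.closure_induction with
    | mem g hg =>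
      intro v
      rcases hg with rfl | rfl
      · exact hUx v
      · exact hUy v
    | one => intro v; simp [pmap, LinearMap.funLeft]
    | mul g h _ _ ihg ihh =>
      intro v
      have h1 : pmap (g * h) v - v = (pmap h (pmap g v) - pmap g v) + (pmap g v - v) := by
        rw [pmap_mul]; abel
      rw [h1]
      exact Submodule.add_mem _ (ihh _) (ihg _)
    | inv g _ ih =>
      intro v
      have h1 : pmap g⁻¹ v - v = -(pmap g (pmap g⁻¹ v) - pmap g⁻¹ v) := by
        rw [pmap_inv_cancel]; abel
      rw [h1]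
      exact Submodule.neg_mem _ (ih _)
  have hU : Fintype.card Ω ≤ Module.finrank ℚ (LinearMap.range δ) + R.card := by
    let S : Submodule ℚ (Ω → ℚ) :=
      Submodule.span ℚ ((R.image fun r => (Pi.single r 1 : Ω → ℚ)) : Set (Ω → ℚ))
    have htop : (⊤ : Submodule ℚ (Ω → ℚ)) ≤ LinearMap.range δ ⊔ S := by
      rw [← (Pi.basisFun ℚ Ω).span_eq, Submodule.span_le]
      rintro _ ⟨ω, rfl⟩
      rw [Pi.basisFun_apply]
      obtain ⟨r, hr, g, hg, rfl⟩ := hR ω
      have h1 := hcl g⁻¹ (Subgroup.inv_mem _ hg) (Pi.single r 1)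
      have h2 : pmap g⁻¹ (Pi.single r 1 : Ω → ℚ) = Pi.single (g r) 1 := by
        funext ω
        rw [pmap_apply, Pi.single_apply, Pi.single_apply]
        have : g⁻¹ ω = r ↔ ω = g r := by
          rw [Perm.inv_eq_iff_eq]
        simp only [this]
      rw [h2] at h1
      have h3 : (Pi.single r 1 : Ω → ℚ) ∈ S :=
        Submodule.subset_span (Finset.mem_coe.mpr (Finset.mem_image_of_mem _ hr))
      have h4 : (Pi.single (g r) 1 : Ω → ℚ) = (Pi.single (g r) 1 - Pi.single r 1) + Pi.single r 1 := by
        abel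
      rw [h4]
      exact Submodule.add_mem _ (Submodule.mem_sup_left h1) (Submodule.mem_sup_right h3)
    have h5 : Module.finrank ℚ (Ω → ℚ) ≤ Module.finrank ℚ ↥(LinearMap.range δ ⊔ S) := by
      rw [top_le_iff.mp htop, finrank_top]
    have h6 := Submodule.finrank_add_le_finrank_add_finrank (LinearMap.range δ) S
    have h7 : Module.finrank ℚ S ≤ R.card :=
      le_trans (finrank_span_finset_le_card _) Finset.card_image_le
    rw [Module.finrank_fintype_fun_eq_card] at h5
    omega
  have hW : Module.finrank ℚ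
      (LinearMap.range (dmap x) × LinearMap.range (dmap y) × LinearMap.range (dmap z)) =
      prank x + prank y + prank z := by
    rw [Module.finrank_prod, Module.finrank_prod]
    unfold prank
    ring
  have h1 := LinearMap.finrank_range_add_finrank_ker δ
  have h2 := LinearMap.finrank_range_add_finrank_ker β
  have h3 : Module.finrank ℚ (LinearMap.range β) ≤ Module.finrank ℚ (LinearMap.ker δ) := by
    apply Submodule.finrank_mono
    rintro _ ⟨v, rfl⟩
    exact hβδ v
  rw [Module.finrank_fintype_fun_eq_card] at h2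
  rw [hW] at h1
  omega

omit [DecidableEq Ω] in
/-- The rank of `g - 1` plus the number of orbits of the powers of `g` is at most `n`. -/
theorem prank_add_orbits_le (g : Perm Ω) :
    prank g + Nat.card (MulAction.orbitRel.Quotient (Subgroup.zpowers g) Ω) ≤ Fintype.card Ω := by
  classical
  let _ : Fintype (MulAction.orbitRel.Quotient (Subgroup.zpowers g) Ω) := Fintype.ofFinite _
  let π : Ω → MulAction.orbitRel.Quotient (Subgroup.zpowers g) Ω := Quotient.mk _
  have hπ : Function.Surjective π := Quotient.mk_surjective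
  have hπg : ∀ ω, π (g ω) = π ω := by
    intro ω
    apply Quotient.sound
    show MulAction.orbitRel (Subgroup.zpowers g) Ω (g ω) ω
    rw [MulAction.orbitRel_apply]
    exact MulAction.mem_orbit ω (⟨g, Subgroup.mem_zpowers g⟩ : Subgroup.zpowers g)
  let φ : (MulAction.orbitRel.Quotient (Subgroup.zpowers g) Ω → ℚ) →ₗ[ℚ] (Ω → ℚ) :=
    LinearMap.funLeft ℚ ℚ π
  have hφ : Function.Injective φ := LinearMap.funLeft_injective_of_surjective _ _ π hπ
  have hle : LinearMap.range φ ≤ LinearMap.ker (dmap g) := by
    rintro _ ⟨u, rfl⟩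
    rw [LinearMap.mem_ker, dmap_apply]
    funext ω
    show u (π (g ω)) - u (π ω) = 0
    rw [hπg, sub_self]
  have h1 := Submodule.finrank_mono hle
  rw [LinearMap.finrank_range_of_inj hφ, Module.finrank_fintype_fun_eq_card] at h1
  have h2 := LinearMap.finrank_range_add_finrank_ker (dmap g)
  rw [Module.finrank_fintype_fun_eq_card] at h2
  rw [Nat.card_eq_fintype_card]
  unfold prank
  omega

/-- Burnside's lemma for the powers of `g`, as an inequality in terms of the fixed points of `g`. -/
theorem orbits_mul_order_ge (g : Perm Ω) :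
    Fintype.card Ω + (orderOf g - 1) * (Finset.univ.filter fun ω => g ω = ω).card ≤
      Nat.card (MulAction.orbitRel.Quotient (Subgroup.zpowers g) Ω) * orderOf g := by
  classical
  let _ : Fintype (MulAction.orbitRel.Quotient (Subgroup.zpowers g) Ω) := Fintype.ofFinite _
  let _ : Fintype (Subgroup.zpowers g) := Fintype.ofFinite _
  have hB := MulAction.sum_card_fixedBy_eq_card_orbits_mul_card_group (Subgroup.zpowers g) Ω
  have hfix : ∀ a : Subgroup.zpowers g, (Finset.univ.filter fun ω => g ω = ω).card ≤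
      Fintype.card (MulAction.fixedBy Ω a) := by
    intro a
    rw [← Nat.card_eq_fintype_card, Nat.card_coe_set_eq, ← Set.ncard_coe_finset]
    apply Set.ncard_le_ncard _ (Set.toFinite _)
    intro ω hω
    have hω' : g ω = ω := (Finset.mem_filter.mp (Finset.mem_coe.mp hω)).2
    obtain ⟨k, hk⟩ := Subgroup.mem_zpowers_iff.mp a.2
    rw [MulAction.mem_fixedBy]
    show (a : Perm Ω) ω = ω
    rw [← hk]
    exact Equiv.Perm.zpow_apply_eq_self_of_apply_eq_self hω' k
  have hone : Fintype.card (MulAction.fixedBy Ω (1 : Subgroup.zpowers g)) = Fintype.card Ω := by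
    apply Fintype.card_congr
    exact ⟨fun ω => ω.1, fun ω => ⟨ω, by rw [MulAction.mem_fixedBy, one_smul]⟩, fun _ => rfl,
      fun _ => rfl⟩
  have hsum : Fintype.card Ω + (Fintype.card (Subgroup.zpowers g) - 1) *
      (Finset.univ.filter fun ω => g ω = ω).card ≤
      ∑ a : Subgroup.zpowers g, Fintype.card (MulAction.fixedBy Ω a) := by
    rw [← Finset.add_sum_erase Finset.univ _ (Finset.mem_univ (1 : Subgroup.zpowers g)), hone]
    apply Nat.add_le_add_left
    have h3 := Finset.card_nsmul_le_sum ((Finset.univ : Finset (Subgroup.zpowers g)).erase 1)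
      (fun a => Fintype.card (MulAction.fixedBy Ω a)) _ (fun a _ => hfix a)
    rw [Finset.card_erase_of_mem (Finset.mem_univ _), Finset.card_univ, smul_eq_mul] at h3
    exact h3
  rw [hB] at hsum
  have hc : Fintype.card (Subgroup.zpowers g) = orderOf g := by
    rw [← Nat.card_eq_fintype_card, Nat.card_zpowers]
  rw [hc] at hsum
  rw [Nat.card_eq_fintype_card]
  exact hsum

/-- The rank bound in terms of the order and a lower bound for the number of fixed points. -/
theorem prank_bound (g : Perm Ω) (f : ℕ) (hf : f ≤ (Finset.univ.filter fun ω => g ω = ω).card) :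
    orderOf g * prank g + Fintype.card Ω + (orderOf g - 1) * f ≤ orderOf g * Fintype.card Ω := by
  have h1 := prank_add_orbits_le g
  have h2 := orbits_mul_order_ge g
  have h3 : (orderOf g - 1) * f ≤ (orderOf g - 1) * (Finset.univ.filter fun ω => g ω = ω).card :=
    Nat.mul_le_mul_left _ hf
  have h4 : orderOf g * (prank g + Nat.card (MulAction.orbitRel.Quotient (Subgroup.zpowers g) Ω))
      ≤ orderOf g * Fintype.card Ω := Nat.mul_le_mul_left _ h1
  rw [Nat.mul_add, Nat.mul_comm (orderOf g) (Nat.card _)] at h4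
  omega

end Cfsg.Agent.Lib.helper94
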