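/-
Generation of `M23` by two table permutations, certified by a straight-line program and a
stabiliser chain; rank bounds (for Ree's inequality) for the elements of `M23`.
-/
import Mathlib
import Cfsg.Prelude.Def_Spor_Mathieu
import Cfsg.Agent.Lib.helper94.ReeBound
import Cfsg.Agent.Lib.helper94.M24FixAll
import Cfsg.Agent.Lib.helper94.GolayLin
import Cfsg.Agent.Lib.helper33.M24Aut

set_option autoImplicit false

namespace Cfsg.Agent.Lib.helper94

open Cfsg
open scoped Pointwise
open Cfsg.Agent.Lib.helper9 (le_card_of_orbit)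
open Cfsg.Agent.Lib.helper33 (mem_M23 card_M23 orbFin_M23 mem_orbFin)

/-! ### Straight-line programs of tables -/

/-- Straight-line program check: for the `m`-th pair `(i, j)` of the program the table at position
`k + m` of `T` is a valid table, the product of the tables at the earlier positions `i` and `j`. -/
def slpOK (T : List ℕ) : ℕ → List (ℕ × ℕ) → Bool
  | _, [] => true
  | k, (i, j) :: rest =>
      Nat.blt i k && Nat.blt j k &&
      (forceNat (T.getD i 0) fun A => forceNat (T.getD j 0) fun B => forceNat (T.getD k 0) fun C =>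
        validPerm C && mulOK A B C) && slpOK T (Nat.succ k) rest

theorem slp_sound (H : Subgroup (Equiv.Perm GolayPt)) (T : List ℕ) :
    ∀ (prog : List (ℕ × ℕ)) (k : ℕ), slpOK T k prog = true →
      (∀ m < k, validPerm (T.getD m 0) = true ∧ tperm (T.getD m 0) ∈ H) →
      ∀ m < k + prog.length, validPerm (T.getD m 0) = true ∧ tperm (T.getD m 0) ∈ H
  | [], k, _, hk => by simpa using hk
  | (i, j) :: rest, k, h, hk => by
    rw [slpOK] at h
    simp only [Bool.and_eq_true, forceNat_eq] at h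
    obtain ⟨⟨⟨hi, hj⟩, hC, hmul⟩, hrest⟩ := h
    have hi' : i < k := by simpa [Nat.blt_eq] using hi
    have hj' : j < k := by simpa [Nat.blt_eq] using hj
    have hk' : ∀ m < k + 1, validPerm (T.getD m 0) = true ∧ tperm (T.getD m 0) ∈ H := by
      intro m hm
      rcases Nat.lt_succ_iff_lt_or_eq.mp hm with h1 | rfl
      · exact hk m h1
      · refine ⟨hC, ?_⟩
        rw [← tperm_mul_of_mulOK (hk i hi').1 (hk j hj').1 hC hmul]
        exact H.mul_mem (hk i hi').2 (hk j hj').2
    have h2 := slp_sound H T rest (k + 1) hrest hk'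
    intro m hm
    apply h2
    simp only [List.length_cons] at hm
    omega

/-- The indices of the list are fixed by the table. -/
def fixesL (E : ℕ) : List ℕ → Bool
  | [] => true
  | b :: l => Nat.beq (imgAt E b) b && fixesL E l

theorem fixesL_iff (E : ℕ) (l : List ℕ) : fixesL E l = true ↔ ∀ b ∈ l, imgAt E b = b := by
  induction l with
  | nil => simp [fixesL]
  | cons a l ih =>
    rw [fixesL, Bool.and_eq_true, ih]
    constructor
    · rintro ⟨h1, h2⟩ b hb
      rcases List.mem_cons.mp hb with rfl | hb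
      · exact Nat.eq_of_beq_eq_true h1
      · exact h2 b hb
    · intro h
      refine ⟨?_, fun b hb => h b (List.mem_cons_of_mem _ hb)⟩
      rw [h a List.mem_cons_self]
      exact Nat.beq_refl _

/-- Level certificate: for every index `q` of the mask `D` the table at position `cert[q] < n`
fixes the indices of `fx` and maps `b` to `q`. -/
def lvlOK (T : List ℕ) (n : ℕ) (fx : List ℕ) (b D : ℕ) (cert : List ℕ) : Bool :=
  allBelow (fun q => !(D.testBit q) ||
    (forceNat (cert.getD q 0) fun c => Nat.blt c n &&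
      forceNat (T.getD c 0) fun E => fixesL E fx && Nat.beq (imgAt E b) q)) 24

theorem lvl_sound {H : Subgroup (Equiv.Perm GolayPt)} {T : List ℕ} {n : ℕ} {fx : List ℕ}
    {b D : ℕ} {cert : List ℕ} (h : lvlOK T n fx b D cert = true) (hb : b < 24)
    (hfx : ∀ a ∈ fx, a < 24)
    (hT : ∀ m < n, validPerm (T.getD m 0) = true ∧ tperm (T.getD m 0) ∈ H) :
    ∀ q ∈ setOf D, ∃ g ∈ H, (∀ a ∈ fx, g (idxPt a) = idxPt a) ∧ g (idxPt b) = q := by
  intro q hq
  rw [mem_setOf] at hq
  rw [lvlOK, allBelow_iff] at h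
  have h1 := h (ptIdx q) (ptIdx_lt q)
  rw [hq] at h1
  simp only [Bool.not_true, Bool.false_or, Bool.and_eq_true, forceNat_eq] at h1
  obtain ⟨hc, hfix, himg⟩ := h1
  have hc' : cert.getD (ptIdx q) 0 < n := by simpa [Nat.blt_eq] using hc
  obtain ⟨hv, hm⟩ := hT _ hc'
  refine ⟨_, hm, ?_, ?_⟩
  · intro a ha
    rw [tperm_idxPt hv (hfx a ha), (fixesL_iff _ _).mp hfix a ha]
  · rw [tperm_idxPt hv hb, Nat.eq_of_beq_eq_true himg, idxPt_ptIdx]

/-- The pointwise stabiliser of the points with indices in a list. -/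
def stabChain (H : Subgroup (Equiv.Perm GolayPt)) : List ℕ → Subgroup (Equiv.Perm GolayPt)
  | [] => H
  | a :: l => stabChain H l ⊓ MulAction.stabilizer (Equiv.Perm GolayPt) (idxPt a)

theorem mem_stabChain (H : Subgroup (Equiv.Perm GolayPt)) (l : List ℕ) (g : Equiv.Perm GolayPt) :
    g ∈ stabChain H l ↔ g ∈ H ∧ ∀ a ∈ l, g (idxPt a) = idxPt a := by
  induction l with
  | nil => simp [stabChain]
  | cons a l ih =>
    rw [stabChain, Subgroup.mem_inf, ih, MulAction.mem_stabilizer_iff]
    constructor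
    · rintro ⟨⟨h1, h2⟩, h3⟩
      refine ⟨h1, fun b hb => ?_⟩
      rcases List.mem_cons.mp hb with rfl | hb
      · exact h3
      · exact h2 b hb
    · rintro ⟨h1, h2⟩
      exact ⟨⟨h1, fun b hb => h2 b (List.mem_cons_of_mem _ hb)⟩, h2 a List.mem_cons_self⟩

theorem chain_step (H : Subgroup (Equiv.Perm GolayPt)) (fx : List ℕ) (b D : ℕ)
    (h : ∀ q ∈ setOf D, ∃ g ∈ H, (∀ a ∈ fx, g (idxPt a) = idxPt a) ∧ g (idxPt b) = q) :
    popc D * Nat.card (stabChain H (b :: fx)) ≤ Nat.card (stabChain H fx) := by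
  rw [← card_setOf]
  refine le_card_of_orbit (stabChain H fx) (idxPt b) (setOf D) (fun q hq => ?_)
  obtain ⟨g, hg, hfix, hgq⟩ := h q hq
  exact ⟨g, (mem_stabChain H fx g).mpr ⟨hg, hfix⟩, hgq⟩

/-- Certificate for a subgroup of order at least `|M23|`: a straight-line program and a chain of
stabilisers of the points `0, …, 5` with orbits of lengths `23, 22, 21, 20, 16, 3`. -/
def chainOK (T : List ℕ) (prog : List (ℕ × ℕ)) (c0 c1 c2 c3 c4 c5 : List ℕ) : Bool :=
  forceNat (Nat.add 2 prog.length) fun n =>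
    slpOK T 2 prog &&
    lvlOK T n [] 0 8388607 c0 && lvlOK T n [0] 1 8388606 c1 && lvlOK T n [1, 0] 2 8388604 c2 &&
    lvlOK T n [2, 1, 0] 3 8388600 c3 && lvlOK T n [3, 2, 1, 0] 4 8241104 c4 &&
    lvlOK T n [4, 3, 2, 1, 0] 5 147488 c5

theorem card_ge_of_chainOK (H : Subgroup (Equiv.Perm GolayPt)) {T : List ℕ}
    {prog : List (ℕ × ℕ)} {c0 c1 c2 c3 c4 c5 : List ℕ}
    (h : chainOK T prog c0 c1 c2 c3 c4 c5 = true)
    (h0 : validPerm (T.getD 0 0) = true ∧ tperm (T.getD 0 0) ∈ H)
    (h1 : validPerm (T.getD 1 0) = true ∧ tperm (T.getD 1 0) ∈ H) :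
    10200960 ≤ Nat.card H := by
  rw [chainOK, forceNat_eq] at h
  simp only [Bool.and_eq_true] at h
  obtain ⟨⟨⟨⟨⟨⟨hslp, l0⟩, l1⟩, l2⟩, l3⟩, l4⟩, l5⟩ := h
  have hT : ∀ m < 2 + prog.length, validPerm (T.getD m 0) = true ∧ tperm (T.getD m 0) ∈ H := by
    refine slp_sound H T prog 2 hslp (fun m hm => ?_)
    interval_cases m
    · exact h0
    · exact h1
  have s0 := chain_step H [] 0 _ (lvl_sound l0 (by norm_num) (by simp) hT)
  have s1 := chain_step H [0] 1 _ (lvl_sound l1 (by norm_num) (by simp) hT)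
  have s2 := chain_step H [1, 0] 2 _ (lvl_sound l2 (by norm_num) (by simp) hT)
  have s3 := chain_step H [2, 1, 0] 3 _ (lvl_sound l3 (by norm_num) (by simp) hT)
  have s4 := chain_step H [3, 2, 1, 0] 4 _ (lvl_sound l4 (by norm_num) (by simp) hT)
  have s5 := chain_step H [4, 3, 2, 1, 0] 5 _ (lvl_sound l5 (by norm_num) (by simp) hT)
  have s6 : 1 ≤ Nat.card (stabChain H [5, 4, 3, 2, 1, 0]) := Nat.card_pos
  have p0 : popc 8388607 = 23 := by decide
  have p1 : popc 8388606 = 22 := by decide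
  have p2 : popc 8388604 = 21 := by decide
  have p3 : popc 8388600 = 20 := by decide
  have p4 : popc 8241104 = 16 := by decide
  have p5 : popc 147488 = 3 := by decide
  rw [p0] at s0; rw [p1] at s1; rw [p2] at s2; rw [p3] at s3; rw [p4] at s4; rw [p5] at s5
  have e0 : stabChain H [] = H := rfl
  rw [e0] at s0
  omega

/-! ### Certificates for generating triples of `M23` -/

/-- Certificate: the tables `T[0]`, `T[1]` are in `M23`, of orders `p` and `q`, their product is
`T[2]` of order `r`, and they generate a subgroup of order at least `|M23|`. -/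
def tripleOK (p q r : ℕ) (T : List ℕ) (prog : List (ℕ × ℕ)) (c0 c1 c2 c3 c4 c5 : List ℕ) : Bool :=
  forceNat (T.getD 0 0) fun tx => forceNat (T.getD 1 0) fun ty => forceNat (T.getD 2 0) fun txy =>
    isM24F tx && Nat.beq (imgAt tx 23) 23 && isM24F ty && Nat.beq (imgAt ty 23) 23 &&
    validPerm txy && mulOK tx ty txy &&
    powOne tx p && !(powOne tx 1) && powOne ty q && !(powOne ty 1) &&
    powOne txy r && !(powOne txy 1) && chainOK T prog c0 c1 c2 c3 c4 c5

theorem orderOf_tperm {E p : ℕ} (hp : p.Prime) (hv : validPerm E = true)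
    (h1 : powOne E p = true) (h2 : powOne E 1 = false) : orderOf (tperm E) = p := by
  have : Fact p.Prime := ⟨hp⟩
  apply orderOf_eq_prime ((powOne_iff hv p).mp h1)
  intro hone
  have h3 := (powOne_iff hv 1).mpr (by rw [pow_one]; exact hone)
  rw [h2] at h3
  exact Bool.false_ne_true h3

theorem triple_sound {p q r : ℕ} (hp : p.Prime) (hq : q.Prime) (hr : r.Prime) {T : List ℕ}
    {prog : List (ℕ × ℕ)} {c0 c1 c2 c3 c4 c5 : List ℕ}
    (h : tripleOK p q r T prog c0 c1 c2 c3 c4 c5 = true) :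
    ∃ x y z : Spor.M23, orderOf x = p ∧ orderOf y = q ∧ orderOf z = r ∧ x * y * z = 1 ∧
      Subgroup.closure {x, y} = ⊤ := by
  rw [tripleOK, forceNat_eq, forceNat_eq, forceNat_eq] at h
  simp only [Bool.and_eq_true, Bool.not_eq_true'] at h
  obtain ⟨⟨⟨⟨⟨⟨⟨⟨⟨⟨⟨⟨hMx, hx23⟩, hMy⟩, hy23⟩, hvxy⟩, hmul⟩, hxp⟩, hx1⟩, hyq⟩, hy1⟩, hzr⟩, hz1⟩,
    hchain⟩ := h
  have hMx' := isM24F_sound hMx
  have hMy' := isM24F_sound hMy
  have hvx := isM24_valid hMx'
  have hvy := isM24_valid hMy'
  have hnone : (none : GolayPt) = idxPt 23 := rfl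
  have hxM : tperm (T.getD 0 0) ∈ Spor.M23 := by
    rw [mem_M23]
    refine ⟨tperm_mem_M24 hMx', ?_⟩
    rw [hnone, tperm_idxPt hvx (by norm_num), Nat.eq_of_beq_eq_true hx23]
  have hyM : tperm (T.getD 1 0) ∈ Spor.M23 := by
    rw [mem_M23]
    refine ⟨tperm_mem_M24 hMy', ?_⟩
    rw [hnone, tperm_idxPt hvy (by norm_num), Nat.eq_of_beq_eq_true hy23]
  have hH : Subgroup.closure ({tperm (T.getD 0 0), tperm (T.getD 1 0)} : Set (Equiv.Perm GolayPt))
      = Spor.M23 := by
    apply Subgroup.eq_of_le_of_card_ge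
    · rw [Subgroup.closure_le]
      intro g hg
      rcases hg with rfl | rfl
      · exact hxM
      · exact hyM
    · rw [card_M23]
      exact card_ge_of_chainOK _ hchain
        ⟨hvx, Subgroup.subset_closure (Set.mem_insert _ _)⟩
        ⟨hvy, Subgroup.subset_closure (Set.mem_insert_of_mem _ rfl)⟩
  refine ⟨⟨_, hxM⟩, ⟨_, hyM⟩, (⟨_, hxM⟩ * ⟨_, hyM⟩)⁻¹, ?_, ?_, ?_, mul_inv_cancel _, ?_⟩
  · rw [← Subgroup.orderOf_coe]
    exact orderOf_tperm hp hvx hxp hx1
  · rw [← Subgroup.orderOf_coe]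
    exact orderOf_tperm hq hvy hyq hy1
  · rw [orderOf_inv, ← Subgroup.orderOf_coe]
    show orderOf (tperm (T.getD 0 0) * tperm (T.getD 1 0)) = r
    rw [tperm_mul_of_mulOK hvx hvy hvxy hmul]
    exact orderOf_tperm hr hvxy hzr hz1
  · apply Subgroup.map_injective (Subgroup.subtype_injective Spor.M23)
    rw [MonoidHom.map_closure, ← MonoidHom.range_eq_map, Subgroup.range_subtype, Set.image_pair]
    exact hH

/-! ### Rank bounds for the elements of `M23` -/

theorem fixed_none_card {g : Equiv.Perm GolayPt} (hg : g ∈ Spor.M23) :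
    1 ≤ (Finset.univ.filter fun ω => g ω = ω).card :=
  Finset.card_pos.mpr ⟨none, Finset.mem_filter.mpr ⟨Finset.mem_univ _, (mem_M23.mp hg).2⟩⟩

theorem fixed_card_order2 {g : Equiv.Perm GolayPt} (hg : g ∈ Spor.M23) (h2 : orderOf g = 2) :
    8 ≤ (Finset.univ.filter fun ω => g ω = ω).card := by
  have h1 := fixed_none_card hg
  obtain ⟨X, hX, c, hc, rfl⟩ := order2_class g (mem_M23.mp hg).1 h2
  obtain ⟨-, -, hv2A, hv2B, -, -, -, -, -, -, hf2A, hf2B⟩ := repsElts_ok
  rw [card_fixed_conj] at h1 ⊢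
  simp only [List.mem_cons, List.not_mem_nil, or_false] at hX
  rcases hX with rfl | rfl
  · rw [card_fixed_tperm hv2A, hf2A]
  · rw [card_fixed_tperm hv2B, hf2B] at h1
    omega

theorem fixed_card_order3 {g : Equiv.Perm GolayPt} (hg : g ∈ Spor.M23) (h3 : orderOf g = 3) :
    6 ≤ (Finset.univ.filter fun ω => g ω = ω).card := by
  have h1 := fixed_none_card hg
  obtain ⟨X, hX, c, hc, rfl⟩ := order3_class g (mem_M23.mp hg).1 h3
  obtain ⟨hv3A, hv3B, -, -, -, -, -, -, hf3A, hf3B, -, -⟩ := repsElts_ok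
  rw [card_fixed_conj] at h1 ⊢
  simp only [List.mem_cons, List.not_mem_nil, or_false] at hX
  rcases hX with rfl | rfl
  · rw [card_fixed_tperm hv3A, hf3A]
  · rw [card_fixed_tperm hv3B, hf3B] at h1
    omega

theorem fixed_card_order5 {g : Equiv.Perm GolayPt} (h5 : orderOf g = 5) :
    4 ≤ (Finset.univ.filter fun ω => g ω = ω).card := by
  have : Fact (Nat.Prime 5) := ⟨by norm_num⟩
  have h1 : g ^ 5 ^ 1 = 1 := by rw [pow_one, ← h5]; exact pow_orderOf_eq_one g
  have h2 := Equiv.Perm.card_compl_support_modEq h1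
  have h3 : (Finset.univ.filter fun ω => g ω = ω) = g.supportᶜ := by
    ext ω
    simp [Equiv.Perm.mem_support]
  rw [h3]
  rw [card_golayPt] at h2
  unfold Nat.ModEq at h2
  omega

theorem prank_le_of_order2 {g : Equiv.Perm GolayPt} (hg : g ∈ Spor.M23) (h : orderOf g = 2) :
    prank g ≤ 8 := by
  have h1 := prank_bound g 8 (fixed_card_order2 hg h)
  rw [h, card_golayPt] at h1
  omega

theorem prank_le_of_order3 {g : Equiv.Perm GolayPt} (hg : g ∈ Spor.M23) (h : orderOf g = 3) :
    prank g ≤ 12 := by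
  have h1 := prank_bound g 6 (fixed_card_order3 hg h)
  rw [h, card_golayPt] at h1
  omega

theorem prank_le_of_order5 {g : Equiv.Perm GolayPt} (h : orderOf g = 5) : prank g ≤ 16 := by
  have h1 := prank_bound g 4 (fixed_card_order5 h)
  rw [h, card_golayPt] at h1
  omega

theorem prank_general {g : Equiv.Perm GolayPt} (hg : g ∈ Spor.M23) (h : 1 ≤ orderOf g) :
    orderOf g * prank g + 23 ≤ 23 * orderOf g := by
  have h1 := prank_bound g 1 (fixed_none_card hg)
  rw [card_golayPt] at h1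
  omega

theorem prank_le_22 {g : Equiv.Perm GolayPt} (hg : g ∈ Spor.M23) (h : 1 ≤ orderOf g) :
    prank g ≤ 22 := by
  have h1 := prank_general hg h
  by_contra hcon
  have h2 : orderOf g * 23 ≤ orderOf g * prank g := Nat.mul_le_mul_left _ (by omega)
  omega

theorem prank_le_19 {g : Equiv.Perm GolayPt} (hg : g ∈ Spor.M23) (h : 1 ≤ orderOf g)
    (h7 : orderOf g ≤ 7) : prank g ≤ 19 := by
  have h1 := prank_general hg h
  by_contra hcon
  have h2 : orderOf g * 20 ≤ orderOf g * prank g := Nat.mul_le_mul_left _ (by omega)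
  omega

/-- Ree's inequality for generating triples of `M23`. -/
theorem ree_M23 (x y z : Spor.M23) (hxyz : x * y * z = 1)
    (hgen : Subgroup.closure ({x, y} : Set Spor.M23) = ⊤) :
    44 ≤ prank (x : Equiv.Perm GolayPt) + prank (y : Equiv.Perm GolayPt)
      + prank (z : Equiv.Perm GolayPt) := by
  have hcl : Subgroup.closure ({(x : Equiv.Perm GolayPt), (y : Equiv.Perm GolayPt)} :
      Set (Equiv.Perm GolayPt)) = Spor.M23 := by
    have h1 := congrArg (Subgroup.map Spor.M23.subtype) hgen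
    rw [MonoidHom.map_closure, ← MonoidHom.range_eq_map, Subgroup.range_subtype,
      Set.image_pair] at h1
    exact h1
  have hprod : (x : Equiv.Perm GolayPt) * (y : Equiv.Perm GolayPt) * (z : Equiv.Perm GolayPt)
      = 1 := by
    have := congrArg (Subtype.val) hxyz
    exact this
  have h0 : idxPt 0 ≠ (none : GolayPt) := by decide
  have h := ree_bound (x : Equiv.Perm GolayPt) y z hprod {none, idxPt 0} (by
    intro ω
    by_cases hω : ω = none
    · exact ⟨none, by simp, 1, one_mem _, by rw [hω]; rfl⟩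
    · have h1 : ω ∈ Cfsg.Agent.Lib.helper33.orbFin Spor.M23 (idxPt 0) := by
        rw [orbFin_M23 h0]
        exact Finset.mem_erase.mpr ⟨hω, Finset.mem_univ _⟩
      obtain ⟨g, hg, hgω⟩ := mem_orbFin.mp h1
      exact ⟨idxPt 0, by simp, g, by rw [hcl]; exact hg, hgω⟩)
  rw [card_golayPt] at h
  have hc : ({none, idxPt 0} : Finset GolayPt).card ≤ 2 := Finset.card_le_two
  omega

end Cfsg.Agent.Lib.helper94
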