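/-
Orbit decompositions of families of objects under stabilisers in `M24`: a generic statement
`Decomp`, its transport along elements of `M24`, and its derivation from class certificates.
-/
import Mathlib
import Cfsg.Prelude.Def_Sporadic_a
import Cfsg.Agent.Lib.helper94.M24Class

set_option autoImplicit false
set_option linter.unusedSectionVars false

namespace Cfsg.Agent.Lib.helper94

open Cfsg
open scoped Pointwise

section decomp

variable {α β : Type*} [MulAction (Equiv.Perm GolayPt) α] [MulAction (Equiv.Perm GolayPt) β]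

/-- The stabiliser of `A` in `M24`, as a subgroup of the symmetric group. -/
def stabP (A : α) : Subgroup (Equiv.Perm GolayPt) :=
  M24 ⊓ MulAction.stabilizer (Equiv.Perm GolayPt) A

theorem mem_stabP {A : α} {g : Equiv.Perm GolayPt} : g ∈ stabP A ↔ g ∈ M24 ∧ g • A = A := by
  rw [stabP, Subgroup.mem_inf]
  exact and_congr Iff.rfl MulAction.mem_stabilizer_iff

theorem mem_orbit_stab (A : α) (X Y : β) :
    Y ∈ MulAction.orbit ↥(MulAction.stabilizer ↥M24 A) X ↔ ∃ h ∈ stabP A, h • X = Y := by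
  constructor
  · rintro ⟨⟨⟨g, hg⟩, hk⟩, rfl⟩
    exact ⟨g, mem_stabP.mpr ⟨hg, MulAction.mem_stabilizer_iff.mp hk⟩, rfl⟩
  · rintro ⟨h, hh, rfl⟩
    obtain ⟨h1, h2⟩ := mem_stabP.mp hh
    exact ⟨⟨⟨h, h1⟩, MulAction.mem_stabilizer_iff.mpr h2⟩, rfl⟩

theorem orbit_stab_smul {g : Equiv.Perm GolayPt} (hg : g ∈ M24) (A : α) (X : β) :
    MulAction.orbit ↥(MulAction.stabilizer ↥M24 (g • A)) (g • X) =
      (fun Y => g • Y) '' MulAction.orbit ↥(MulAction.stabilizer ↥M24 A) X := by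
  ext Y
  rw [mem_orbit_stab, Set.mem_image]
  constructor
  · rintro ⟨h, hh, rfl⟩
    obtain ⟨h1, h2⟩ := mem_stabP.mp hh
    refine ⟨(g⁻¹ * h * g) • X, (mem_orbit_stab A X _).mpr ⟨g⁻¹ * h * g, mem_stabP.mpr ⟨?_, ?_⟩, rfl⟩, ?_⟩
    · exact M24.mul_mem (M24.mul_mem (M24.inv_mem hg) h1) hg
    · rw [mul_smul, mul_smul, h2, inv_smul_smul]
    · simp only [mul_smul, smul_inv_smul]
  · rintro ⟨Z, hZ, rfl⟩
    obtain ⟨h, hh, rfl⟩ := (mem_orbit_stab A X Z).mp hZ
    obtain ⟨h1, h2⟩ := mem_stabP.mp hh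
    refine ⟨g * h * g⁻¹, mem_stabP.mpr ⟨?_, ?_⟩, ?_⟩
    · exact M24.mul_mem (M24.mul_mem hg h1) (M24.inv_mem hg)
    · rw [mul_smul, mul_smul, inv_smul_smul, h2]
    · simp only [mul_smul, inv_smul_smul]

/-- The family `objs` is the union of orbits of the stabiliser of `A` in `M24`, of sizes `ns`. -/
def Decomp (A : α) (objs : Set β) (ns : List ℕ) : Prop :=
  ∃ Xs : List β,
    List.Forall₂ (fun X n => X ∈ objs ∧
      (MulAction.orbit ↥(MulAction.stabilizer ↥M24 A) X).ncard = n) Xs ns ∧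
    ∀ T, T ∈ objs ↔ ∃ X ∈ Xs, T ∈ MulAction.orbit ↥(MulAction.stabilizer ↥M24 A) X

theorem Decomp.smul {A : α} {objs : Set β} {ns : List ℕ} (h : Decomp A objs ns)
    {g : Equiv.Perm GolayPt} (hg : g ∈ M24) (hobjs : ∀ g ∈ M24, ∀ T ∈ objs, g • T ∈ objs) :
    Decomp (g • A) objs ns := by
  obtain ⟨Xs, hf, hcov⟩ := h
  refine ⟨Xs.map (fun X => g • X), ?_, ?_⟩
  · rw [List.forall₂_map_left_iff]
    refine hf.imp ?_
    rintro X n ⟨hX, hn⟩
    refine ⟨hobjs g hg X hX, ?_⟩
    rw [orbit_stab_smul hg, Set.ncard_image_of_injective _ (MulAction.injective g), hn]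
  · intro T
    have h1 : T ∈ objs ↔ g⁻¹ • T ∈ objs := by
      constructor
      · intro hT; exact hobjs _ (M24.inv_mem hg) T hT
      · intro hT
        have := hobjs g hg _ hT
        rwa [smul_inv_smul] at this
    rw [h1, hcov]
    simp only [List.mem_map, exists_exists_and_eq_and]
    apply exists_congr
    intro X
    apply and_congr_right
    intro _
    rw [orbit_stab_smul hg, Set.mem_image]
    constructor
    · intro hT; exact ⟨_, hT, smul_inv_smul g T⟩
    · rintro ⟨Z, hZ, rfl⟩; rwa [inv_smul_smul]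

theorem Decomp.three {A : α} {objs : Set β} {n₁ n₂ n₃ : ℕ} (h : Decomp A objs [n₁, n₂, n₃]) :
    ∃ X₁ ∈ objs, ∃ X₂ ∈ objs, ∃ X₃ ∈ objs,
      (MulAction.orbit ↥(MulAction.stabilizer ↥M24 A) X₁).ncard = n₁ ∧
      (MulAction.orbit ↥(MulAction.stabilizer ↥M24 A) X₂).ncard = n₂ ∧
      (MulAction.orbit ↥(MulAction.stabilizer ↥M24 A) X₃).ncard = n₃ ∧
      objs = MulAction.orbit ↥(MulAction.stabilizer ↥M24 A) X₁ ∪
        MulAction.orbit ↥(MulAction.stabilizer ↥M24 A) X₂ ∪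
        MulAction.orbit ↥(MulAction.stabilizer ↥M24 A) X₃ := by
  obtain ⟨Xs, hf, hcov⟩ := h
  rw [List.forall₂_cons_right_iff] at hf
  obtain ⟨X₁, Xs, h1, hf, rfl⟩ := hf
  rw [List.forall₂_cons_right_iff] at hf
  obtain ⟨X₂, Xs, h2, hf, rfl⟩ := hf
  rw [List.forall₂_cons_right_iff] at hf
  obtain ⟨X₃, Xs, h3, hf, rfl⟩ := hf
  rw [List.forall₂_nil_right_iff] at hf
  subst hf
  refine ⟨X₁, h1.1, X₂, h2.1, X₃, h3.1, h1.2, h2.2, h3.2, ?_⟩
  ext T
  rw [hcov]
  simp only [List.mem_cons, List.not_mem_nil, or_false, Set.mem_union]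
  constructor
  · rintro ⟨X, (rfl | rfl | rfl), hX⟩
    · exact Or.inl (Or.inl hX)
    · exact Or.inl (Or.inr hX)
    · exact Or.inr hX
  · rintro ((h | h) | h)
    · exact ⟨X₁, Or.inl rfl, h⟩
    · exact ⟨X₂, Or.inr (Or.inl rfl), h⟩
    · exact ⟨X₃, Or.inr (Or.inr rfl), h⟩

theorem Decomp.four {A : α} {objs : Set β} {n₁ n₂ n₃ n₄ : ℕ} (h : Decomp A objs [n₁, n₂, n₃, n₄]) :
    ∃ X₁ ∈ objs, ∃ X₂ ∈ objs, ∃ X₃ ∈ objs, ∃ X₄ ∈ objs,
      (MulAction.orbit ↥(MulAction.stabilizer ↥M24 A) X₁).ncard = n₁ ∧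
      (MulAction.orbit ↥(MulAction.stabilizer ↥M24 A) X₂).ncard = n₂ ∧
      (MulAction.orbit ↥(MulAction.stabilizer ↥M24 A) X₃).ncard = n₃ ∧
      (MulAction.orbit ↥(MulAction.stabilizer ↥M24 A) X₄).ncard = n₄ ∧
      objs = MulAction.orbit ↥(MulAction.stabilizer ↥M24 A) X₁ ∪
        MulAction.orbit ↥(MulAction.stabilizer ↥M24 A) X₂ ∪
        MulAction.orbit ↥(MulAction.stabilizer ↥M24 A) X₃ ∪
        MulAction.orbit ↥(MulAction.stabilizer ↥M24 A) X₄ := by
  obtain ⟨Xs, hf, hcov⟩ := h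
  rw [List.forall₂_cons_right_iff] at hf
  obtain ⟨X₁, Xs, h1, hf, rfl⟩ := hf
  rw [List.forall₂_cons_right_iff] at hf
  obtain ⟨X₂, Xs, h2, hf, rfl⟩ := hf
  rw [List.forall₂_cons_right_iff] at hf
  obtain ⟨X₃, Xs, h3, hf, rfl⟩ := hf
  rw [List.forall₂_cons_right_iff] at hf
  obtain ⟨X₄, Xs, h4, hf, rfl⟩ := hf
  rw [List.forall₂_nil_right_iff] at hf
  subst hf
  refine ⟨X₁, h1.1, X₂, h2.1, X₃, h3.1, X₄, h4.1, h1.2, h2.2, h3.2, h4.2, ?_⟩
  ext T
  rw [hcov]
  simp only [List.mem_cons, List.not_mem_nil, or_false, Set.mem_union]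
  constructor
  · rintro ⟨X, (rfl | rfl | rfl | rfl), hX⟩
    · exact Or.inl (Or.inl (Or.inl hX))
    · exact Or.inl (Or.inl (Or.inr hX))
    · exact Or.inl (Or.inr hX)
    · exact Or.inr hX
  · rintro (((h | h) | h) | h)
    · exact ⟨X₁, Or.inl rfl, h⟩
    · exact ⟨X₂, Or.inr (Or.inl rfl), h⟩
    · exact ⟨X₃, Or.inr (Or.inr (Or.inl rfl)), h⟩
    · exact ⟨X₄, Or.inr (Or.inr (Or.inr rfl)), h⟩

/-- A decomposition from a complete list, a class certificate and a separating invariant. -/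
theorem decomp_of_classes (A : α) (objs : Set β) (obj : ℕ → β) (N : ℕ)
    (hcomp : ∀ T ∈ objs, ∃ j < N, T = obj j) (hmem : ∀ j < N, obj j ∈ objs)
    (hinj : ∀ j < N, ∀ j' < N, obj j = obj j' → j = j')
    (hobjs : ∀ g ∈ M24, ∀ T ∈ objs, g • T ∈ objs)
    (inv : β → ℕ) (hinv : ∀ h ∈ stabP A, ∀ T, inv (h • T) = inv T)
    (invM : ℕ → ℕ) (hinvM : ∀ j < N, inv (obj j) = invM j)
    (rs : List ℕ) (hcert : ∀ j < N, ∃ r ∈ rs, ∃ h ∈ stabP A, h • obj r = obj j)
    (hrs : ∀ r ∈ rs, r < N) (hdist : ∀ r ∈ rs, ∀ r' ∈ rs, invM r = invM r' → r = r') :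
    Decomp A objs (rs.map fun r => cntBelow (fun j => Nat.beq (invM j) (invM r)) N) := by
  have hstab : ∀ h ∈ stabP A, ∀ T ∈ objs, h • T ∈ objs :=
    fun h hh T hT => hobjs h (mem_stabP.mp hh).1 T hT
  refine ⟨rs.map obj, ?_, ?_⟩
  · rw [List.forall₂_map_left_iff, List.forall₂_map_right_iff, List.forall₂_same]
    intro r hr
    refine ⟨hmem r (hrs r hr), ?_⟩
    have e : MulAction.orbit ↥(MulAction.stabilizer ↥M24 A) (obj r)
        = {T | ∃ h ∈ stabP A, h • obj r = T} := by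
      ext T; exact mem_orbit_stab A (obj r) T
    rw [e, classes_orbit objs obj N hcomp hmem (stabP A) hstab inv hinv invM hinvM rs hcert hrs
      hdist r hr]
    exact classes_ncard objs obj N hcomp hmem hinj inv invM hinvM (invM r)
  · intro T
    constructor
    · intro hT
      obtain ⟨r, hr, h, hh, heq⟩ := classes_cover objs obj N hcomp (stabP A) rs hcert T hT
      exact ⟨obj r, List.mem_map.mpr ⟨r, hr, rfl⟩, (mem_orbit_stab A (obj r) T).mpr ⟨h, hh, heq⟩⟩
    · rintro ⟨X, hX, hT⟩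
      obtain ⟨r, hr, rfl⟩ := List.mem_map.mp hX
      obtain ⟨h, hh, rfl⟩ := (mem_orbit_stab A (obj r) T).mp hT
      exact hstab h hh _ (hmem r (hrs r hr))

end decomp

/-- The `j`-th byte of a packed table. -/
def byteAt (T j : ℕ) : ℕ := Nat.land (Nat.shiftRight T (Nat.mul 8 j)) 255

/-- Boolean test: the roots are below `N` and have pairwise distinct invariants. -/
def rootsOK (INV N : ℕ) (rs : List ℕ) : Bool :=
  rs.all (fun r => Nat.blt r N) &&
    rs.all (fun r => rs.all (fun r' => !(Nat.beq (byteAt INV r) (byteAt INV r')) || Nat.beq r r'))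

theorem rootsOK_sound {INV N : ℕ} {rs : List ℕ} (h : rootsOK INV N rs = true) :
    (∀ r ∈ rs, r < N) ∧ ∀ r ∈ rs, ∀ r' ∈ rs, byteAt INV r = byteAt INV r' → r = r' := by
  rw [rootsOK, Bool.and_eq_true, List.all_eq_true, List.all_eq_true] at h
  refine ⟨fun r hr => by simpa [Nat.blt_eq] using h.1 r hr, ?_⟩
  intro r hr r' hr' heq
  have := List.all_eq_true.mp (h.2 r hr) r' hr'
  rw [Bool.or_eq_true] at this
  rcases this with h1 | h1
  · rw [heq, Nat.beq_refl] at h1; exact absurd h1 (by simp)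
  · exact Nat.eq_of_beq_eq_true h1

section wrappers

variable {α : Type*} [MulAction (Equiv.Perm GolayPt) α]

/-- Decomposition of a family of sets of sets given by a packed sorted list. -/
theorem decomp_sets (A : α) (R : List ℕ) (hR : R.Nodup) (hRlt : ∀ x ∈ R, x < 2 ^ 24)
    (hfix : ∀ h ∈ stabP A, h • objSetL R = objSetL R)
    (objs : Set (Finset (Finset GolayPt))) (w N X : ℕ) (hsorted : sortedCheck w N X = true)
    (hcomp : ∀ T ∈ objs, ∃ j < N, T = objS w X j) (hmem : ∀ j < N, objS w X j ∈ objs)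
    (hobjs : ∀ g ∈ M24, ∀ T ∈ objs, g • T ∈ objs)
    (ts : List ℕ) (hts : ∀ t ∈ ts, validPerm t = true ∧ tperm t ∈ stabP A) (P Q : ℕ) (rs : List ℕ)
    (hchk : classCheck w N X ts P Q rs = true) (INV : ℕ)
    (hINV : allBelow (fun j => Nat.beq (invAt R w X j) (byteAt INV j)) N = true)
    (hroots : rootsOK INV N rs = true) :
    Decomp A objs (rs.map fun r => cntBelow (fun j => Nat.beq (byteAt INV j) (byteAt INV r)) N) := by
  obtain ⟨hrs, hdist⟩ := rootsOK_sound hroots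
  apply decomp_of_classes A objs (fun j => objS w X j) N hcomp hmem (sorted_inj hsorted) hobjs
    (fun T => pairInv (objSetL R) T)
    (fun h hh T => pairInv_of_smul_left (hfix h hh) T) (byteAt INV)
    (fun j hj => by
      rw [invAt_eq hR hRlt hsorted j hj]
      exact Nat.eq_of_beq_eq_true ((allBelow_iff _ _).mp hINV j hj))
    rs
    (fun j hj => (class_sound w N X ts P Q rs (stabP A) hts
      (fun r hr => sorted_card hsorted r (hrs r hr)) hchk j hj).2)
    hrs hdist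

/-- Decomposition of a family of sets given by a packed sorted list of masks. -/
theorem decomp_pts (A : α) (R : List ℕ) (hR : R.Nodup) (hRlt : ∀ x ∈ R, x < 2 ^ 24)
    (hfix : ∀ h ∈ stabP A, h • objSetL R = objSetL R)
    (objs : Set (Finset GolayPt)) (N X : ℕ) (hsorted : sortedCheck 1 N X = true)
    (hcomp : ∀ T ∈ objs, ∃ j < N, T = setOf (fld X j)) (hmem : ∀ j < N, setOf (fld X j) ∈ objs)
    (hobjs : ∀ g ∈ M24, ∀ T ∈ objs, g • T ∈ objs)
    (ts : List ℕ) (hts : ∀ t ∈ ts, validPerm t = true ∧ tperm t ∈ stabP A) (P : ℕ) (rs : List ℕ)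
    (hchk : classCheck 1 N X ts P 0 rs = true) (INV : ℕ)
    (hINV : allBelow (fun j => Nat.beq (invAt R 1 X j) (byteAt INV j)) N = true)
    (hroots : rootsOK INV N rs = true) :
    Decomp A objs (rs.map fun r => cntBelow (fun j => Nat.beq (byteAt INV j) (byteAt INV r)) N) := by
  obtain ⟨hrs, hdist⟩ := rootsOK_sound hroots
  apply decomp_of_classes A objs (fun j => setOf (fld X j)) N hcomp hmem
    (fun j hj j' hj' h => sorted_inj hsorted j hj j' hj' (by rw [objS_one, objS_one, h])) hobjs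
    (fun o => pairInv (objSetL R) {o})
    (fun h hh o => by
      have := pairInv_of_smul_left (hfix h hh) ({o} : Finset (Finset GolayPt))
      rwa [Finset.smul_finset_singleton] at this)
    (byteAt INV)
    (fun j hj => by
      rw [← objS_one, invAt_eq hR hRlt hsorted j hj]
      exact Nat.eq_of_beq_eq_true ((allBelow_iff _ _).mp hINV j hj))
    rs
    (fun j hj => by
      obtain ⟨r, hr, h, hh, heq⟩ := (class_sound 1 N X ts P 0 rs (stabP A) hts
        (fun r hr => sorted_card hsorted r (hrs r hr)) hchk j hj).2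
      rw [objS_one, objS_one] at heq
      exact ⟨r, hr, h, hh, smul_singleton_eq heq⟩)
    hrs hdist

end wrappers

/-- Bounded existential quantifier. -/
def anyBelow (f : ℕ → Bool) : ℕ → Bool
  | 0 => false
  | n + 1 => f n || anyBelow f n

theorem anyBelow_iff (f : ℕ → Bool) (n : ℕ) : anyBelow f n = true ↔ ∃ j < n, f j = true := by
  induction n with
  | zero => simp [anyBelow]
  | succ n ih =>
    rw [anyBelow, Bool.or_eq_true, ih]
    constructor
    · rintro (h | ⟨j, hj, h⟩)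
      · exact ⟨n, Nat.lt_succ_self n, h⟩
      · exact ⟨j, Nat.lt_succ_of_lt hj, h⟩
    · rintro ⟨j, hj, h⟩
      rcases Nat.lt_succ_iff_lt_or_eq.mp hj with h' | rfl
      · exact Or.inr ⟨j, h', h⟩
      · exact Or.inl h

/-- Tables in `M24` fixing the set of a mask generate a subgroup of its stabiliser. -/
theorem stab_gens_pt {ts : List ℕ} {m : ℕ}
    (h : ts.all (fun t => isM24 t && Nat.beq (applyP t 1 m) m) = true) :
    ∀ t ∈ ts, validPerm t = true ∧ tperm t ∈ stabP (setOf m) := by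
  intro t ht
  have := List.all_eq_true.mp h t ht
  rw [Bool.and_eq_true] at this
  exact ⟨isM24_valid this.1,
    mem_stabP.mpr ⟨tperm_mem_M24 this.1, smul_setOf_eq_of (isM24_valid this.1) this.2⟩⟩

/-- Tables in `M24` fixing the family of a list of masks generate a subgroup of its stabiliser. -/
theorem stab_gens_set {ts : List ℕ} {l : List ℕ}
    (h : ts.all (fun t => isM24 t && seteq (l.map (applyP t 1)) l) = true) :
    ∀ t ∈ ts, validPerm t = true ∧ tperm t ∈ stabP (objSetL l) := by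
  intro t ht
  have := List.all_eq_true.mp h t ht
  rw [Bool.and_eq_true] at this
  exact ⟨isM24_valid this.1,
    mem_stabP.mpr ⟨tperm_mem_M24 this.1, smul_objSetL_eq_of (isM24_valid this.1) this.2⟩⟩

theorem stabP_fix_set {l : List ℕ} : ∀ h ∈ stabP (objSetL l), h • objSetL l = objSetL l :=
  fun _ hh => (mem_stabP.mp hh).2

theorem stabP_fix_pt {m : ℕ} : ∀ h ∈ stabP (setOf m), h • objSetL [m] = objSetL [m] := by
  intro h hh
  have e : objSetL [m] = {setOf m} := by simp [objSetL]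
  rw [e, Finset.smul_finset_singleton, (mem_stabP.mp hh).2]

end Cfsg.Agent.Lib.helper94
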