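/-
Numbers of octads, dodecads, sextets and trios fixed by the elements of order 2 and 3 of `M24`.
-/
import Mathlib
import Cfsg.Prelude.Def_Sporadic_a
import Cfsg.Agent.Lib.helper94.M24Elts
import Cfsg.Agent.Lib.helper94.M24Octads
import Cfsg.Agent.Lib.helper94.M24Sextets
import Cfsg.Agent.Lib.helper94.M24Trios

set_option autoImplicit false
set_option maxRecDepth 100000

namespace Cfsg.Agent.Lib.helper94

open Cfsg
open scoped Pointwise

/-- Number of fixed sets of a table in a packed list of masks. -/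
def fixCntPts (N X t : ℕ) : ℕ :=
  forceNat (applyP t (onesN N) X) fun Y => cntBelow (fun j => Nat.beq (fld Y j) (fld X j)) N

/-- Number of fixed objects of a table in a packed list of sets of masks. -/
def fixCntSets (w N X t : ℕ) : ℕ :=
  forceNat (applyP t (onesN (Nat.mul w N)) X) fun Y => cntBelow (fixAt w X Y) N

theorem fixed_octads {t : ℕ} (hv : validPerm t = true) :
    {o : Finset GolayPt | o ∈ octads ∧ tperm t • o = o}.ncard = fixCntPts 759 OCT t :=
  ncard_fixed_pts octads 759 OCT oct_sorted oct_complete oct_mem hv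

theorem fixed_dodecads {t : ℕ} (hv : validPerm t = true) :
    {o : Finset GolayPt | o ∈ dodecads ∧ tperm t • o = o}.ncard = fixCntPts 2576 DOD t :=
  ncard_fixed_pts dodecads 2576 DOD dod_sorted dod_complete dod_mem hv

theorem fixed_sextets {t : ℕ} (hv : validPerm t = true) :
    {S : Finset (Finset GolayPt) | S ∈ sextets ∧ tperm t • S = S}.ncard
      = fixCntSets 6 1771 SEX t :=
  ncard_fixed_sets sextets 6 1771 SEX sex_sorted sex_complete sex_mem hv

theorem fixed_trios {t : ℕ} (hv : validPerm t = true) :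
    {T : Finset (Finset GolayPt) | T ∈ trios ∧ tperm t • T = T}.ncard
      = fixCntSets 3 3795 TRI t :=
  ncard_fixed_sets trios 3 3795 TRI tri_sorted tri_complete tri_mem hv

theorem fixed_octads_conj (c x : Equiv.Perm GolayPt) (hc : c ∈ M24) :
    {o : Finset GolayPt | o ∈ octads ∧ (c * x * c⁻¹) • o = o}.ncard
      = {o : Finset GolayPt | o ∈ octads ∧ x • o = o}.ncard :=
  ncard_fixed_conj octads (fun _ hg _ hT => smul_mem_octads hg hT) c x hc

theorem fixed_dodecads_conj (c x : Equiv.Perm GolayPt) (hc : c ∈ M24) :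
    {o : Finset GolayPt | o ∈ dodecads ∧ (c * x * c⁻¹) • o = o}.ncard
      = {o : Finset GolayPt | o ∈ dodecads ∧ x • o = o}.ncard :=
  ncard_fixed_conj dodecads (fun _ hg _ hT => smul_mem_dodecads hg hT) c x hc

theorem fixed_sextets_conj (c x : Equiv.Perm GolayPt) (hc : c ∈ M24) :
    {S : Finset (Finset GolayPt) | S ∈ sextets ∧ (c * x * c⁻¹) • S = S}.ncard
      = {S : Finset (Finset GolayPt) | S ∈ sextets ∧ x • S = S}.ncard :=
  ncard_fixed_conj sextets (fun _ hg _ hT => smul_mem_sextets hg hT) c x hc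

theorem fixed_trios_conj (c x : Equiv.Perm GolayPt) (hc : c ∈ M24) :
    {T : Finset (Finset GolayPt) | T ∈ trios ∧ (c * x * c⁻¹) • T = T}.ncard
      = {T : Finset (Finset GolayPt) | T ∈ trios ∧ x • T = T}.ncard :=
  ncard_fixed_conj trios (fun _ hg _ hT => smul_mem_trios hg hT) c x hc

theorem counts3A : fixCntPts 759 OCT X3A = 21 ∧ fixCntPts 2576 DOD X3A = 20 ∧
    fixCntSets 6 1771 SEX X3A = 16 ∧ fixCntSets 3 3795 TRI X3A = 15 := by
  decide +kernel

theorem counts3B : fixCntPts 759 OCT X3B = 0 ∧ fixCntPts 2576 DOD X3B = 14 ∧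
    fixCntSets 6 1771 SEX X3B = 7 ∧ fixCntSets 3 3795 TRI X3B = 15 := by
  decide +kernel

theorem counts2A : fixCntPts 759 OCT X2A = 71 ∧ fixCntPts 2576 DOD X2A = 112 ∧
    fixCntSets 6 1771 SEX X2A = 91 ∧ fixCntSets 3 3795 TRI X2A = 99 := by
  decide +kernel

theorem counts2B : fixCntPts 759 OCT X2B = 15 ∧ fixCntPts 2576 DOD X2B = 32 ∧
    fixCntSets 6 1771 SEX X2B = 51 ∧ fixCntSets 3 3795 TRI X2B = 75 := by
  decide +kernel

end Cfsg.Agent.Lib.helper94
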