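/-
Orbits described by invariants: objects of a certified list with equal invariants are conjugate;
the number of tetrads (or other members) of a set of sets meeting a given set of points.
-/
import Mathlib
import Cfsg.Prelude.Def_Sporadic_a
import Cfsg.Agent.Lib.helper94.M24Class

set_option autoImplicit false
set_option linter.unusedSectionVars false

namespace Cfsg.Agent.Lib.helper94

open Cfsg
open scoped Pointwise

section classes

variable {β : Type*} [MulAction (Equiv.Perm GolayPt) β]

/-- Two objects of a certified list with the same invariant are conjugate. -/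
theorem classes_same (objs : Set β) (obj : ℕ → β) (N : ℕ)
    (hcomp : ∀ T ∈ objs, ∃ j < N, T = obj j)
    (H : Subgroup (Equiv.Perm GolayPt))
    (inv : β → ℕ) (hinv : ∀ h ∈ H, ∀ T, inv (h • T) = inv T)
    (invM : ℕ → ℕ) (hinvM : ∀ j < N, inv (obj j) = invM j)
    (rs : List ℕ) (hcert : ∀ j < N, ∃ r ∈ rs, ∃ h ∈ H, h • obj r = obj j)
    (hrs : ∀ r ∈ rs, r < N) (hdist : ∀ r ∈ rs, ∀ r' ∈ rs, invM r = invM r' → r = r')
    (T T' : β) (hT : T ∈ objs) (hT' : T' ∈ objs) (h : inv T = inv T') :
    ∃ g ∈ H, g • T = T' := by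
  obtain ⟨j, hj, rfl⟩ := hcomp T hT
  obtain ⟨j', hj', rfl⟩ := hcomp T' hT'
  obtain ⟨r, hr, h₁, hh₁, e₁⟩ := hcert j hj
  obtain ⟨r', hr', h₂, hh₂, e₂⟩ := hcert j' hj'
  have hrr : r = r' := by
    apply hdist r hr r' hr'
    calc invM r = inv (obj r) := (hinvM r (hrs r hr)).symm
      _ = inv (h₁ • obj r) := (hinv h₁ hh₁ _).symm
      _ = inv (obj j) := by rw [e₁]
      _ = inv (obj j') := h
      _ = inv (h₂ • obj r') := by rw [e₂]
      _ = inv (obj r') := hinv h₂ hh₂ _
      _ = invM r' := hinvM r' (hrs r' hr')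
  subst hrr
  refine ⟨h₂ * h₁⁻¹, H.mul_mem hh₂ (H.inv_mem hh₁), ?_⟩
  rw [← e₁, mul_smul, inv_smul_smul, e₂]

end classes

/-- The number of members of a set of sets meeting `Y`. -/
def meetInv (Y : Finset GolayPt) (S : Finset (Finset GolayPt)) : ℕ :=
  (S.filter fun t => (t ∩ Y).Nonempty).card

theorem meetInv_smul (k : Equiv.Perm GolayPt) (Y : Finset GolayPt) (S : Finset (Finset GolayPt)) :
    meetInv (k • Y) (k • S) = meetInv Y S := by
  have hS : k • S = S.image (fun a => k • a) := rfl
  have hinj : Function.Injective (fun a : Finset GolayPt => k • a) := MulAction.injective k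
  rw [meetInv, meetInv, hS, Finset.filter_image, Finset.card_image_of_injective _ hinj]
  congr 1
  apply Finset.filter_congr
  intro t _
  rw [← Finset.smul_finset_inter, Finset.smul_finset_nonempty]

/-- The number of masks of a list meeting a mask. -/
def meetCnt (y : ℕ) (l : List ℕ) : ℕ := (l.filter fun m => !(Nat.beq (Nat.land m y) 0)).length

theorem meetInv_objSetL (y : ℕ) (l : List ℕ) (hl : l.Nodup) (hlt : ∀ x ∈ l, x < 2 ^ 24) :
    meetInv (setOf y) (objSetL l) = meetCnt y l := by
  have hyp : ∀ x ∈ l, ((setOf x ∩ setOf y).Nonempty ↔ (!(Nat.beq (Nat.land x y) 0)) = true) := by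
    intro x hx
    rw [← setOf_and, ← Finset.card_pos, card_setOf]
    have hlt' : x &&& y < 2 ^ 24 := lt_of_le_of_lt Nat.and_le_left (hlt x hx)
    constructor
    · intro hpos
      cases hb : Nat.beq (Nat.land x y) 0
      · rfl
      · have h0 : x &&& y = 0 := Nat.eq_of_beq_eq_true hb
        rw [h0] at hpos
        have : popc 0 = 0 := by decide
        omega
    · intro hb
      by_contra hcon
      have h0 : (setOf (x &&& y)).card = 0 := by rw [card_setOf]; omega
      rw [Finset.card_eq_zero, ← setOf_zero] at h0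
      have := setOf_injOn hlt' (by norm_num) h0
      have hb' : Nat.beq (Nat.land x y) 0 = true := by
        show Nat.beq (x &&& y) 0 = true
        rw [this]
        rfl
      rw [hb'] at hb
      exact absurd hb (by decide)
  have e : (objSetL l).filter (fun t => (t ∩ setOf y).Nonempty)
      = ((l.filter fun m => !(Nat.beq (Nat.land m y) 0)).map setOf).toFinset := by
    ext s
    simp only [Finset.mem_filter, mem_objSetL, List.mem_toFinset, List.mem_map, List.mem_filter]
    constructor
    · rintro ⟨⟨x, hx, rfl⟩, hne⟩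
      exact ⟨x, ⟨hx, (hyp x hx).mp hne⟩, rfl⟩
    · rintro ⟨x, ⟨hx, hb⟩, rfl⟩
      exact ⟨⟨x, hx, rfl⟩, (hyp x hx).mpr hb⟩
  rw [meetInv, meetCnt, e, List.toFinset_card_of_nodup, List.length_map]
  apply List.Nodup.map_on _ (hl.filter _)
  intro a ha b hb hab
  exact setOf_injOn (hlt a (List.mem_of_mem_filter ha)) (hlt b (List.mem_of_mem_filter hb)) hab

end Cfsg.Agent.Lib.helper94
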