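import Mathlib
import Cfsg.Agent.Lib.helper85.McLDefs

/-!
# McLaughlin's theorem over `ZMod p` (S5075): piece LIFT (helper94)

If every transvection of `[V, K] / W0` lifts to a transvection of `V` in `K`, then
`[V, K] ⊓ C_V(K) = ⊥` and `[V, K] ⊔ C_V(K) = ⊤`.
-/

set_option autoImplicit false

open Cfsg.Agent.Lib.helper85.McL

namespace Cfsg.Agent.Lib.helper94.McL

universe u

variable {p : ℕ} [Fact p.Prime] {V : Type u} [AddCommGroup V] [Module (ZMod p) V]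

/-- `x ↦ x + φ x • c` is a transvection lying in `K` -/
def LTv (K : Subgroup (V ≃ₗ[ZMod p] V)) (c : V) (φ : Module.Dual (ZMod p) V) : Prop :=
  c ≠ 0 ∧ φ ≠ 0 ∧ φ c = 0 ∧ ∃ t ∈ K, ∀ x, t x = x + φ x • c

theorem h94_one_apply (x : V) : (1 : V ≃ₗ[ZMod p] V) x = x := rfl

theorem h94_smul_zero_of_one {c : V} {φ : Module.Dual (ZMod p) V} {t : V ≃ₗ[ZMod p] V}
    (ht : ∀ x, t x = x + φ x • c) (h1 : t = 1) (x : V) : φ x • c = 0 := by
  have h := ht x
  rw [h1, h94_one_apply] at h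
  have h2 : x + φ x • c = x + 0 := by rw [add_zero]; exact h.symm
  exact add_left_cancel h2

theorem h94_exists_ne {φ : Module.Dual (ZMod p) V} (h : φ ≠ 0) : ∃ x, φ x ≠ 0 := by
  by_contra hcon
  apply h
  ext x
  by_contra hx
  exact hcon ⟨x, hx⟩

theorem h94_rad_le_comm (K : Subgroup (V ≃ₗ[ZMod p] V)) : radSub K ≤ commSub K := fun _ h =>
  (Submodule.mem_inf.1 h).1

theorem h94_rad_le_fix (K : Subgroup (V ≃ₗ[ZMod p] V)) : radSub K ≤ fixSub K := fun _ h =>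
  (Submodule.mem_inf.1 h).2

theorem h94_sub_mem_comm {K : Subgroup (V ≃ₗ[ZMod p] V)} {k : V ≃ₗ[ZMod p] V} (hk : k ∈ K)
    (v : V) : k v - v ∈ commSub K :=
  Submodule.subset_span ⟨k, hk, v, rfl⟩

/-- two elements of `K` which agree on `[V, K]` modulo `W0` are equal -/
theorem h94_faith {K : Subgroup (V ≃ₗ[ZMod p] V)} (hf : Faithful K) {g h : V ≃ₗ[ZMod p] V}
    (hg : g ∈ K) (hh : h ∈ K) (hw : ∀ w ∈ commSub K, g w - h w ∈ radSub K) : g = h := by
  have hk : h⁻¹ * g = 1 := by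
    apply hf _ (K.mul_mem (K.inv_mem hh) hg)
    intro w hw'
    have hd := hw w hw'
    have hfix : h⁻¹ (g w - h w) = g w - h w :=
      (mem_fixSub.1 (h94_rad_le_fix K hd)) _ (K.inv_mem hh)
    have e : (h⁻¹ * g) w - w = g w - h w := by
      rw [LinearEquiv.mul_apply, ← hfix, map_sub]
      congr 1
      rw [← LinearEquiv.mul_apply, inv_mul_cancel, h94_one_apply]
    rw [e]
    exact hd
  exact (inv_mul_eq_one.1 hk).symm

theorem h94_pow {t : V ≃ₗ[ZMod p] V} {c : V} {φ : Module.Dual (ZMod p) V} (hc : φ c = 0)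
    (ht : ∀ x, t x = x + φ x • c) (n : ℕ) :
    ∀ x, (t ^ n) x = x + ((n : ZMod p) * φ x) • c := by
  induction n with
  | zero =>
    intro x
    rw [pow_zero, h94_one_apply, Nat.cast_zero, zero_mul, zero_smul, add_zero]
  | succ n ih =>
    intro x
    rw [pow_succ, LinearEquiv.mul_apply, ht x, map_add, map_smul, ih x, ih c, hc, mul_zero,
      zero_smul, add_zero, Nat.cast_succ, add_mul, one_mul, add_smul, add_assoc]

theorem h94_smul_right {K : Subgroup (V ≃ₗ[ZMod p] V)} {c : V} {φ : Module.Dual (ZMod p) V}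
    (h : LTv K c φ) {a : ZMod p} (ha : a ≠ 0) : LTv K c (a • φ) := by
  obtain ⟨hc0, hφ0, hφc, t, ht, hx⟩ := h
  have : NeZero p := ⟨(Fact.out : p.Prime).ne_zero⟩
  refine ⟨hc0, smul_ne_zero ha hφ0, ?_, t ^ a.val, K.pow_mem ht _, fun x => ?_⟩
  · rw [LinearMap.smul_apply, hφc, smul_zero]
  · rw [h94_pow hφc hx, ZMod.natCast_zmod_val, LinearMap.smul_apply, smul_eq_mul]

theorem h94_smul_left {K : Subgroup (V ≃ₗ[ZMod p] V)} {c : V} {φ : Module.Dual (ZMod p) V}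
    (h : LTv K c φ) {a : ZMod p} (ha : a ≠ 0) : LTv K (a • c) φ := by
  obtain ⟨hc0, hφ0, hφc, t, ht, hx⟩ := h
  have : NeZero p := ⟨(Fact.out : p.Prime).ne_zero⟩
  refine ⟨smul_ne_zero ha hc0, hφ0, ?_, t ^ a.val, K.pow_mem ht _, fun x => ?_⟩
  · rw [map_smul, hφc, smul_zero]
  · rw [h94_pow hφc hx, ZMod.natCast_zmod_val, mul_comm, mul_smul]

theorem h94_mem_comm {K : Subgroup (V ≃ₗ[ZMod p] V)} {c : V} {φ : Module.Dual (ZMod p) V}
    (h : LTv K c φ) : c ∈ commSub K := by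
  obtain ⟨_, hφ0, _, t, ht, hx⟩ := h
  obtain ⟨x, hne⟩ := h94_exists_ne hφ0
  have h1 : φ x • c ∈ commSub K := by
    have h2 := h94_sub_mem_comm ht x
    rw [hx x, add_sub_cancel_left] at h2
    exact h2
  have h3 := (commSub K).smul_mem (φ x)⁻¹ h1
  rw [inv_smul_smul₀ hne] at h3
  exact h3

theorem h94_fix {K : Subgroup (V ≃ₗ[ZMod p] V)} {c : V} {φ : Module.Dual (ZMod p) V}
    (h : LTv K c φ) {u : V} (hu : u ∈ fixSub K) : φ u = 0 := by
  obtain ⟨hc0, _, _, t, ht, hx⟩ := h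
  have h1 := (mem_fixSub.1 hu) t ht
  rw [hx u] at h1
  have h2 : u + φ u • c = u + 0 := by rw [add_zero]; exact h1
  have h3 := add_left_cancel h2
  rcases smul_eq_zero.1 h3 with h4 | h4
  · exact h4
  · exact absurd h4 hc0

theorem h94_rad {K : Subgroup (V ≃ₗ[ZMod p] V)} {c : V} {φ : Module.Dual (ZMod p) V}
    (h : LTv K c φ) {u : V} (hu : u ∈ radSub K) : φ u = 0 :=
  h94_fix h (h94_rad_le_fix K hu)

theorem h94_not_rad {K : Subgroup (V ≃ₗ[ZMod p] V)} (hf : Faithful K) {c : V}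
    {φ : Module.Dual (ZMod p) V} (h : LTv K c φ) : c ∉ radSub K := by
  obtain ⟨hc0, hφ0, _, t, ht, hx⟩ := h
  intro hc
  have h1 : t = 1 := by
    apply hf t ht
    intro w _
    rw [hx w, add_sub_cancel_left]
    exact (radSub K).smul_mem _ hc
  obtain ⟨x, hne⟩ := h94_exists_ne hφ0
  rcases smul_eq_zero.1 (h94_smul_zero_of_one hx h1 x) with h4 | h4
  · exact hne h4
  · exact hc0 h4

theorem h94_ne_on {K : Subgroup (V ≃ₗ[ZMod p] V)} (hf : Faithful K) {c : V}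
    {φ : Module.Dual (ZMod p) V} (h : LTv K c φ) : ∃ w ∈ commSub K, φ w ≠ 0 := by
  obtain ⟨hc0, hφ0, _, t, ht, hx⟩ := h
  by_contra hcon
  have hall : ∀ w ∈ commSub K, φ w = 0 := by
    intro w hw
    by_contra hne
    exact hcon ⟨w, hw, hne⟩
  have h1 : t = 1 := by
    apply hf t ht
    intro w hw
    rw [hx w, hall w hw, zero_smul, add_zero, sub_self]
    exact zero_mem _
  obtain ⟨x, hne⟩ := h94_exists_ne hφ0
  rcases smul_eq_zero.1 (h94_smul_zero_of_one hx h1 x) with h4 | h4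
  · exact hne h4
  · exact hc0 h4

/-- a transvection of `K` is determined by its centre modulo `W0` and its axis on `[V, K]` -/
theorem h94_uniq {K : Subgroup (V ≃ₗ[ZMod p] V)} (hf : Faithful K) {c c' : V}
    {φ φ' : Module.Dual (ZMod p) V} (h : LTv K c φ) (h' : LTv K c' φ')
    (hcc : c - c' ∈ radSub K) (hφ : ∀ w ∈ commSub K, φ w = φ' w) : c = c' ∧ φ = φ' := by
  have hnr' := h94_not_rad hf h'
  obtain ⟨hc0, hφ0, _, t, ht, hx⟩ := h
  obtain ⟨hc0', hφ0', _, t', ht', hx'⟩ := h'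
  have htt : t = t' := by
    apply h94_faith hf ht ht'
    intro w hw
    have e : t w - t' w = φ w • (c - c') := by
      rw [hx w, hx' w, ← hφ w hw, smul_sub]
      abel
    rw [e]
    exact (radSub K).smul_mem _ hcc
  have hall : ∀ x, φ x • c = φ' x • c' := by
    intro x
    have h1 := hx x
    rw [htt, hx' x] at h1
    exact (add_left_cancel h1).symm
  obtain ⟨x, hne⟩ := h94_exists_ne hφ0
  have hc : c = ((φ x)⁻¹ * φ' x) • c' := by
    rw [mul_smul, ← hall x, inv_smul_smul₀ hne]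
  have ha : (φ x)⁻¹ * φ' x = 1 := by
    by_contra hne1
    apply hnr'
    have h2 : c - c' = ((φ x)⁻¹ * φ' x - 1) • c' := by
      rw [sub_smul, one_smul, ← hc]
    rw [h2] at hcc
    have h3 := (radSub K).smul_mem ((φ x)⁻¹ * φ' x - 1)⁻¹ hcc
    rw [inv_smul_smul₀ (sub_ne_zero.2 hne1)] at h3
    exact h3
  rw [ha, one_smul] at hc
  refine ⟨hc, ?_⟩
  ext y
  have h4 := hall y
  rw [hc] at h4
  have h5 : (φ y - φ' y) • c' = 0 := by rw [sub_smul, h4, sub_self]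
  rcases smul_eq_zero.1 h5 with h6 | h6
  · exact sub_eq_zero.1 h6
  · exact absurd h6 hc0'

/-- the lifting property, with the lifted transvection as an `LTv` -/
theorem h94_lift {K : Subgroup (V ≃ₗ[ZMod p] V)} (hl : HasLift K) {w : V}
    (hw : w ∈ commSub K) (hw0 : w ∉ radSub K) (ξ : Module.Dual (ZMod p) V) (hξw : ξ w = 0)
    (hξ0 : ∀ u ∈ radSub K, ξ u = 0) (hξ : ∃ u ∈ commSub K, ξ u ≠ 0) :
    ∃ (c : V) (φ : Module.Dual (ZMod p) V), LTv K c φ ∧ c - w ∈ radSub K ∧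
      ∀ u ∈ commSub K, φ u = ξ u := by
  obtain ⟨c, φ, t, ht, hx, hcw, hφ⟩ := hl.2 w hw hw0 ξ hξw hξ0 hξ
  have hc : c ∈ commSub K := by
    have h1 := (commSub K).add_mem (h94_rad_le_comm K hcw) hw
    rw [sub_add_cancel] at h1
    exact h1
  refine ⟨c, φ, ⟨?_, ?_, ?_, t, ht, hx⟩, hcw, hφ⟩
  · rintro rfl
    apply hw0
    have h1 := (radSub K).neg_mem hcw
    rw [zero_sub, neg_neg] at h1
    exact h1
  · obtain ⟨u, hu, hne⟩ := hξ
    intro h0
    apply hne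
    rw [← hφ u hu, h0, LinearMap.zero_apply]
  · rw [hφ c hc]
    have h1 : ξ c = ξ (c - w) + ξ w := by rw [← map_add, sub_add_cancel]
    rw [h1, hξ0 _ hcw, hξw, add_zero]

/-- the product of two transvections of `K` -/
theorem h94_mul_apply {t₁ t₂ : V ≃ₗ[ZMod p] V} {c₁ c₂ : V} {φ₁ φ₂ : Module.Dual (ZMod p) V}
    (h1 : ∀ x, t₁ x = x + φ₁ x • c₁) (h2 : ∀ x, t₂ x = x + φ₂ x • c₂) (h12 : φ₁ c₂ = 0) (x : V) :
    (t₁ * t₂) x = x + φ₁ x • c₁ + φ₂ x • c₂ := by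
  rw [LinearEquiv.mul_apply, h2 x, h1, map_add, map_smul, h12, smul_zero, add_zero]
  abel

theorem h94_prop {K : Subgroup (V ≃ₗ[ZMod p] V)} {φ₁ φ₂ : Module.Dual (ZMod p) V}
    (h : ∀ x ∈ commSub K, φ₁ x = 0 → φ₂ x = 0) (h1 : ∃ w ∈ commSub K, φ₁ w ≠ 0) :
    ∃ a : ZMod p, ∀ w ∈ commSub K, φ₂ w = a * φ₁ w := by
  obtain ⟨w₀, hw₀, hne⟩ := h1
  refine ⟨φ₂ w₀ * (φ₁ w₀)⁻¹, fun w hw => ?_⟩
  have h2 : φ₁ (w - (φ₁ w * (φ₁ w₀)⁻¹) • w₀) = 0 := by
    rw [map_sub, map_smul, smul_eq_mul, mul_assoc, inv_mul_cancel₀ hne, mul_one, sub_self]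
  have h3 := h _ ((commSub K).sub_mem hw ((commSub K).smul_mem _ hw₀)) h2
  rw [map_sub, map_smul, smul_eq_mul, sub_eq_zero] at h3
  rw [h3]
  ring

theorem h94_eq_of_smul {K : Subgroup (V ≃ₗ[ZMod p] V)} {c₁ c₂ : V} (a : ZMod p)
    (h : c₁ = a • c₂) (hcc : c₁ - c₂ ∈ radSub K) (hn : c₂ ∉ radSub K) : c₁ = c₂ := by
  by_cases ha : a = 1
  · rw [h, ha, one_smul]
  · exfalso
    apply hn
    have h2 : c₁ - c₂ = (a - 1) • c₂ := by rw [sub_smul, one_smul, ← h]
    rw [h2] at hcc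
    have h3 := (radSub K).smul_mem (a - 1)⁻¹ hcc
    rw [inv_smul_smul₀ (sub_ne_zero.2 ha)] at h3
    exact h3

/-- the centre of a transvection of `K` is determined by its class modulo `W0` -/
theorem h94_sigma {K : Subgroup (V ≃ₗ[ZMod p] V)} (hf : Faithful K) (hl : HasLift K)
    {c₁ c₂ : V} {φ₁ φ₂ : Module.Dual (ZMod p) V} (h₁ : LTv K c₁ φ₁) (h₂ : LTv K c₂ φ₂)
    (hcc : c₁ - c₂ ∈ radSub K) : c₁ = c₂ := by
  by_cases hA : ∃ a : ZMod p, ∀ w ∈ commSub K, φ₂ w = a * φ₁ w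
  · obtain ⟨a, ha⟩ := hA
    have ha0 : a ≠ 0 := by
      rintro rfl
      obtain ⟨w, hw, hne⟩ := h94_ne_on hf h₂
      apply hne
      rw [ha w hw, zero_mul]
    exact (h94_uniq hf (h94_smul_right h₁ ha0) h₂ hcc (fun w hw => by
      rw [LinearMap.smul_apply, smul_eq_mul, ha w hw])).1
  · have hφ₂c₁ : φ₂ c₁ = 0 := by
      have e : c₁ = (c₁ - c₂) + c₂ := by abel
      rw [e, map_add, h94_rad h₂ hcc, h₂.2.2.1, add_zero]
    have hφ₁c₂ : φ₁ c₂ = 0 := by
      have e : c₂ = c₁ - (c₁ - c₂) := by abel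
      rw [e, map_sub, h94_rad h₁ hcc, h₁.2.2.1, sub_zero]
    obtain ⟨c₃, φ₃, h₃, hc₃, hφ₃⟩ := h94_lift hl (h94_mem_comm h₁) (h94_not_rad hf h₁) (φ₁ + φ₂)
      (by rw [LinearMap.add_apply, h₁.2.2.1, hφ₂c₁, add_zero])
      (fun u hu => by rw [LinearMap.add_apply, h94_rad h₁ hu, h94_rad h₂ hu, add_zero])
      (by
        by_contra hcon
        apply hA
        refine ⟨-1, fun w hw => ?_⟩
        by_contra hne
        apply hcon
        refine ⟨w, hw, ?_⟩
        rw [LinearMap.add_apply]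
        intro h0
        apply hne
        linear_combination h0)
    obtain ⟨t₁, ht₁, hx₁⟩ := h₁.2.2.2
    obtain ⟨t₂, ht₂, hx₂⟩ := h₂.2.2.2
    obtain ⟨t₃, ht₃, hx₃⟩ := h₃.2.2.2
    have hd1 : c₁ - c₃ ∈ radSub K := by
      have h0 := (radSub K).neg_mem hc₃
      rwa [neg_sub] at h0
    have hd2 : c₂ - c₁ ∈ radSub K := by
      have h0 := (radSub K).neg_mem hcc
      rwa [neg_sub] at h0
    have h12 : t₁ * t₂ = t₃ := by
      apply h94_faith hf (K.mul_mem ht₁ ht₂) ht₃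
      intro w hw
      have e : (t₁ * t₂) w - t₃ w = φ₁ w • (c₁ - c₃) + φ₂ w • ((c₂ - c₁) + (c₁ - c₃)) := by
        rw [h94_mul_apply hx₁ hx₂ hφ₁c₂, hx₃ w, hφ₃ w hw, LinearMap.add_apply]
        simp only [smul_sub, smul_add, add_smul]
        abel
      rw [e]
      exact (radSub K).add_mem ((radSub K).smul_mem _ hd1)
        ((radSub K).smul_mem _ ((radSub K).add_mem hd2 hd1))
    have hE : ∀ x, φ₁ x • c₁ + φ₂ x • c₂ = φ₃ x • c₃ := by
      intro x
      have h1 := h94_mul_apply hx₁ hx₂ hφ₁c₂ x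
      rw [h12, hx₃ x, add_assoc] at h1
      exact (add_left_cancel h1).symm
    have hx : ∃ x ∈ commSub K, φ₁ x = 0 ∧ φ₂ x ≠ 0 := by
      by_contra hcon
      apply hA
      apply h94_prop _ (h94_ne_on hf h₁)
      intro x hx h0
      by_contra hne
      exact hcon ⟨x, hx, h0, hne⟩
    have hx' : ∃ x ∈ commSub K, φ₂ x = 0 ∧ φ₁ x ≠ 0 := by
      by_contra hcon
      have hB : ∃ b : ZMod p, ∀ w ∈ commSub K, φ₁ w = b * φ₂ w := by
        apply h94_prop _ (h94_ne_on hf h₂)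
        intro x hx h0
        by_contra hne
        exact hcon ⟨x, hx, h0, hne⟩
      obtain ⟨b, hb⟩ := hB
      have hb0 : b ≠ 0 := by
        rintro rfl
        obtain ⟨w, hw, hne⟩ := h94_ne_on hf h₁
        apply hne
        rw [hb w hw, zero_mul]
      apply hA
      refine ⟨b⁻¹, fun w hw => ?_⟩
      rw [hb w hw, ← mul_assoc, inv_mul_cancel₀ hb0, one_mul]
    obtain ⟨x, _, hx1, hx2⟩ := hx
    obtain ⟨x', _, hx1', hx2'⟩ := hx'
    have e1 := hE x
    have e2 := hE x'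
    rw [hx1, zero_smul, zero_add] at e1
    rw [hx1', zero_smul, add_zero] at e2
    have hβ : φ₃ x ≠ 0 := by
      intro h0
      rw [h0, zero_smul] at e1
      rcases smul_eq_zero.1 e1 with h4 | h4
      · exact hx2 h4
      · exact h₂.1 h4
    have hc3 : c₃ = (φ₃ x)⁻¹ • (φ₂ x • c₂) := by rw [e1, inv_smul_smul₀ hβ]
    have hc1 : c₁ = (φ₁ x')⁻¹ • (φ₃ x' • c₃) := by rw [← e2, inv_smul_smul₀ hx2']
    have hc12 : c₁ = ((φ₁ x')⁻¹ * (φ₃ x' * ((φ₃ x)⁻¹ * φ₂ x))) • c₂ := by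
      calc c₁ = (φ₁ x')⁻¹ • (φ₃ x' • c₃) := hc1
        _ = (φ₁ x')⁻¹ • (φ₃ x' • ((φ₃ x)⁻¹ • (φ₂ x • c₂))) := by rw [← hc3]
        _ = ((φ₁ x')⁻¹ * (φ₃ x' * ((φ₃ x)⁻¹ * φ₂ x))) • c₂ := by
          rw [smul_smul, smul_smul, smul_smul]
          congr 1
          ring
    exact h94_eq_of_smul _ hc12 hcc (h94_not_rad hf h₂)

/-- the sum of two centres is a centre -/
theorem h94_add [Finite V] {K : Subgroup (V ≃ₗ[ZMod p] V)} (hf : Faithful K) (hl : HasLift K)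
    {c c' : V} {φ φ' : Module.Dual (ZMod p) V} (h : LTv K c φ) (h' : LTv K c' φ')
    (hne : c + c' ≠ 0) : ∃ χ, LTv K (c + c') χ := by
  by_cases hdep : ∃ a : ZMod p, c' - a • c ∈ radSub K
  · obtain ⟨a, ha⟩ := hdep
    have ha0 : a ≠ 0 := by
      rintro rfl
      rw [zero_smul, sub_zero] at ha
      exact h94_not_rad hf h' ha
    have e := h94_sigma hf hl h' (h94_smul_left h ha0) ha
    have h1 : c + c' = (1 + a) • c := by rw [e, add_smul, one_smul]
    have h2 : (1 + a) ≠ 0 := by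
      intro h0
      apply hne
      rw [h1, h0, zero_smul]
    refine ⟨φ, ?_⟩
    rw [h1]
    exact h94_smul_left h h2
  · have hc : c ∈ commSub K := h94_mem_comm h
    have hc' : c' ∈ commSub K := h94_mem_comm h'
    obtain ⟨ξ, hξc, hξc', hξ0, u, hu, hξu⟩ : ∃ ξ : Module.Dual (ZMod p) V, ξ c = 0 ∧ ξ c' = 0 ∧
        (∀ x ∈ radSub K, ξ x = 0) ∧ ∃ u ∈ commSub K, ξ u ≠ 0 := by
      have hU : Module.finrank (ZMod p) ↥(radSub K ⊔ (ZMod p ∙ c) ⊔ (ZMod p ∙ c'))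
          < Module.finrank (ZMod p) ↥(commSub K) := by
        have e1 := Submodule.finrank_add_le_finrank_add_finrank (radSub K ⊔ (ZMod p ∙ c))
          (ZMod p ∙ c')
        have e2 := Submodule.finrank_add_le_finrank_add_finrank (radSub K) (ZMod p ∙ c)
        have e3 : Module.finrank (ZMod p) ↥(ZMod p ∙ c) = 1 := finrank_span_singleton h.1
        have e4 : Module.finrank (ZMod p) ↥(ZMod p ∙ c') = 1 := finrank_span_singleton h'.1
        have e5 := hl.1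
        omega
      have hnle : ¬ commSub K ≤ radSub K ⊔ (ZMod p ∙ c) ⊔ (ZMod p ∙ c') := by
        intro hle
        have := Submodule.finrank_mono hle
        omega
      obtain ⟨u, hu, hnu⟩ := SetLike.not_le_iff_exists.1 hnle
      obtain ⟨f, hfu, hmap⟩ := Submodule.exists_dual_map_eq_bot_of_notMem hnu inferInstance
      have hzero : ∀ x ∈ radSub K ⊔ (ZMod p ∙ c) ⊔ (ZMod p ∙ c'), f x = 0 := by
        intro x hx
        have h0 : f x ∈ Submodule.map f (radSub K ⊔ (ZMod p ∙ c) ⊔ (ZMod p ∙ c')) :=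
          Submodule.mem_map_of_mem hx
        rw [hmap] at h0
        exact (Submodule.mem_bot _).1 h0
      refine ⟨f, hzero c ?_, hzero c' ?_, fun x hx => hzero x ?_, u, hu, hfu⟩
      · exact Submodule.mem_sup_left (Submodule.mem_sup_right (Submodule.mem_span_singleton_self c))
      · exact Submodule.mem_sup_right (Submodule.mem_span_singleton_self c')
      · exact Submodule.mem_sup_left (Submodule.mem_sup_left hx)
    obtain ⟨c₁, φ₁, h₁, hc₁, hφ₁⟩ := h94_lift hl hc (h94_not_rad hf h) ξ hξc hξ0 ⟨u, hu, hξu⟩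
    have e₁ : c₁ = c := h94_sigma hf hl h₁ h hc₁
    rw [e₁] at h₁
    obtain ⟨c₂, φ₂, h₂, hc₂, hφ₂⟩ := h94_lift hl hc' (h94_not_rad hf h') ξ hξc' hξ0 ⟨u, hu, hξu⟩
    have e₂ : c₂ = c' := h94_sigma hf hl h₂ h' hc₂
    rw [e₂] at h₂
    have hsum0 : c + c' ∉ radSub K := by
      intro hmem
      apply hdep
      refine ⟨-1, ?_⟩
      rw [neg_one_smul, sub_neg_eq_add, add_comm]
      exact hmem
    obtain ⟨c₃, φ₃, h₃, hc₃, hφ₃⟩ := h94_lift hl ((commSub K).add_mem hc hc') hsum0 ξ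
      (by rw [map_add, hξc, hξc', add_zero]) hξ0 ⟨u, hu, hξu⟩
    obtain ⟨t₁, ht₁, hx₁⟩ := h₁.2.2.2
    obtain ⟨t₂, ht₂, hx₂⟩ := h₂.2.2.2
    obtain ⟨t₃, ht₃, hx₃⟩ := h₃.2.2.2
    have hφ₁c' : φ₁ c' = 0 := by rw [hφ₁ c' hc', hξc']
    have h12 : t₁ * t₂ = t₃ := by
      apply h94_faith hf (K.mul_mem ht₁ ht₂) ht₃
      intro w hw
      have e : (t₁ * t₂) w - t₃ w = ξ w • (-(c₃ - (c + c'))) := by
        rw [h94_mul_apply hx₁ hx₂ hφ₁c', hx₃ w, hφ₁ w hw, hφ₂ w hw, hφ₃ w hw]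
        simp only [smul_sub, smul_add, smul_neg]
        abel
      rw [e]
      exact (radSub K).smul_mem _ ((radSub K).neg_mem hc₃)
    have hE := h94_mul_apply hx₁ hx₂ hφ₁c' u
    rw [h12, hx₃ u, add_assoc, hφ₁ u hu, hφ₂ u hu, hφ₃ u hu, ← smul_add] at hE
    have hsum : c₃ = c + c' := smul_right_injective V hξu (add_left_cancel hE)
    refine ⟨φ₃, ?_⟩
    rw [← hsum]
    exact h₃

/-- the centres, with `0`, form a subspace -/
theorem h94_centres [Finite V] {K : Subgroup (V ≃ₗ[ZMod p] V)} (hf : Faithful K)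
    (hl : HasLift K) :
    ∃ P : Submodule (ZMod p) V, ∀ c, c ∈ P ↔ (c = 0 ∨ ∃ φ, LTv K c φ) := by
  refine ⟨{ carrier := {c | c = 0 ∨ ∃ φ, LTv K c φ}
            zero_mem' := Or.inl rfl
            add_mem' := ?_
            smul_mem' := ?_ }, fun c => Iff.rfl⟩
  · intro a b ha hb
    show a + b = 0 ∨ ∃ φ, LTv K (a + b) φ
    rcases ha with rfl | ⟨φ, h⟩
    · rw [zero_add]
      exact hb
    · rcases hb with rfl | ⟨φ', h'⟩
      · rw [add_zero]
        exact Or.inr ⟨φ, h⟩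
      · by_cases hne : a + b = 0
        · exact Or.inl hne
        · exact Or.inr (h94_add hf hl h h' hne)
  · intro a c hc
    show a • c = 0 ∨ ∃ φ, LTv K (a • c) φ
    rcases hc with rfl | ⟨φ, h⟩
    · left
      rw [smul_zero]
    · by_cases ha : a = 0
      · left
        rw [ha, zero_smul]
      · exact Or.inr ⟨φ, h94_smul_left h ha⟩

theorem h94_comm_le {C : Set (V ≃ₗ[ZMod p] V)} (hCtv : ∀ t ∈ C, IsTv t)
    (P : Submodule (ZMod p) V) (hP : ∀ c φ, LTv (Subgroup.closure C) c φ → c ∈ P) :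
    commSub (Subgroup.closure C) ≤ P := by
  have key : ∀ k ∈ Subgroup.closure C, ∀ v : V, k v - v ∈ P := by
    intro k hk
    induction hk using Subgroup.closure_induction with
    | mem t ht =>
      intro v
      obtain ⟨c, φ, hc0, hφ0, hφc, hx⟩ := hCtv t ht
      rw [hx v, add_sub_cancel_left]
      exact P.smul_mem _ (hP c φ ⟨hc0, hφ0, hφc, t, Subgroup.subset_closure ht, hx⟩)
    | one =>
      intro v
      rw [h94_one_apply, sub_self]
      exact zero_mem _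
    | mul g h _ _ ihg ihh =>
      intro v
      have e : (g * h) v - v = (g (h v) - h v) + (h v - v) := by
        rw [LinearEquiv.mul_apply]
        abel
      rw [e]
      exact P.add_mem (ihg _) (ihh _)
    | inv g _ ih =>
      intro v
      have e : g⁻¹ v - v = -(g (g⁻¹ v) - g⁻¹ v) := by
        rw [← LinearEquiv.mul_apply, mul_inv_cancel, h94_one_apply]
        abel
      rw [e]
      exact P.neg_mem (ih _)
  apply Submodule.span_le.2
  rintro w ⟨k, hk, v, rfl⟩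
  exact key k hk v

/-- `W0 = 0`, and every nonzero vector of `[V, K]` is a centre -/
theorem h94_rad_bot [Finite V] {C : Set (V ≃ₗ[ZMod p] V)} (hCtv : ∀ t ∈ C, IsTv t)
    (hf : Faithful (Subgroup.closure C)) (hl : HasLift (Subgroup.closure C)) :
    radSub (Subgroup.closure C) = ⊥ ∧
      ∀ w ∈ commSub (Subgroup.closure C), w ≠ 0 → ∃ φ, LTv (Subgroup.closure C) w φ := by
  obtain ⟨P, hP⟩ := h94_centres hf hl
  have hle := h94_comm_le hCtv P (fun c φ h => (hP c).2 (Or.inr ⟨φ, h⟩))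
  have hall : ∀ w ∈ commSub (Subgroup.closure C), w ≠ 0 →
      ∃ φ, LTv (Subgroup.closure C) w φ := by
    intro w hw hw0
    rcases (hP w).1 (hle hw) with h | h
    · exact absurd h hw0
    · exact h
  refine ⟨?_, hall⟩
  rw [eq_bot_iff]
  intro w hw
  rw [Submodule.mem_bot]
  by_contra hw0
  obtain ⟨φ, h⟩ := hall w (h94_rad_le_comm _ hw) hw0
  exact h94_not_rad hf h hw

/-! ### the complement -/

theorem h94_lift2 {K : Subgroup (V ≃ₗ[ZMod p] V)} (hl : HasLift K) (h0 : radSub K = ⊥) {w : V}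
    (hw : w ∈ commSub K) (hw0 : w ≠ 0) (ξ : Module.Dual (ZMod p) V) (hξw : ξ w = 0)
    (hξ : ∃ u ∈ commSub K, ξ u ≠ 0) :
    ∃ φ : Module.Dual (ZMod p) V, LTv K w φ ∧ ∀ u ∈ commSub K, φ u = ξ u := by
  have hwn : w ∉ radSub K := by
    rw [h0, Submodule.mem_bot]
    exact hw0
  obtain ⟨c, φ, h, hc, hφ⟩ := h94_lift hl hw hwn ξ hξw (fun u hu => by
    rw [h0, Submodule.mem_bot] at hu
    rw [hu, map_zero]) hξ
  rw [h0, Submodule.mem_bot, sub_eq_zero] at hc
  rw [hc] at h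
  exact ⟨φ, h, hφ⟩

/-- the conjugate of a transvection of `K` by a transvection of `K` -/
theorem h94_conj {K : Subgroup (V ≃ₗ[ZMod p] V)} {w d : V} {φ ψ : Module.Dual (ZMod p) V}
    (h : LTv K w φ) (hg : LTv K d ψ) (hφd : φ d = 0) (hne : w + ψ w • d ≠ 0) :
    LTv K (w + ψ w • d) φ := by
  obtain ⟨_, hφ0, hφw, t, ht, hx⟩ := h
  obtain ⟨_, _, _, g, hg', hy⟩ := hg
  refine ⟨hne, hφ0, ?_, g * t * g⁻¹, K.mul_mem (K.mul_mem hg' ht) (K.inv_mem hg'), fun x => ?_⟩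
  · rw [map_add, map_smul, hφw, hφd, smul_zero, add_zero]
  · have hφg : ∀ y, φ (g y) = φ y := by
      intro y
      rw [hy y, map_add, map_smul, hφd, smul_zero, add_zero]
    have hgg : g (g⁻¹ x) = x := by
      rw [← LinearEquiv.mul_apply, mul_inv_cancel, h94_one_apply]
    have e : φ (g⁻¹ x) = φ x := by rw [← hφg (g⁻¹ x), hgg]
    rw [LinearEquiv.mul_apply, LinearEquiv.mul_apply, hx (g⁻¹ x), map_add, map_smul, hgg, e,
      hy w]

theorem h94_dual_pair {w d : V} (h : ∀ a : ZMod p, w ≠ a • d) :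
    ∃ f : Module.Dual (ZMod p) V, f d = 0 ∧ f w = 1 := by
  have hnot : w ∉ (ZMod p ∙ d) := by
    intro hmem
    obtain ⟨a, ha⟩ := Submodule.mem_span_singleton.1 hmem
    exact h a ha.symm
  obtain ⟨f, hfw, hmap⟩ := Submodule.exists_dual_map_eq_bot_of_notMem hnot inferInstance
  have hfd : f d = 0 := by
    have h0 : f d ∈ Submodule.map f (ZMod p ∙ d) :=
      Submodule.mem_map_of_mem (Submodule.mem_span_singleton_self d)
    rw [hmap] at h0
    exact (Submodule.mem_bot _).1 h0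
  refine ⟨(f w)⁻¹ • f, ?_, ?_⟩
  · rw [LinearMap.smul_apply, hfd, smul_zero]
  · rw [LinearMap.smul_apply, smul_eq_mul, inv_mul_cancel₀ hfw]

/-- the axis of a transvection of `K` is determined by its restriction to `[V, K]` -/
theorem h94_ell {K : Subgroup (V ≃ₗ[ZMod p] V)} (hf : Faithful K) (hl : HasLift K)
    (h0 : radSub K = ⊥) {w d : V} {φ φ' : Module.Dual (ZMod p) V} (h : LTv K w φ)
    (h' : LTv K d φ') (hφ : ∀ u ∈ commSub K, φ u = φ' u) : φ = φ' := by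
  have hw := h94_mem_comm h
  have hd := h94_mem_comm h'
  by_cases hdep : ∃ a : ZMod p, d = a • w
  · obtain ⟨a, ha⟩ := hdep
    have ha0 : a ≠ 0 := by
      rintro rfl
      rw [zero_smul] at ha
      exact h'.1 ha
    have h2 := h94_smul_left h' (inv_ne_zero ha0)
    rw [ha, inv_smul_smul₀ ha0] at h2
    exact (h94_uniq hf h h2 (by rw [sub_self]; exact zero_mem _) hφ).2
  · have hind1 : ∀ a : ZMod p, w ≠ a • d := by
      intro a ha
      apply hdep
      have ha0 : a ≠ 0 := by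
        rintro rfl
        rw [zero_smul] at ha
        exact h.1 ha
      exact ⟨a⁻¹, by rw [ha, inv_smul_smul₀ ha0]⟩
    have hind2 : ∀ a : ZMod p, d ≠ a • w := fun a ha => hdep ⟨a, ha⟩
    obtain ⟨ψ₀, hψ₀d, hψ₀w⟩ := h94_dual_pair hind1
    obtain ⟨ψ₀', hψ₀w', hψ₀d'⟩ := h94_dual_pair hind2
    obtain ⟨ψ, hψ, hψW⟩ := h94_lift2 hl h0 hd h'.1 ψ₀ hψ₀d
      ⟨w, hw, by rw [hψ₀w]; exact one_ne_zero⟩
    obtain ⟨ψ', hψ', hψW'⟩ := h94_lift2 hl h0 hw h.1 ψ₀' hψ₀w'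
      ⟨d, hd, by rw [hψ₀d']; exact one_ne_zero⟩
    have hφd : φ d = 0 := by
      rw [hφ d hd]
      exact h'.2.2.1
    have hφ'w : φ' w = 0 := by
      rw [← hφ w hw]
      exact h.2.2.1
    have hsum : w + d ≠ 0 := by
      intro h0'
      apply hind2 (-1)
      rw [neg_one_smul]
      exact eq_neg_of_add_eq_zero_right h0'
    have c1 := h94_conj h hψ hφd (by rw [hψW w hw, hψ₀w, one_smul]; exact hsum)
    rw [hψW w hw, hψ₀w, one_smul] at c1
    have c2 := h94_conj h' hψ' hφ'w (by rw [hψW' d hd, hψ₀d', one_smul, add_comm]; exact hsum)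
    rw [hψW' d hd, hψ₀d', one_smul, add_comm] at c2
    exact (h94_uniq hf c1 c2 (by rw [sub_self]; exact zero_mem _) hφ).2

theorem h94_common [Finite V] {K : Subgroup (V ≃ₗ[ZMod p] V)} (hl : HasLift K)
    (φ φ' : Module.Dual (ZMod p) V) :
    ∃ w₀ ∈ commSub K, w₀ ≠ 0 ∧ φ w₀ = 0 ∧ φ' w₀ = 0 := by
  have hlt : Module.finrank (ZMod p) (ZMod p × ZMod p)
      < Module.finrank (ZMod p) ↥(commSub K) := by
    rw [Module.finrank_prod, Module.finrank_self]
    have := hl.1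
    omega
  have hker := LinearMap.ker_ne_bot_of_finrank_lt
    (f := (φ.prod φ').comp (commSub K).subtype) hlt
  obtain ⟨x, hx, hx0⟩ := Submodule.exists_mem_ne_zero_of_ne_bot hker
  have hx' := LinearMap.mem_ker.1 hx
  refine ⟨x.1, x.2, fun h => hx0 (Subtype.ext h), ?_, ?_⟩
  · exact (Prod.ext_iff.1 hx').1
  · exact (Prod.ext_iff.1 hx').2

/-- the sum of two axes is an axis -/
theorem h94_axis_add [Finite V] {K : Subgroup (V ≃ₗ[ZMod p] V)} (hf : Faithful K)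
    (hl : HasLift K) (h0 : radSub K = ⊥) {w w' : V} {φ φ' : Module.Dual (ZMod p) V}
    (h : LTv K w φ) (h' : LTv K w' φ') (hne : φ + φ' ≠ 0) : ∃ c, LTv K c (φ + φ') := by
  obtain ⟨w₀, hw₀, hw₀0, hφw₀, hφ'w₀⟩ := h94_common hl φ φ'
  obtain ⟨φ₁, h₁, hφ₁⟩ := h94_lift2 hl h0 hw₀ hw₀0 φ hφw₀ (h94_ne_on hf h)
  have e₁ : φ = φ₁ := h94_ell hf hl h0 h h₁ (fun u hu => (hφ₁ u hu).symm)
  rw [← e₁] at h₁
  obtain ⟨φ₂, h₂, hφ₂⟩ := h94_lift2 hl h0 hw₀ hw₀0 φ' hφ'w₀ (h94_ne_on hf h')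
  have e₂ : φ' = φ₂ := h94_ell hf hl h0 h' h₂ (fun u hu => (hφ₂ u hu).symm)
  rw [← e₂] at h₂
  obtain ⟨t₁, ht₁, hx₁⟩ := h₁.2.2.2
  obtain ⟨t₂, ht₂, hx₂⟩ := h₂.2.2.2
  refine ⟨w₀, hw₀0, hne, ?_, t₁ * t₂, K.mul_mem ht₁ ht₂, fun x => ?_⟩
  · rw [LinearMap.add_apply, hφw₀, hφ'w₀, add_zero]
  · rw [h94_mul_apply hx₁ hx₂ hφw₀, LinearMap.add_apply, add_smul, add_assoc]

/-- the axes, with `0`, form a subspace -/
theorem h94_axes [Finite V] {K : Subgroup (V ≃ₗ[ZMod p] V)} (hf : Faithful K)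
    (hl : HasLift K) (h0 : radSub K = ⊥) :
    ∃ A : Submodule (ZMod p) (Module.Dual (ZMod p) V),
      ∀ φ, φ ∈ A ↔ (φ = 0 ∨ ∃ c, LTv K c φ) := by
  refine ⟨{ carrier := {φ | φ = 0 ∨ ∃ c, LTv K c φ}
            zero_mem' := Or.inl rfl
            add_mem' := ?_
            smul_mem' := ?_ }, fun φ => Iff.rfl⟩
  · intro a b ha hb
    show a + b = 0 ∨ ∃ c, LTv K c (a + b)
    rcases ha with rfl | ⟨c, h⟩
    · rw [zero_add]
      exact hb
    · rcases hb with rfl | ⟨c', h'⟩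
      · rw [add_zero]
        exact Or.inr ⟨c, h⟩
      · by_cases hne : a + b = 0
        · exact Or.inl hne
        · exact Or.inr (h94_axis_add hf hl h0 h h' hne)
  · intro a φ hφ
    show a • φ = 0 ∨ ∃ c, LTv K c (a • φ)
    rcases hφ with rfl | ⟨c, h⟩
    · left
      rw [smul_zero]
    · by_cases ha : a = 0
      · left
        rw [ha, zero_smul]
      · exact Or.inr ⟨c, h94_smul_right h ha⟩

/-- PIECE LIFT. -/
theorem split_of_lift [Finite V] (C : Set (V ≃ₗ[ZMod p] V)) (hCtv : ∀ t ∈ C, IsTv t)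
    (hf : Faithful (Subgroup.closure C)) (hl : HasLift (Subgroup.closure C)) :
    commSub (Subgroup.closure C) ⊓ fixSub (Subgroup.closure C) = ⊥ ∧
    commSub (Subgroup.closure C) ⊔ fixSub (Subgroup.closure C) = ⊤ := by
  obtain ⟨h0, _⟩ := h94_rad_bot hCtv hf hl
  have hinf : commSub (Subgroup.closure C) ⊓ fixSub (Subgroup.closure C) = ⊥ := h0
  refine ⟨hinf, ?_⟩
  obtain ⟨A, hA⟩ := h94_axes hf hl h0
  have hAF : A.dualCoannihilator ≤ fixSub (Subgroup.closure C) := by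
    intro v hv
    rw [Submodule.mem_dualCoannihilator] at hv
    rw [mem_fixSub]
    intro k hk
    induction hk using Subgroup.closure_induction with
    | mem t ht =>
      obtain ⟨c, φ, hc0, hφ0, hφc, hx⟩ := hCtv t ht
      rw [hx v, hv φ ((hA φ).2 (Or.inr ⟨c, hc0, hφ0, hφc, t, Subgroup.subset_closure ht, hx⟩)),
        zero_smul, add_zero]
    | one => exact h94_one_apply v
    | mul g h _ _ ihg ihh => rw [LinearEquiv.mul_apply, ihh, ihg]
    | inv g _ ih =>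
      have e : g⁻¹ v = g⁻¹ (g v) := by rw [ih]
      rw [e, ← LinearEquiv.mul_apply, inv_mul_cancel, h94_one_apply]
  have hinj : Function.Injective
      ((commSub (Subgroup.closure C)).dualRestrict.comp A.subtype) := by
    rw [injective_iff_map_eq_zero]
    intro φ hφ
    rcases (hA φ.1).1 φ.2 with h | ⟨c, h⟩
    · exact Subtype.ext h
    · exfalso
      obtain ⟨w, hw, hne⟩ := h94_ne_on hf h
      apply hne
      exact LinearMap.congr_fun hφ ⟨w, hw⟩
  have hdimA : Module.finrank (ZMod p) ↥A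
      ≤ Module.finrank (ZMod p) ↥(commSub (Subgroup.closure C)) := by
    have h1 := LinearMap.finrank_le_finrank_of_injective hinj
    rwa [Subspace.dual_finrank_eq] at h1
  have hco := Subspace.finrank_add_finrank_dualCoannihilator_eq A
  have hFdim := Submodule.finrank_mono hAF
  have hsup := Submodule.finrank_sup_add_finrank_inf_eq (commSub (Subgroup.closure C))
    (fixSub (Subgroup.closure C))
  rw [hinf, finrank_bot, add_zero] at hsup
  apply Submodule.eq_top_of_finrank_eq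
  have hle := Submodule.finrank_le (commSub (Subgroup.closure C) ⊔ fixSub (Subgroup.closure C))
  omega

end Cfsg.Agent.Lib.helper94.McL
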