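import Mathlib

/-! Generators of finite `p`-groups (helper94): a subgroup of order `p ^ k` is generated by at most
`k` elements, and the Burnside basis bound via the Frattini quotient. -/

set_option autoImplicit false

namespace Cfsg.Agent.Lib.helper94.PGens

theorem h94_pgroup_gens_aux {G : Type*} [Group G] [Finite G] (p : ℕ) [hp : Fact p.Prime]
    (H : Subgroup G) (k : ℕ) (hH : Nat.card H = p ^ k) (j : ℕ) :
    ∃ T : Finset G, T.card ≤ j ∧ Subgroup.closure (T : Set G) ≤ H ∧
      (Subgroup.closure (T : Set G) = H ∨ p ^ j ≤ Nat.card (Subgroup.closure (T : Set G))) := by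
  classical
  induction j with
  | zero =>
    refine ⟨∅, by simp, by simp, Or.inr ?_⟩
    rw [pow_zero]
    exact Nat.card_pos
  | succ j ih =>
    obtain ⟨T, hT, hle, h⟩ := ih
    rcases h with h | h
    · exact ⟨T, by omega, hle, Or.inl h⟩
    · by_cases hEq : Subgroup.closure (T : Set G) = H
      · exact ⟨T, by omega, hle, Or.inl hEq⟩
      · have hlt : Subgroup.closure (T : Set G) < H := lt_of_le_of_ne hle hEq
        obtain ⟨g, hgH, hgT⟩ := SetLike.exists_of_lt hlt
        have hK'H : Subgroup.closure ((insert g T : Finset G) : Set G) ≤ H := by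
          rw [Finset.coe_insert, Subgroup.closure_le]
          intro y hy
          rcases hy with rfl | hy
          · exact hgH
          · exact hle (Subgroup.subset_closure hy)
        have hKK' : Subgroup.closure (T : Set G) ≤
            Subgroup.closure ((insert g T : Finset G) : Set G) :=
          Subgroup.closure_mono (by simp)
        have hgK' : g ∈ Subgroup.closure ((insert g T : Finset G) : Set G) :=
          Subgroup.subset_closure (by simp)
        refine ⟨insert g T, (Finset.card_insert_le g T).trans (by omega), hK'H, Or.inr ?_⟩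
        have hdvd : Nat.card (Subgroup.closure (T : Set G)) ∣
            Nat.card (Subgroup.closure ((insert g T : Finset G) : Set G)) :=
          Subgroup.card_dvd_of_le hKK'
        have hdvd' : Nat.card (Subgroup.closure ((insert g T : Finset G) : Set G)) ∣ p ^ k := by
          rw [← hH]
          exact Subgroup.card_dvd_of_le hK'H
        obtain ⟨m, hm⟩ := hdvd
        have hmne : m ≠ 1 := by
          rintro rfl
          have : Subgroup.closure (T : Set G) =
              Subgroup.closure ((insert g T : Finset G) : Set G) :=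
            Subgroup.eq_of_le_of_card_ge hKK' (by omega)
          exact hgT (this ▸ hgK')
        have hmdvd : m ∣ p ^ k := Dvd.dvd.trans ⟨Nat.card (Subgroup.closure (T : Set G)), by
          rw [hm]; ring⟩ hdvd'
        obtain ⟨i, -, rfl⟩ := (Nat.dvd_prime_pow hp.out).1 hmdvd
        have hi0 : i ≠ 0 := by
          rintro rfl
          simp at hmne
        have hpi : p ≤ p ^ i := Nat.le_self_pow hi0 p
        calc p ^ (j + 1) = p ^ j * p := pow_succ _ _
          _ ≤ Nat.card (Subgroup.closure (T : Set G)) * p ^ i := Nat.mul_le_mul h hpi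
          _ = Nat.card (Subgroup.closure ((insert g T : Finset G) : Set G)) := hm.symm

/-- A subgroup of order `p ^ k` is generated by at most `k` elements. -/
theorem h94_pgroup_gens {G : Type*} [Group G] [Finite G] (p : ℕ) [Fact p.Prime]
    (H : Subgroup G) (k : ℕ) (hH : Nat.card H = p ^ k) :
    ∃ T : Finset G, T.card ≤ k ∧ Subgroup.closure (T : Set G) = H := by
  obtain ⟨T, hT, hle, h⟩ := h94_pgroup_gens_aux p H k hH k
  refine ⟨T, hT, ?_⟩
  rcases h with h | h
  · exact h
  · exact Subgroup.eq_of_le_of_card_ge hle (by rw [hH]; exact h)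

/-- Same with an upper bound on the order (`H` a `p`-group). -/
theorem h94_pgroup_gens_le {G : Type*} [Group G] [Finite G] (p : ℕ) [hp : Fact p.Prime]
    (H : Subgroup G) (hHp : IsPGroup p H) (k : ℕ) (hH : Nat.card H ≤ p ^ k) :
    ∃ T : Finset G, T.card ≤ k ∧ Subgroup.closure (T : Set G) = H := by
  obtain ⟨e, he⟩ := IsPGroup.iff_card.1 hHp
  have hek : e ≤ k := by
    rw [he] at hH
    exact (Nat.pow_le_pow_iff_right hp.out.one_lt).1 hH
  obtain ⟨T, hT, hcl⟩ := h94_pgroup_gens p H e he
  exact ⟨T, hT.trans hek, hcl⟩

/-- Burnside basis bound: if the Frattini quotient of the `p`-group `H` has order at most `p ^ d`,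
then `H` is generated by at most `d` elements. -/
theorem h94_burnside_basis {G : Type*} [Group G] [Finite G] (p : ℕ) [hp : Fact p.Prime]
    (H : Subgroup G) (hHp : IsPGroup p H) (d : ℕ) (hd : (frattini ↥H).index ≤ p ^ d) :
    ∃ T : Finset G, T.card ≤ d ∧ Subgroup.closure (T : Set G) = H := by
  classical
  have hQp : IsPGroup p (⊤ : Subgroup (↥H ⧸ frattini ↥H)) :=
    (hHp.to_quotient (frattini ↥H)).to_subgroup _
  have hQc : Nat.card (⊤ : Subgroup (↥H ⧸ frattini ↥H)) ≤ p ^ d := by
    rw [Subgroup.card_top, ← Subgroup.index_eq_card]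
    exact hd
  obtain ⟨T0, hT0, hcl0⟩ := h94_pgroup_gens_le p (⊤ : Subgroup (↥H ⧸ frattini ↥H)) hQp d hQc
  let T1 : Finset ↥H := T0.image Quotient.out
  have hK : Subgroup.closure (T1 : Set ↥H) = ⊤ := by
    apply frattini_nongenerating
    rw [eq_top_iff]
    intro h _
    have hq : (QuotientGroup.mk' (frattini ↥H)) h ∈ Subgroup.closure (T0 : Set (↥H ⧸ frattini ↥H)) := by
      rw [hcl0]; trivial
    have hmap : Subgroup.closure (T0 : Set (↥H ⧸ frattini ↥H)) ≤
        (Subgroup.closure (T1 : Set ↥H)).map (QuotientGroup.mk' (frattini ↥H)) := by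
      rw [Subgroup.closure_le]
      intro q hq
      refine ⟨Quotient.out q, Subgroup.subset_closure ?_, ?_⟩
      · simp only [T1, Finset.coe_image]
        exact ⟨q, hq, rfl⟩
      · simp
    obtain ⟨y, hy, hyq⟩ := hmap hq
    have hker : y⁻¹ * h ∈ frattini ↥H := by
      rw [← QuotientGroup.eq]
      exact hyq
    have : h = y * (y⁻¹ * h) := by group
    rw [this]
    exact Subgroup.mul_mem_sup hy hker
  refine ⟨T1.image Subtype.val, ?_, ?_⟩
  · exact (Finset.card_image_le.trans Finset.card_image_le).trans hT0
  · have : ((T1.image Subtype.val : Finset G) : Set G) = H.subtype '' (T1 : Set ↥H) := by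
      simp
    rw [this, ← MonoidHom.map_closure, hK, ← MonoidHom.range_eq_map, Subgroup.range_subtype]

end Cfsg.Agent.Lib.helper94.PGens
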