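import Mathlib
import Cfsg.Agent.Lib.helper54.PGroupAux

/-! Jump counting along a chain with steps of index at most `p` (helper94), for S5238 block G:
from the "`p`-th powers jump by `p - 1`" statement to `|H : Φ(H)| ≤ p ^ p`. -/

set_option autoImplicit false

namespace Cfsg.Agent.Lib.helper94.PJump

/-- A proper subgroup of a `p`-subgroup has at most `1/p` of its order. -/
theorem h94_card_lt_pgroup {G : Type*} [Group G] [Finite G] (p : ℕ) [hp : Fact p.Prime]
    {K K' : Subgroup G} (hK' : IsPGroup p K') (hle : K ≤ K') (hne : K ≠ K') :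
    p * Nat.card K ≤ Nat.card K' := by
  obtain ⟨m, hm⟩ := Subgroup.card_dvd_of_le hle
  obtain ⟨e, he⟩ := IsPGroup.iff_card.1 hK'
  have hmne : m ≠ 1 := by
    rintro rfl
    exact hne (Subgroup.eq_of_le_of_card_ge hle (by omega))
  have hmdvd : m ∣ p ^ e := by
    rw [← he, hm]
    exact dvd_mul_left _ _
  obtain ⟨i, -, rfl⟩ := (Nat.dvd_prime_pow hp.out).1 hmdvd
  have hi0 : i ≠ 0 := by
    rintro rfl
    simp at hmne
  have hpi : p ≤ p ^ i := Nat.le_self_pow hi0 p
  calc p * Nat.card K ≤ p ^ i * Nat.card K := Nat.mul_le_mul_right _ hpi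
    _ = Nat.card K' := by rw [hm]; ring

/-- Intersecting with `H` does not increase the index of a step. -/
theorem h94_card_inf_step {G : Type*} [Group G] [Finite G] (p : ℕ)
    (H A B : Subgroup G) (hBA : B ≤ A) (hidx : Nat.card A ≤ p * Nat.card B) :
    Nat.card (H ⊓ A : Subgroup G) ≤ p * Nat.card (H ⊓ B : Subgroup G) := by
  have e1 : (H ⊓ B : Subgroup G) = (H ⊓ A) ⊓ B := by
    rw [inf_assoc, inf_eq_right.2 hBA]
  have h1 : Nat.card (H ⊓ B : Subgroup G) * (H ⊓ B).relIndex (H ⊓ A) =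
      Nat.card (H ⊓ A : Subgroup G) := by
    have := Subgroup.relIndex_mul_relIndex (H := (⊥ : Subgroup G)) (K := H ⊓ B) (L := H ⊓ A) bot_le
      (inf_le_inf_left H hBA)
    rwa [Subgroup.relIndex_bot_left, Subgroup.relIndex_bot_left] at this
  have h2 : (H ⊓ B).relIndex (H ⊓ A) = B.relIndex (H ⊓ A) := by
    rw [e1]
    exact Subgroup.inf_relIndex_left (H := H ⊓ A) (K := B)
  have h4 : Nat.card B * B.relIndex A = Nat.card A := by
    have := Subgroup.relIndex_mul_relIndex (H := (⊥ : Subgroup G)) (K := B) (L := A) bot_le hBA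
    rwa [Subgroup.relIndex_bot_left, Subgroup.relIndex_bot_left] at this
  have hApos : 0 < Nat.card A := Nat.card_pos
  have hBpos : 0 < Nat.card B := Nat.card_pos
  have hne0 : B.relIndex A ≠ 0 := by
    intro h0
    rw [h0, mul_zero] at h4
    omega
  have h3 : B.relIndex (H ⊓ A) ≤ B.relIndex A :=
    Subgroup.relIndex_le_of_le_right inf_le_right hne0
  have h5 : B.relIndex A ≤ p := by
    by_contra hc
    rw [not_le] at hc
    have : p * Nat.card B < Nat.card B * B.relIndex A := by nlinarith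
    omega
  calc Nat.card (H ⊓ A : Subgroup G)
      = Nat.card (H ⊓ B : Subgroup G) * (H ⊓ B).relIndex (H ⊓ A) := h1.symm
    _ ≤ Nat.card (H ⊓ B : Subgroup G) * p := Nat.mul_le_mul_left _ (h2 ▸ h3.trans h5)
    _ = p * Nat.card (H ⊓ B : Subgroup G) := Nat.mul_comm _ _

/-- **Jump counting.** `P` a chain (from index 2 on) with steps of index at most `p`, trivial from
`n` on; `H` a `p`-subgroup and `Φ ≤ H` such that the `p`-th power of an element of `H` of depth
exactly `i` (`2 ≤ i`, `i + p ≤ n`) lies in `Φ` and has depth exactly `i + p - 1`.  Then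
`|H ∩ P 2| ≤ |Φ| * p ^ (p - 1)`. -/
theorem h94_jump_count {G : Type*} [Group G] [Finite G] (p : ℕ) [hp : Fact p.Prime]
    (P : ℕ → Subgroup G) (n : ℕ)
    (hanti : ∀ i, 2 ≤ i → P (i + 1) ≤ P i)
    (hidx : ∀ i, 2 ≤ i → Nat.card (P i) ≤ p * Nat.card (P (i + 1)))
    (hbot : ∀ i, n ≤ i → P i = ⊥)
    (H Φ : Subgroup G) (hH : IsPGroup p H) (hΦ : Φ ≤ H)
    (hjump : ∀ i, 2 ≤ i → i + p ≤ n → ∀ h ∈ H, h ∈ P i → h ∉ P (i + 1) →
        h ^ p ∈ Φ ∧ h ^ p ∈ P (i + p - 1) ∧ h ^ p ∉ P (i + p)) :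
    Nat.card (H ⊓ P 2 : Subgroup G) ≤ Nat.card Φ * p ^ (p - 1) := by
  have hp1 : 1 ≤ p := hp.out.one_lt.le
  have hPcard : ∀ d i, 2 ≤ i → n ≤ i + d → Nat.card (P i) ≤ p ^ d := by
    intro d
    induction d with
    | zero =>
      intro i _ hn
      rw [hbot i (by omega)]
      simp
    | succ d ih =>
      intro i hi hn
      calc Nat.card (P i) ≤ p * Nat.card (P (i + 1)) := hidx i hi
        _ ≤ p * p ^ d := Nat.mul_le_mul_left _ (ih (i + 1) (by omega) (by omega))
        _ = p ^ (d + 1) := by ring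
  have hmain : ∀ d i, 2 ≤ i → n ≤ i + d →
      Nat.card (H ⊓ P i : Subgroup G) ≤
        Nat.card (Φ ⊓ P (i + p - 1) : Subgroup G) * p ^ (p - 1) := by
    intro d
    induction d with
    | zero =>
      intro i _ hn
      rw [hbot i (by omega), inf_bot_eq, Subgroup.card_bot]
      exact Nat.one_le_iff_ne_zero.2
        (Nat.mul_ne_zero Nat.card_pos.ne' (pow_pos (by omega) _).ne')
    | succ d ih =>
      intro i hi hn
      by_cases hr : i + p ≤ n
      · have ih' := ih (i + 1) (by omega) (by omega)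
        have e : i + 1 + p - 1 = i + p := by omega
        rw [e] at ih'
        have hΦle : (Φ ⊓ P (i + p) : Subgroup G) ≤ Φ ⊓ P (i + p - 1) := by
          have h0 := hanti (i + p - 1) (by omega)
          have e2 : i + p - 1 + 1 = i + p := by omega
          rw [e2] at h0
          exact inf_le_inf_left Φ h0
        by_cases hj : (H ⊓ P i : Subgroup G) ≤ P (i + 1)
        · have e3 : (H ⊓ P i : Subgroup G) = H ⊓ P (i + 1) :=
            le_antisymm (le_inf inf_le_left hj) (inf_le_inf_left H (hanti i hi))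
          rw [e3]
          exact ih'.trans (Nat.mul_le_mul_right _ (Subgroup.card_le_of_le hΦle))
        · obtain ⟨h, hh, hh'⟩ := SetLike.not_le_iff_exists.1 hj
          obtain ⟨h1, h2, h3⟩ := hjump i hi hr h hh.1 hh.2 hh'
          have hne : (Φ ⊓ P (i + p) : Subgroup G) ≠ Φ ⊓ P (i + p - 1) := by
            intro heq
            have hmem : h ^ p ∈ (Φ ⊓ P (i + p - 1) : Subgroup G) := ⟨h1, h2⟩
            rw [← heq] at hmem
            exact h3 hmem.2
          have hpg : IsPGroup p (Φ ⊓ P (i + p - 1) : Subgroup G) :=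
            hH.to_le (inf_le_left.trans hΦ)
          have hstep := h94_card_lt_pgroup p hpg hΦle hne
          have hA := h94_card_inf_step p H (P i) (P (i + 1)) (hanti i hi) (hidx i hi)
          calc Nat.card (H ⊓ P i : Subgroup G)
              ≤ p * Nat.card (H ⊓ P (i + 1) : Subgroup G) := hA
            _ ≤ p * (Nat.card (Φ ⊓ P (i + p) : Subgroup G) * p ^ (p - 1)) :=
                Nat.mul_le_mul_left _ ih'
            _ = (p * Nat.card (Φ ⊓ P (i + p) : Subgroup G)) * p ^ (p - 1) := by ring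
            _ ≤ Nat.card (Φ ⊓ P (i + p - 1) : Subgroup G) * p ^ (p - 1) :=
                Nat.mul_le_mul_right _ hstep
      · have h1 : Nat.card (P i) ≤ p ^ (p - 1) := hPcard (p - 1) i hi (by omega)
        calc Nat.card (H ⊓ P i : Subgroup G) ≤ Nat.card (P i) :=
              Subgroup.card_le_of_le inf_le_right
          _ ≤ p ^ (p - 1) := h1
          _ ≤ Nat.card (Φ ⊓ P (i + p - 1) : Subgroup G) * p ^ (p - 1) :=
              Nat.le_mul_of_pos_left _ Nat.card_pos
  calc Nat.card (H ⊓ P 2 : Subgroup G)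
      ≤ Nat.card (Φ ⊓ P (2 + p - 1) : Subgroup G) * p ^ (p - 1) := hmain n 2 le_rfl (by omega)
    _ ≤ Nat.card Φ * p ^ (p - 1) := Nat.mul_le_mul_right _ (Subgroup.card_le_of_le inf_le_left)

/-- **Frattini index bound from jumps.** Same chain `P`; `H` a `p`-subgroup with
`|H : H ∩ P 2| ≤ p` whose elements of depth exactly `i` (`2 ≤ i`, `i + p ≤ n`) have `p`-th power
of depth exactly `i + p - 1`.  Then `|H : Φ(H)| ≤ p ^ p`. -/
theorem h94_frattini_index_le {G : Type*} [Group G] [Finite G] (p : ℕ) [hp : Fact p.Prime]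
    (P : ℕ → Subgroup G) (n : ℕ)
    (hanti : ∀ i, 2 ≤ i → P (i + 1) ≤ P i)
    (hidx : ∀ i, 2 ≤ i → Nat.card (P i) ≤ p * Nat.card (P (i + 1)))
    (hbot : ∀ i, n ≤ i → P i = ⊥)
    (H : Subgroup G) (hH : IsPGroup p H)
    (hH2 : Nat.card H ≤ p * Nat.card (H ⊓ P 2 : Subgroup G))
    (hjump : ∀ i, 2 ≤ i → i + p ≤ n → ∀ h ∈ H, h ∈ P i → h ∉ P (i + 1) →
        h ^ p ∈ P (i + p - 1) ∧ h ^ p ∉ P (i + p)) :
    (frattini ↥H).index ≤ p ^ p := by
  have hp1 : 1 ≤ p := hp.out.one_lt.le
  have hΦ : (frattini ↥H).map H.subtype ≤ H := Subgroup.map_subtype_le _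
  have hcardΦ : Nat.card ((frattini ↥H).map H.subtype) = Nat.card (frattini ↥H) :=
    Subgroup.card_map_of_injective H.subtype_injective
  have hj := h94_jump_count p P n hanti hidx hbot H ((frattini ↥H).map H.subtype) hH hΦ
    (fun i hi hr h hh hPi hPi' => by
      refine ⟨?_, (hjump i hi hr h hh hPi hPi').1, (hjump i hi hr h hh hPi hPi').2⟩
      have := Cfsg.Agent.Lib.helper54.pow_prime_mem_frattini hH (⟨h, hh⟩ : ↥H)
      exact ⟨_, this, rfl⟩)
  have hmul : Nat.card (frattini ↥H) * (frattini ↥H).index = Nat.card H :=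
    Subgroup.card_mul_index _
  have hpp : p ^ p = p * p ^ (p - 1) := by
    rw [← pow_succ', Nat.sub_add_cancel hp1]
  have hle : Nat.card (frattini ↥H) * (frattini ↥H).index ≤ Nat.card (frattini ↥H) * p ^ p := by
    rw [hmul]
    calc Nat.card H ≤ p * Nat.card (H ⊓ P 2 : Subgroup G) := hH2
      _ ≤ p * (Nat.card ((frattini ↥H).map H.subtype) * p ^ (p - 1)) :=
          Nat.mul_le_mul_left _ hj
      _ = Nat.card (frattini ↥H) * p ^ p := by rw [hcardΦ, hpp]; ring
  exact Nat.le_of_mul_le_mul_left hle Nat.card_pos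

end Cfsg.Agent.Lib.helper94.PJump
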