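import Mathlib
import Cfsg.Agent.Lib.helper94.PGens
import Cfsg.Agent.Lib.helper94.PJump

/-! End of S5238 block G (helper94): from the jump statement to `≤ p` generators. -/

set_option autoImplicit false

namespace Cfsg.Agent.Lib.helper94.PJump

/-- `P` a chain (from index 2 on) with steps of index at most `p`, trivial from `n` on; `H` a
`p`-subgroup with `|H : H ∩ P 2| ≤ p` whose elements of depth exactly `i` (`2 ≤ i`, `i + p ≤ n`)
have `p`-th power of depth exactly `i + p - 1`.  Then `H` is generated by at most `p` elements. -/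
theorem h94_rank_of_jumps {G : Type*} [Group G] [Finite G] (p : ℕ) [hp : Fact p.Prime]
    (P : ℕ → Subgroup G) (n : ℕ)
    (hanti : ∀ i, 2 ≤ i → P (i + 1) ≤ P i)
    (hidx : ∀ i, 2 ≤ i → Nat.card (P i) ≤ p * Nat.card (P (i + 1)))
    (hbot : ∀ i, n ≤ i → P i = ⊥)
    (H : Subgroup G) (hH : IsPGroup p H)
    (hH2 : Nat.card H ≤ p * Nat.card (H ⊓ P 2 : Subgroup G))
    (hjump : ∀ i, 2 ≤ i → i + p ≤ n → ∀ h ∈ H, h ∈ P i → h ∉ P (i + 1) →
        h ^ p ∈ P (i + p - 1) ∧ h ^ p ∉ P (i + p)) :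
    ∃ T : Finset G, T.card ≤ p ∧ Subgroup.closure (T : Set G) = H :=
  Cfsg.Agent.Lib.helper94.PGens.h94_burnside_basis p H hH p
    (h94_frattini_index_le p P n hanti hidx hbot H hH hH2 hjump)

end Cfsg.Agent.Lib.helper94.PJump
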