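import Mathlib
import Cfsg.Agent.Lib.helper68.HallPet
import Cfsg.Agent.Lib.helper65.PearlDefs
import Cfsg.Agent.Lib.helper65.PearlBasic
import Cfsg.Agent.Lib.helper43.PearlD1

/-! S5238L piece A1 (racing copy by helper94). -/

set_option autoImplicit false

namespace Cfsg.Agent.Lib.helper65.PearlPow

open Cfsg.Agent.Lib.helper68

variable {H : Type*} [Group H]

/-- A1, the induction on the first `k` differences. -/
theorem h94_atom_remove_aux {v : ℕ} (hv : 1 ≤ v) {s : ℕ → H} (hs : PolySeq v s) (k : ℕ)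
    (a : H) (ha : a ∈ gam H (k + v)) (i : ℕ) (hi : i ≤ k) :
    Rel (v + i + 1) (fun n => (a ^ (n.choose (k - i)))⁻¹ * dl^[i] s n)
      (dl^[i] (fun n => (a ^ (n.choose k))⁻¹ * s n)) := by
  induction i with
  | zero =>
    exact rel_of_eq _ (by funext n; simp)
  | succ i ih =>
    have ih' := ih (by omega)
    have hr : PolySeq (v + i) (dl^[i] s) := polyseq_dl_iter hs i
    obtain ⟨m, hm⟩ : ∃ m, k - i = m + 1 := ⟨k - i - 1, by omega⟩
    have hm' : k - (i + 1) = m := by omega
    rw [hm] at ih'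
    rw [hm']
    have hatom1 : PolySeq (v + i) (fun n : ℕ => a ^ (n.choose (m + 1))) := by
      apply PolySeq.atom (m + 1) (v + i) a
      have e : m + 1 + (v + i) = k + v := by omega
      rw [e]; exact ha
    have hatom0 : PolySeq (v + i + 1) (fun n : ℕ => a ^ (n.choose m)) := by
      apply PolySeq.atom m (v + i + 1) a
      have e : m + (v + i + 1) = k + v := by omega
      rw [e]; exact ha
    have ht : PolySeq (v + i) (fun n => (a ^ (n.choose (m + 1)))⁻¹ * dl^[i] s n) :=
      PolySeq.mul (PolySeq.inv hatom1) hr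
    have h1 := rel_dl ht ih'
    have e1 : dl^[i + 1] s = dl (dl^[i] s) := Function.iterate_succ_apply' _ _ _
    have e2 : dl^[i + 1] (fun n => (a ^ (n.choose k))⁻¹ * s n) =
        dl (dl^[i] (fun n => (a ^ (n.choose k))⁻¹ * s n)) := Function.iterate_succ_apply' _ _ _
    rw [e1, e2]
    have e3 : v + (i + 1) + 1 = v + i + 1 + 1 := by ring
    rw [e3]
    refine rel_trans ?_ h1
    unfold Rel
    have hdr : PolySeq (v + i + 1) (dl (dl^[i] s)) := PolySeq.diff hr
    have hcom : PolySeq (v + i + 1 + (v + i))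
        (fun n => com ((a ^ (n.choose m))⁻¹) (dl^[i] s n)) :=
      PolySeq.comm (PolySeq.inv hatom0) hr
    have hcom' : PolySeq (v + i + 1 + 1)
        (fun n => com ((a ^ (n.choose m))⁻¹) (dl^[i] s n)) :=
      PolySeq.mono (by omega) hcom
    have hconj := polyseq_conj hcom' hdr
    have e : (fun n => ((a ^ (n.choose m))⁻¹ * dl (dl^[i] s) n)⁻¹ *
          dl (fun n => (a ^ (n.choose (m + 1)))⁻¹ * dl^[i] s n) n) =
        fun n => (dl (dl^[i] s) n)⁻¹ * com ((a ^ (n.choose m))⁻¹) (dl^[i] s n) *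
          dl (dl^[i] s) n := by
      funext n
      generalize dl^[i] s = r
      show ((a ^ (n.choose m))⁻¹ * ((r n)⁻¹ * r (n + 1)))⁻¹ *
          (((a ^ (n.choose (m + 1)))⁻¹ * r n)⁻¹ *
            ((a ^ ((n + 1).choose (m + 1)))⁻¹ * r (n + 1))) =
        ((r n)⁻¹ * r (n + 1))⁻¹ *
          (((a ^ (n.choose m))⁻¹)⁻¹ * (r n)⁻¹ * (a ^ (n.choose m))⁻¹ * r n) *
          ((r n)⁻¹ * r (n + 1))
      rw [Nat.choose_succ_succ', pow_add]
      generalize a ^ (n.choose m) = A0
      generalize a ^ (n.choose (m + 1)) = A1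
      group
    rw [e]
    exact hconj

/-- A1 (racing copy). -/
theorem h94_atom_remove {v : ℕ} (hv : 1 ≤ v) {s : ℕ → H} (hs : PolySeq v s) (k : ℕ) (hk : 1 ≤ k)
    (a : H) (ha : a ∈ gam H (k + v)) (j : ℕ) (hj : k + 1 ≤ j) :
    Rel (v + j + 1) (dl^[j] s) (dl^[j] (fun n => (a ^ (n.choose k))⁻¹ * s n)) := by
  have hk1 : Rel (v + (k + 1) + 1) (dl^[k + 1] s)
      (dl^[k + 1] (fun n => (a ^ (n.choose k))⁻¹ * s n)) := by
    have h := h94_atom_remove_aux hv hs k a ha k le_rfl
    rw [Nat.sub_self] at h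
    have hr : PolySeq (v + k) (dl^[k] s) := polyseq_dl_iter hs k
    have hc : PolySeq (v + k) (fun n : ℕ => (a ^ (n.choose 0))⁻¹) := by
      apply PolySeq.inv
      apply PolySeq.atom 0 (v + k) a
      have e : 0 + (v + k) = k + v := by omega
      rw [e]; exact ha
    have h1 := rel_dl (PolySeq.mul hc hr) h
    have e1 : dl^[k + 1] s = dl (dl^[k] s) := Function.iterate_succ_apply' _ _ _
    have e2 : dl^[k + 1] (fun n => (a ^ (n.choose k))⁻¹ * s n) =
        dl (dl^[k] (fun n => (a ^ (n.choose k))⁻¹ * s n)) := Function.iterate_succ_apply' _ _ _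
    rw [e1, e2]
    have e3 : dl (fun n => (a ^ (n.choose 0))⁻¹ * dl^[k] s n) = dl (dl^[k] s) := by
      funext n
      generalize dl^[k] s = r
      show ((a ^ (n.choose 0))⁻¹ * r n)⁻¹ * ((a ^ ((n + 1).choose 0))⁻¹ * r (n + 1)) =
        (r n)⁻¹ * r (n + 1)
      simp only [Nat.choose_zero_right, pow_one]
      group
    rw [e3] at h1
    have e4 : v + (k + 1) + 1 = v + k + 1 + 1 := by ring
    rw [e4]
    exact h1
  obtain ⟨d, rfl⟩ : ∃ d, j = k + 1 + d := ⟨j - (k + 1), by omega⟩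
  clear hj
  induction d with
  | zero => exact hk1
  | succ d ih =>
    have h1 := rel_dl (polyseq_dl_iter hs (k + 1 + d)) ih
    have e0 : k + 1 + (d + 1) = (k + 1 + d) + 1 := by ring
    rw [e0]
    have e1 : dl^[(k + 1 + d) + 1] s = dl (dl^[k + 1 + d] s) :=
      Function.iterate_succ_apply' _ _ _
    have e2 : dl^[(k + 1 + d) + 1] (fun n => (a ^ (n.choose k))⁻¹ * s n) =
        dl (dl^[k + 1 + d] (fun n => (a ^ (n.choose k))⁻¹ * s n)) :=
      Function.iterate_succ_apply' _ _ _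
    rw [e1, e2]
    have e4 : v + ((k + 1 + d) + 1) + 1 = v + (k + 1 + d) + 1 + 1 := by ring
    rw [e4]
    exact h1

end Cfsg.Agent.Lib.helper65.PearlPow
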