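import Mathlib
import Cfsg.Agent.Lib.helper68.HallPet
import Cfsg.Agent.Lib.helper79.PearlX
import Cfsg.Agent.Lib.helper30.PearlF3
import Cfsg.Agent.Lib.helper54.PearlF4
import Cfsg.Agent.Lib.helper10.PearlJump
import Cfsg.Agent.Lib.helper94.PGens

/-! S5238 block G assembled (helper94): `pearl_rank` in helper88's interface, from the landed
x-facts (helper79), F3 (helper30), F4 (helper54) and the jump/Burnside end (helper10). -/

set_option autoImplicit false

namespace Cfsg.Agent.Lib.helper94.PearlRank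

open Cfsg.Agent.Lib.helper68

/-- Block G of S5238: a `p`-group (`p` odd) of order `p ^ n` with an element `x` of order
dividing `p` whose centralizer has order `p ^ 2` has all its subgroups generated by at most `p`
elements. -/
theorem h94_pearl_rank {G : Type*} [Group G] [Finite G] (p : ℕ) [Fact p.Prime] (hp2 : p ≠ 2)
    (n : ℕ) (hG : Nat.card G = p ^ n) (x : G) (hx : x ^ p = 1)
    (hC : Nat.card (Subgroup.centralizer ({x} : Set G)) = p ^ 2) (H : Subgroup G) :
    ∃ T : Finset G, T.card ≤ p ∧ Subgroup.closure (T : Set G) = H := by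
  have hp : p.Prime := Fact.out
  have hGp : IsPGroup p G := IsPGroup.of_card hG
  rcases Nat.lt_or_ge n 3 with hn | hn
  · -- small case: |H| ≤ p ^ 2
    have hHc : Nat.card H ≤ p ^ 2 := by
      have h1 : Nat.card H ≤ Nat.card G := Subgroup.card_le_card_group H
      rw [hG] at h1
      exact h1.trans (Nat.pow_le_pow_right hp.pos (by omega))
    obtain ⟨T, hT, hcl⟩ := Cfsg.Agent.Lib.helper94.PGens.h94_pgroup_gens_le p H
      (hGp.to_subgroup H) 2 hHc
    exact ⟨T, hT.trans hp.two_le, hcl⟩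
  · have hcard : ∀ i, 2 ≤ i → i ≤ n → Nat.card (gam G i) = p ^ (n - i) :=
      fun i hi hin => Cfsg.Agent.Lib.helper79.h79_px_card p n hG x hC hn i hi hin
    have hnil : gam G n = ⊥ := by
      have h1 := hcard n (by omega) le_rfl
      rw [Nat.sub_self, pow_zero] at h1
      exact Subgroup.eq_bot_of_card_eq _ h1
    have hF3 : ∀ j, 2 ≤ j → ∀ m ∈ gam G j, m ^ p ∈ gam G (j + p - 1) :=
      fun j hj m hm => Cfsg.Agent.Lib.helper30.h30_pearl_f3 p hGp x hx
        (Cfsg.Agent.Lib.helper79.h79_px_pow p n hG x hx hC hn) j hj m hm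
    have huni : ∀ i, 2 ≤ i → i + 2 ≤ n → ∀ m ∈ gam G i, m ∉ gam G (i + 1) →
        com m x ∉ gam G (i + 2) :=
      fun i hi hin m hm hm' =>
        (Cfsg.Agent.Lib.helper79.h79_px_unis p n hG x hC hn i hi hin m hm hm').2
    have hsurj : ∀ w, 1 ≤ w → w + 1 ≤ n → ∀ m ∈ gam G (w + 1), ∃ g ∈ gam G w, m = com x g := by
      intro w hw hwn m hm
      obtain ⟨g, hg, hgm⟩ := Cfsg.Agent.Lib.helper79.h79_px_onto p n hG x hC hn w hw hwn m hm
      exact ⟨g, hg, hgm.symm⟩
    have hpow := Cfsg.Agent.Lib.helper54.h54_pearl_f4 p hp2 n hnil x hx hF3 huni hsurj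
    exact Cfsg.Agent.Lib.helper52.PearlJ.h10_pearl_jump p n hG (by omega) hcard hpow H

end Cfsg.Agent.Lib.helper94.PearlRank
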