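import Mathlib
import Cfsg.Prelude.Def_FusionSystem
import Cfsg.Agent.Lib.helper88.Saturated
import Cfsg.Agent.Lib.helper65.MaxClassP
import Cfsg.Agent.Lib.helper34.PearlFB
import Cfsg.Agent.Lib.helper38.PearlFC
import Cfsg.Agent.Lib.helper11.PearlFD
import Cfsg.Agent.Lib.helper69.PearlFE
import Cfsg.Agent.Lib.helper85.PearlFG
import Cfsg.Agent.Lib.helper94.PearlRank

/-! S5238 (pearls) assembled (helper94, racer copy of helper88's assembly): the statement of S5238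
from block F (helper34 FB, helper38 FC, helper11 FD, helper69 FE, helper85 FG), helper65's maximal
class lemma and block G (`h94_pearl_rank`). -/

set_option autoImplicit false

namespace Cfsg.Agent.Lib.helper94.PearlMain

open Cfsg Cfsg.FusionSystem

/-- FF: transport of generating sets from `↥S` to `Ω`. -/
theorem h94_rank_transport {Ω : Type*} [Group Ω] (p : ℕ) (S H : Subgroup Ω) (hHS : H ≤ S)
    (h : ∃ T : Finset ↥S, T.card ≤ p ∧ Subgroup.closure (T : Set ↥S) = H.subgroupOf S) :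
    ∃ T : Finset Ω, T.card ≤ p ∧ Subgroup.closure (T : Set Ω) = H := by
  classical
  obtain ⟨T, hT, hcl⟩ := h
  refine ⟨T.image Subtype.val, Finset.card_image_le.trans hT, ?_⟩
  have e : ((T.image Subtype.val : Finset Ω) : Set Ω) = S.subtype '' (T : Set ↥S) := by simp
  rw [e, ← MonoidHom.map_closure, hcl, Subgroup.subgroupOf_map_subtype]
  exact inf_eq_left.2 hHS

/-- The statement of S5238. -/
theorem h94_pearl_main {Ω : Type*} [Group Ω] {S : Subgroup Ω} [Finite S] (p : ℕ) [Fact p.Prime]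
    (hS : IsPGroup p S) (F : Cfsg.FusionSystem S) (hF : F.IsSaturated p) (hp : p ≠ 2)
    (E : Subgroup Ω) (hE : F.IsEssential p E)
    (hpearl : (Nat.card E = p ^ 2 ∧ ∀ x ∈ E, x ^ p = 1 ∧ IsMulCommutative ↥E) ∨
      (Nat.card E = p ^ 3 ∧ ¬ IsMulCommutative ↥E)) :
    (∀ n : ℕ, Nat.card S = p ^ n → 3 ≤ n → Subgroup.lowerCentralSeries S (n - 2) ≠ ⊥) ∧
      ∀ H : Subgroup Ω, H ≤ S → ∃ T : Finset Ω, T.card ≤ p ∧ Subgroup.closure (T : Set Ω) = H := by
  have hES : E ≤ S := hE.1.1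
  have hCE : Cfsg.FusionSystem.centralizerIn S E ≤ E :=
    hE.1.2 E (Cfsg.Agent.Lib.helper88.isConj_refl F hES)
  obtain ⟨hc1, hc2, hc3, hc4⟩ := Cfsg.Agent.Lib.helper88.PearlF.pearl_transfer p S E hES hCE
  obtain ⟨n0, hn0⟩ := IsPGroup.iff_card.1 hS
  have hx : ∃ x : ↥S, x ^ p = 1 ∧ Nat.card (Subgroup.centralizer ({x} : Set ↥S)) = p ^ 2 := by
    rcases hpearl with ⟨hcard, hab⟩ | ⟨hcard, hna⟩
    · exact Cfsg.Agent.Lib.helper88.PearlF.h34_pearl_x_ab p n0 hn0 (E.subgroupOf S)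
        (hc1.trans hcard) (hc4 (fun x hx => (hab x hx).1)) hc2
    · exact Cfsg.Agent.Lib.helper88.PearlF.h38_pearl_x_nonab p n0 hn0 (E.subgroupOf S)
        (hc1.trans hcard) (fun h => hna (hc3 h))
        (hc4 (Cfsg.Agent.Lib.helper88.PearlF.pearl_exp p F hp E hE hcard hna)) hc2
  obtain ⟨x, hxp, hxC⟩ := hx
  refine ⟨?_, ?_⟩
  · intro n hn h3
    have hcl := Cfsg.Agent.Lib.helper65.nilpotencyClass_eq_of_card_centralizer (p := p) n
      (by omega) ↥S hn ⟨x, hxC⟩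
    exact Cfsg.Agent.Lib.helper88.PearlF.lcs_ne_bot_of_class S n h3 hcl
  · intro H hHS
    exact h94_rank_transport p S H hHS
      (Cfsg.Agent.Lib.helper94.PearlRank.h94_pearl_rank p hp n0 hn0 x hxp hxC (H.subgroupOf S))

end Cfsg.Agent.Lib.helper94.PearlMain
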