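import Mathlib
import Cfsg.Prelude.Def_GeometricClasses
import Cfsg.Agent.Lib.helper24.SfoDefs

/-! S5977 / S5978 block [A], KUNIQ sub-split (architect helper2), pieces EVEN and FIB (racer copies, helper94). -/

set_option autoImplicit false

namespace Cfsg.Agent.Lib.helper2

open Cfsg.Geo Matrix Cfsg.Agent.Lib.helper24

/-- EVEN -/
theorem h94_qfu_even_card {F : Type*} [Field F] {ι : Type} [Fintype ι] [DecidableEq ι]
    (δ : F) (hδ : ∀ r : F, r ^ 2 ≠ δ + 0 * r) (κ : Matrix ι ι F)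
    (hκ : κ * κ = δ • (1 : Matrix ι ι F)) : Even (Fintype.card ι) := by
  classical
  by_contra hodd
  rw [Nat.not_even_iff_odd] at hodd
  obtain ⟨m, hm⟩ := hodd
  have hδ0 : δ ≠ 0 := by
    intro h0
    apply hδ 0
    rw [h0]
    ring
  have hdet : κ.det * κ.det = δ ^ (2 * m + 1) := by
    rw [← Matrix.det_mul, hκ, Matrix.det_smul, Matrix.det_one, mul_one, hm]
  apply hδ (κ.det / δ ^ m)
  rw [div_pow, sq, hdet]
  field_simp
  ring

/-- FIB -/
theorem h94_qfu_fib {F : Type*} [Field F] [Fintype F] {ι : Type} [Fintype ι] [DecidableEq ι]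
    (Q : (ι → F) → F) (δ : F) [Fact (∀ r : F, r ^ 2 ≠ δ + 0 * r)]
    (d : ℕ) (Φ : (Fin d → QuadraticAlgebra F δ 0) ≃+ (ι → F))
    (qk : (ι → F) → QuadraticAlgebra F δ 0) (hre : ∀ v, (qk v).re = Q v) :
    Nat.card {v : ι → F // Q v = 1} =
      ∑ b : F, sfoCount (fun k => qk (Φ k)) (⟨1, b⟩ : QuadraticAlgebra F δ 0) := by
  classical
  have hfib : ∀ b : F, sfoCount (fun k => qk (Φ k)) (⟨1, b⟩ : QuadraticAlgebra F δ 0) =
      (Finset.univ.filter (fun v : ι → F => Q v = 1 ∧ (qk v).im = b)).card := by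
    intro b
    unfold sfoCount
    rw [← Fintype.card_subtype, ← Nat.card_eq_fintype_card]
    apply Nat.card_congr
    refine Equiv.subtypeEquiv Φ.toEquiv (fun k => ?_)
    show qk (Φ k) = ⟨1, b⟩ ↔ Q (Φ k) = 1 ∧ (qk (Φ k)).im = b
    rw [QuadraticAlgebra.ext_iff, hre]
  rw [Finset.sum_congr rfl (fun b _ => hfib b), Nat.card_eq_fintype_card, Fintype.card_subtype]
  rw [Finset.card_eq_sum_card_fiberwise (f := fun v => (qk v).im) (t := Finset.univ)
    (fun v _ => Finset.mem_coe.2 (Finset.mem_univ _))]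
  refine Finset.sum_congr rfl (fun b _ => ?_)
  rw [Finset.filter_filter]

end Cfsg.Agent.Lib.helper2
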