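import Mathlib
import Cfsg.Prelude.Def_Spor_Ru

set_option autoImplicit false

namespace Cfsg.Agent.Lib.helper94.RuL

open Cfsg.Spor

/-- list model of a coordinate vector: 28 pairs (re, im). -/
abbrev LV := List (ℤ × ℤ)

def idx (p : RuIdx) : ℕ := 4 * p.1.val + p.2.val

theorem idx_lt (p : RuIdx) : idx p < 28 := by
  have h1 := p.1.isLt; have h2 := p.2.isLt; unfold idx; omega

def toG (a : ℤ × ℤ) : GaussianInt := ⟨a.1, a.2⟩

def sem (l : LV) : RuVec := fun p => toG (l.getD (idx p) (0, 0))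

def piG : GaussianInt := ⟨1, 1⟩

/-- Hermitian product. -/
def herm (x y : RuVec) : GaussianInt := ∑ p, x p * star (y p)

def D4 (z : GaussianInt) : Prop := (4 : ℤ) ∣ z.re ∧ (4 : ℤ) ∣ z.im

theorem D4_zero : D4 0 := ⟨by simp, by simp⟩

theorem D4_add {a b : GaussianInt} (ha : D4 a) (hb : D4 b) : D4 (a + b) :=
  ⟨by rw [Zsqrtd.re_add]; exact dvd_add ha.1 hb.1, by rw [Zsqrtd.im_add]; exact dvd_add ha.2 hb.2⟩

theorem D4_mul (c : GaussianInt) {a : GaussianInt} (ha : D4 a) : D4 (c * a) := by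
  obtain ⟨⟨k, hk⟩, ⟨m, hm⟩⟩ := ha
  constructor
  · rw [Zsqrtd.re_mul, hk, hm]; exact ⟨c.re * k + -1 * c.im * m, by ring⟩
  · rw [Zsqrtd.im_mul, hk, hm]; exact ⟨c.re * m + c.im * k, by ring⟩

theorem herm_add_left (x y w : RuVec) : herm (x + y) w = herm x w + herm y w := by
  simp only [herm, Pi.add_apply, add_mul, Finset.sum_add_distrib]

theorem herm_smul_left (c : GaussianInt) (x w : RuVec) : herm (c • x) w = c * herm x w := by
  simp only [herm, Pi.smul_apply, smul_eq_mul, mul_assoc, Finset.mul_sum]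

theorem herm_zero_left (w : RuVec) : herm 0 w = 0 := by
  simp [herm]

theorem herm_add_right (x y w : RuVec) : herm x (y + w) = herm x y + herm x w := by
  simp only [herm, Pi.add_apply, star_add, mul_add, Finset.sum_add_distrib]

theorem herm_smul_right (c : GaussianInt) (x w : RuVec) : herm x (c • w) = star c * herm x w := by
  simp only [herm, Pi.smul_apply, smul_eq_mul, star_mul', Finset.mul_sum]
  refine Finset.sum_congr rfl fun p _ => ?_
  ring

theorem herm_zero_right (x : RuVec) : herm x 0 = 0 := by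
  simp [herm]

/-- real part as an additive hom -/
def reHom : GaussianInt →+ ℤ where
  toFun z := z.re
  map_zero' := rfl
  map_add' _ _ := rfl

theorem re_sum {ι : Type} (s : Finset ι) (f : ι → GaussianInt) : (∑ i ∈ s, f i).re = ∑ i ∈ s, (f i).re :=
  map_sum reHom f s

theorem ruNorm_add (x y : RuVec) : ruNorm (x + y) = ruNorm x + ruNorm y + 2 * (herm x y).re := by
  unfold ruNorm herm
  rw [re_sum, Finset.mul_sum, ← Finset.sum_add_distrib, ← Finset.sum_add_distrib]
  refine Finset.sum_congr rfl fun p _ => ?_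
  simp only [Pi.add_apply, Zsqrtd.norm_def, Zsqrtd.re_add, Zsqrtd.im_add, Zsqrtd.re_mul, Zsqrtd.re_star,
    Zsqrtd.im_star]
  ring

theorem ruNorm_smul (c : GaussianInt) (x : RuVec) : ruNorm (c • x) = c.norm * ruNorm x := by
  unfold ruNorm
  rw [Finset.mul_sum]
  refine Finset.sum_congr rfl fun p _ => ?_
  simp only [Pi.smul_apply, smul_eq_mul, Zsqrtd.norm_mul]

theorem ruNorm_zero : ruNorm 0 = 0 := by
  simp [ruNorm]

theorem gnorm_nonneg (z : GaussianInt) : 0 ≤ z.norm := Zsqrtd.norm_nonneg (by decide) z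

theorem ruNorm_nonneg (x : RuVec) : 0 ≤ ruNorm x :=
  Finset.sum_nonneg fun p _ => gnorm_nonneg _

theorem ruNorm_eq_zero {x : RuVec} (h : ruNorm x = 0) : x = 0 := by
  funext p
  have h1 := (Finset.sum_eq_zero_iff_of_nonneg (fun p _ => gnorm_nonneg (x p))).1 h p (Finset.mem_univ _)
  exact (Zsqrtd.norm_eq_zero_iff (by decide) _).1 h1

/-- reindexing sums over the 28 coordinates. -/
theorem sum_idx {M : Type} [AddCommMonoid M] (f : ℕ → M) :
    ∑ p : RuIdx, f (idx p) = ∑ k ∈ Finset.range 28, f k := by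
  rw [← Fin.sum_univ_eq_sum_range f 28]
  refine Fintype.sum_equiv finProdFinEquiv _ _ fun p => ?_
  congr 1
  simp only [idx, finProdFinEquiv_apply_val]
  omega

end Cfsg.Agent.Lib.helper94.RuL
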