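import Mathlib
import Cfsg.Prelude.Def_Spor_Ru
import Cfsg.Agent.Lib.helper94.RuData

set_option autoImplicit false
set_option maxRecDepth 100000

namespace Cfsg.Agent.Lib.helper94.RuL

open Cfsg.Spor

/-! Subset-sum (parity) checks for the two levels of the filtration, and witness checks. -/

def twoBlkMasks : List ℕ := [255, 3855, 61455, 983055, 15728655, 251658255, 4080, 61680, 983280, 15728880, 251658480, 65280, 986880, 15732480, 251662080, 1044480, 15790080, 251719680, 16711680, 252641280, 267386880]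
def oneBlkMasks : List ℕ := [15, 240, 3840, 61440, 983040, 15728640, 251658240]

theorem twoBlk_spec : ∀ m ∈ twoBlkMasks, ∃ n n' : Fin 7, n ≠ n' ∧
    ∀ k, k < 28 → m.testBit k = decide (k / 4 = n.val ∨ k / 4 = n'.val) := by decide +kernel

theorem oneBlk_spec : ∀ m ∈ oneBlkMasks, ∃ n : Fin 7,
    ∀ k, k < 28 → m.testBit k = decide (k / 4 = n.val) := by decide +kernel

def P0 (y : LV) : Bool :=
  (y.length == 28) && (isZeroL y || fNat (parMaskL y) fun m =>
    (twoBlkMasks.contains m || decide (9 ≤ popc 28 m)))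

def P1 (y : LV) : Bool :=
  (y.length == 28) && (isZeroL y || fNat (parMaskL y) fun m =>
    (oneBlkMasks.contains m || decide (5 ≤ popc 28 m)))

theorem idx_div (p : RuIdx) : idx p / 4 = p.1.val := by
  have := p.2.isLt
  unfold idx; omega

theorem P0_spec {y : LV} (h : P0 y = true) : y.length = 28 ∧ (isZeroL y = true ∨
    (∃ n n' : Fin 7, n ≠ n' ∧ ∀ p : RuIdx, (oddP (y.getD (idx p) (0, 0)) = true ↔ (p.1 = n ∨ p.1 = n')))
    ∨ 9 ≤ weightL y) := by
  simp only [P0, Bool.and_eq_true, Bool.or_eq_true, fNat_eq, beq_iff_eq, decide_eq_true_eq,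
    List.contains_iff_mem] at h
  obtain ⟨hl, h | h | h⟩ := h
  · exact ⟨hl, Or.inl h⟩
  · refine ⟨hl, Or.inr (Or.inl ?_)⟩
    obtain ⟨n, n', hne, hb⟩ := twoBlk_spec _ h
    refine ⟨n, n', hne, fun p => ?_⟩
    rw [← parMaskL_testBit, hb _ (idx_lt p), idx_div, decide_eq_true_eq, Fin.ext_iff, Fin.ext_iff]
  · refine ⟨hl, Or.inr (Or.inr ?_)⟩
    rwa [popc_parMaskL y 28 (le_of_eq hl)] at h

theorem P1_spec {y : LV} (h : P1 y = true) : y.length = 28 ∧ (isZeroL y = true ∨
    (∃ n : Fin 7, ∀ p : RuIdx, (oddP (y.getD (idx p) (0, 0)) = true ↔ p.1 = n))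
    ∨ 5 ≤ weightL y) := by
  simp only [P1, Bool.and_eq_true, Bool.or_eq_true, fNat_eq, beq_iff_eq, decide_eq_true_eq,
    List.contains_iff_mem] at h
  obtain ⟨hl, h | h | h⟩ := h
  · exact ⟨hl, Or.inl h⟩
  · refine ⟨hl, Or.inr (Or.inl ?_)⟩
    obtain ⟨n, hb⟩ := oneBlk_spec _ h
    refine ⟨n, fun p => ?_⟩
    rw [← parMaskL_testBit, hb _ (idx_lt p), idx_div, decide_eq_true_eq, Fin.ext_iff]
  · refine ⟨hl, Or.inr (Or.inr ?_)⟩
    rwa [popc_parMaskL y 28 (le_of_eq hl)] at h

theorem sub0_okF : (fLL G0 fun G => allSubF G zeroL P0) = true := by decide +kernel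

def H0head : LV := decN 28 (G0c.headD 0)
def H0tail : List LV := G0c.tail.map (decN 28) ++ G1a

theorem H0_eq : G0 ++ G1a = H0head :: H0tail := rfl

theorem sub1_okFa : (fLL H0tail fun G => allSubF G zeroL P1) = true := by decide +kernel

theorem sub1_okFb : (fLL H0tail fun G => fL (addL zeroL H0head) fun a => allSubF G a P1) = true := by
  decide +kernel

theorem sub0_ok : allSub G0 zeroL P0 = true := by
  have h := sub0_okF
  rwa [fLL_eq, allSubF_eq] at h

theorem sub1_ok : allSub (G0 ++ G1a) zeroL P1 = true := by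
  have ha := sub1_okFa
  have hb := sub1_okFb
  rw [fLL_eq, allSubF_eq] at ha
  rw [fLL_eq, fL_eq, allSubF_eq] at hb
  rw [H0_eq, allSub, ha, hb]
  rfl

end Cfsg.Agent.Lib.helper94.RuL
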