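import Mathlib
import Cfsg.Prelude.Def_Spor_Ru
import Cfsg.Agent.Lib.helper94.RuData

set_option autoImplicit false
set_option maxRecDepth 100000

namespace Cfsg.Agent.Lib.helper94.RuL

open Cfsg.Spor

def pOfNat (k : ℕ) : RuIdx :=
  (⟨k / 4 % 7, Nat.mod_lt _ (by norm_num)⟩, ⟨k % 4, Nat.mod_lt _ (by norm_num)⟩)

theorem pOfNat_idx (p : RuIdx) : pOfNat (idx p) = p := by
  obtain ⟨⟨a, ha⟩, ⟨t, ht⟩⟩ := p
  simp only [pOfNat, idx, Prod.mk.injEq, Fin.mk.injEq]
  constructor <;> omega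

def toListV (v : RuVec) : LV :=
  (List.range 28).map fun k => ((v (pOfNat k)).re, (v (pOfNat k)).im)

theorem sem_toListV (v : RuVec) : sem (toListV v) = v := by
  funext p
  simp only [sem, toListV]
  rw [List.getD_eq_getElem?_getD, List.getElem?_map, List.getElem?_range (idx_lt p)]
  simp [toG, pOfNat_idx]

theorem ruRj_add (x y : RuVec) : ruRj (x + y) = ruRj x + ruRj y := by
  funext p
  obtain ⟨n, t⟩ := p
  fin_cases t <;> simp [ruRj, mul_add] <;> abel

theorem ruRj_smul (c : GaussianInt) (x : RuVec) : ruRj (c • x) = c • ruRj x := by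
  funext p
  obtain ⟨n, t⟩ := p
  fin_cases t <;> simp [ruRj] <;> ring

theorem ruRk_add (x y : RuVec) : ruRk (x + y) = ruRk x + ruRk y := by
  funext p
  obtain ⟨n, t⟩ := p
  fin_cases t <;> simp [ruRk, mul_add] <;> abel

theorem ruRk_smul (c : GaussianInt) (x : RuVec) : ruRk (c • x) = c • ruRk x := by
  funext p
  obtain ⟨n, t⟩ := p
  fin_cases t <;> simp [ruRk] <;> ring

theorem ruSign_add (x y : RuVec) : ruSign (x + y) = ruSign x + ruSign y := by
  funext p
  simp only [ruSign, Pi.add_apply]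
  split_ifs <;> abel

theorem ruSign_smul (c : GaussianInt) (x : RuVec) : ruSign (c • x) = c • ruSign x := by
  funext p
  simp only [ruSign, Pi.smul_apply, smul_eq_mul]
  split_ifs <;> ring

theorem ruShift_add (x y : RuVec) : ruShift (x + y) = ruShift x + ruShift y := rfl

theorem ruShift_smul (c : GaussianInt) (x : RuVec) : ruShift (c • x) = c • ruShift x := rfl

theorem map_closed (f : RuVec → RuVec) (hadd : ∀ x y, f (x + y) = f x + f y)
    (hsmul : ∀ (c : GaussianInt) x, f (c • x) = c • f x) (bs : List LV)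
    (hgen : ∀ b ∈ bs, f (sem b) ∈ spanL bs) : ∀ v ∈ spanL bs, f v ∈ spanL bs := by
  intro v hv
  refine Submodule.span_induction (p := fun v _ => f v ∈ spanL bs) ?_ ?_ ?_ ?_ hv
  · rintro v ⟨b, hb, rfl⟩
    exact hgen b hb
  · have : f 0 = 0 := by
      have := hsmul 0 0
      simpa using this
    rw [this]; exact Submodule.zero_mem _
  · intro x y _ _ h1 h2
    rw [hadd]; exact Submodule.add_mem _ h1 h2
  · intro c x _ h1
    rw [hsmul]; exact Submodule.smul_mem _ _ h1

/-- list form of a monomial map: entry `k` of the image is `u * (entry src)`. -/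
def mapL (spec : List (ℕ × (ℤ × ℤ))) (b : LV) : LV := spec.map fun e => mulP e.2 (b.getD e.1 (0, 0))

def specRj : List (ℕ × (ℤ × ℤ)) := [(1, (0, 1)), (0, (0, 1)), (3, (1, 0)), (2, (-1, 0)), (5, (0, 1)), (4, (0, 1)), (7, (1, 0)), (6, (-1, 0)), (9, (0, 1)), (8, (0, 1)), (11, (1, 0)), (10, (-1, 0)), (13, (0, 1)), (12, (0, 1)), (15, (1, 0)), (14, (-1, 0)), (17, (0, 1)), (16, (0, 1)), (19, (1, 0)), (18, (-1, 0)), (21, (0, 1)), (20, (0, 1)), (23, (1, 0)), (22, (-1, 0)), (25, (0, 1)), (24, (0, 1)), (27, (1, 0)), (26, (-1, 0))]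
def specRk : List (ℕ × (ℤ × ℤ)) := [(2, (0, 1)), (3, (-1, 0)), (0, (0, 1)), (1, (1, 0)), (6, (0, 1)), (7, (-1, 0)), (4, (0, 1)), (5, (1, 0)), (10, (0, 1)), (11, (-1, 0)), (8, (0, 1)), (9, (1, 0)), (14, (0, 1)), (15, (-1, 0)), (12, (0, 1)), (13, (1, 0)), (18, (0, 1)), (19, (-1, 0)), (16, (0, 1)), (17, (1, 0)), (22, (0, 1)), (23, (-1, 0)), (20, (0, 1)), (21, (1, 0)), (26, (0, 1)), (27, (-1, 0)), (24, (0, 1)), (25, (1, 0))]
def specSign : List (ℕ × (ℤ × ℤ)) := [(0, (-1, 0)), (1, (-1, 0)), (2, (-1, 0)), (3, (-1, 0)), (4, (1, 0)), (5, (1, 0)), (6, (1, 0)), (7, (1, 0)), (8, (1, 0)), (9, (1, 0)), (10, (1, 0)), (11, (1, 0)), (12, (-1, 0)), (13, (-1, 0)), (14, (-1, 0)), (15, (-1, 0)), (16, (1, 0)), (17, (1, 0)), (18, (1, 0)), (19, (1, 0)), (20, (-1, 0)), (21, (-1, 0)), (22, (-1, 0)), (23, (-1, 0)), (24, (-1, 0)), (25, (-1, 0)), (26, (-1, 0)), (27, (-1, 0))]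
def specShift : List (ℕ × (ℤ × ℤ)) := [(4, (1, 0)), (5, (1, 0)), (6, (1, 0)), (7, (1, 0)), (8, (1, 0)), (9, (1, 0)), (10, (1, 0)), (11, (1, 0)), (12, (1, 0)), (13, (1, 0)), (14, (1, 0)), (15, (1, 0)), (16, (1, 0)), (17, (1, 0)), (18, (1, 0)), (19, (1, 0)), (20, (1, 0)), (21, (1, 0)), (22, (1, 0)), (23, (1, 0)), (24, (1, 0)), (25, (1, 0)), (26, (1, 0)), (27, (1, 0)), (0, (1, 0)), (1, (1, 0)), (2, (1, 0)), (3, (1, 0))]

theorem toG_one : toG (1, 0) = 1 := rfl
theorem toG_negone : toG (-1, 0) = -1 := rfl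
theorem toG_gI : toG (0, 1) = gI := rfl

theorem sem_mapL_rj (b : LV) : sem (mapL specRj b) = ruRj (sem b) := by
  funext p
  obtain ⟨n, t⟩ := p
  fin_cases n <;> fin_cases t <;>
    simp [sem, mapL, specRj, idx, ruRj, toG_mulP, toG_one, toG_negone, toG_gI]

theorem sem_mapL_rk (b : LV) : sem (mapL specRk b) = ruRk (sem b) := by
  funext p
  obtain ⟨n, t⟩ := p
  fin_cases n <;> fin_cases t <;>
    simp [sem, mapL, specRk, idx, ruRk, toG_mulP, toG_one, toG_negone, toG_gI]

theorem sem_mapL_sign (b : LV) : sem (mapL specSign b) = ruSign (sem b) := by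
  funext p
  obtain ⟨n, t⟩ := p
  fin_cases n <;> fin_cases t <;>
    simp [sem, mapL, specSign, idx, ruSign, toG_mulP, toG_one, toG_negone, toG_gI]

theorem sem_mapL_shift (b : LV) : sem (mapL specShift b) = ruShift (sem b) := by
  funext p
  obtain ⟨n, t⟩ := p
  fin_cases n <;> fin_cases t <;>
    simp [sem, mapL, specShift, idx, ruShift, toG_mulP, toG_one, toG_negone, toG_gI]

theorem G1_struct : G1 = G1a ++ G2.map (smulL (1, 1)) := by
  have h : (fLL G1 fun A => fLL (G1a ++ G2.map (smulL (1, 1))) fun B => A == B) = true := by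
    decide +kernel
  rw [fLL_eq, fLL_eq] at h
  simpa using h

theorem Bdata_struct0 : Bdata = G0 ++ G1.map (smulL (1, 1)) := by
  have h : (fLL Bdata fun A => fLL (G0 ++ G1.map (smulL (1, 1))) fun B => A == B) = true := by
    decide +kernel
  rw [fLL_eq, fLL_eq] at h
  simpa using h

theorem Bdata_struct : Bdata = G0 ++ (G1a ++ G2.map (smulL (1, 1))).map (smulL (1, 1)) := by
  rw [Bdata_struct0, G1_struct]

theorem Bdata_len : lenOK Bdata = true := by decide +kernel

theorem Bdata_norm : normOK Bdata = true := by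
  rw [← normF_eq]; decide +kernel

theorem Bdata_gram : gramOK Bdata Bdata = true := by
  rw [← gramF_eq]; decide +kernel

theorem tab_ok : (fLL Bdata fun B => all2 ruTable coefTable
    (fun v c => fL c fun c' => toListV v == combF c' B zeroL)) = true := by
  decide +kernel

theorem mem_of_comb (t c : LV) (h : (t == combF c Bdata zeroL) = true) : sem t ∈ spanL Bdata := by
  have ht : t = combF c Bdata zeroL := by simpa using h
  obtain ⟨_, z, hz, he⟩ := combF_spec c Bdata zeroL (lenOK_iff Bdata_len) (by simp [zeroL])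
  rw [ht, he, sem_zeroL, zero_add]; exact hz

theorem table_mem : ∀ v ∈ ruTable, v ∈ spanL Bdata := by
  intro v hv
  have h := tab_ok
  rw [fLL_eq] at h
  obtain ⟨c, hc⟩ := all2_sound _ _ _ h v hv
  simp only [fL_eq] at hc
  rw [← sem_toListV v]
  exact mem_of_comb _ c hc

theorem all2_chunks {α β : Type} (f : α → β → Bool) (as : List α) (bs : List β) (n1 n2 : ℕ)
    (h1 : all2 (as.take n1) (bs.take n1) f = true)
    (h2 : all2 ((as.drop n1).take n2) ((bs.drop n1).take n2) f = true)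
    (h3 : all2 ((as.drop n1).drop n2) ((bs.drop n1).drop n2) f = true) :
    ∀ a ∈ as, ∃ b, f a b = true := by
  intro a ha
  rw [← List.take_append_drop n1 as, List.mem_append] at ha
  rcases ha with ha | ha
  · exact all2_sound f _ _ h1 a ha
  · rw [← List.take_append_drop n2 (as.drop n1), List.mem_append] at ha
    rcases ha with ha | ha
    · exact all2_sound f _ _ h2 a ha
    · exact all2_sound f _ _ h3 a ha

end Cfsg.Agent.Lib.helper94.RuL
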