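import Mathlib
import Cfsg.Prelude.Def_Spor_Ru
import Cfsg.Agent.Lib.helper94.RuClosed

set_option autoImplicit false
set_option maxRecDepth 100000

namespace Cfsg.Agent.Lib.helper94.RuL

open Cfsg.Spor

/-! Closure of the span of the generators under `ruRk` (coefficient certificates, in three chunks). -/

theorem rk_ok1 : (fLL Bdata fun B => all2 (B.take 16) (coefRk.take 16)
    (fun b c => fL c fun c' => mapL specRk b == combF c' B zeroL)) = true := by
  decide +kernel

theorem rk_ok2 : (fLL Bdata fun B => all2 ((B.drop 16).take 16) ((coefRk.drop 16).take 16)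
    (fun b c => fL c fun c' => mapL specRk b == combF c' B zeroL)) = true := by
  decide +kernel

theorem rk_ok3 : (fLL Bdata fun B => all2 ((B.drop 16).drop 16) ((coefRk.drop 16).drop 16)
    (fun b c => fL c fun c' => mapL specRk b == combF c' B zeroL)) = true := by
  decide +kernel

theorem rk_mem : ∀ b ∈ Bdata, ruRk (sem b) ∈ spanL Bdata := by
  intro b hb
  have h1 := rk_ok1
  have h2 := rk_ok2
  have h3 := rk_ok3
  rw [fLL_eq] at h1 h2 h3
  obtain ⟨c, hc⟩ := all2_chunks _ _ _ 16 16 h1 h2 h3 b hb
  simp only [fL_eq] at hc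
  rw [← sem_mapL_rk]
  exact mem_of_comb _ c hc

end Cfsg.Agent.Lib.helper94.RuL
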