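import Mathlib
import Cfsg.Prelude.Def_Spor_Ru
import Cfsg.Agent.Lib.helper94.RuClosedRj
import Cfsg.Agent.Lib.helper94.RuClosedRk
import Cfsg.Agent.Lib.helper94.RuClosedSign
import Cfsg.Agent.Lib.helper94.RuClosedShift

set_option autoImplicit false

namespace Cfsg.Agent.Lib.helper94.RuL

open Cfsg.Spor

/-- the stored lattice is contained in the span of the explicit generators. -/
theorem ruLattice_le : ∀ x ∈ ruLattice, x ∈ spanL Bdata := by
  intro x hx
  have hmem : (spanL Bdata).toAddSubgroup ∈ ruClosed := by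
    refine ⟨fun v hv => table_mem v hv, fun v hv => ⟨?_, ?_, ?_, ?_, ?_⟩⟩
    · exact Submodule.smul_mem _ gI hv
    · exact map_closed ruRj ruRj_add ruRj_smul Bdata rj_mem v hv
    · exact map_closed ruRk ruRk_add ruRk_smul Bdata rk_mem v hv
    · exact map_closed ruSign ruSign_add ruSign_smul Bdata sign_mem v hv
    · exact map_closed ruShift ruShift_add ruShift_smul Bdata shift_mem v hv
  rw [ruLattice, AddSubgroup.mem_sInf] at hx
  exact hx _ hmem

end Cfsg.Agent.Lib.helper94.RuL
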