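import Mathlib
import Cfsg.Prelude.Def_Spor_Ru
import Cfsg.Agent.Lib.helper94.RuBasic

set_option autoImplicit false

namespace Cfsg.Agent.Lib.helper94.RuL

open Cfsg.Spor

def addP (a b : ℤ × ℤ) : ℤ × ℤ := (a.1 + b.1, a.2 + b.2)
def mulP (a b : ℤ × ℤ) : ℤ × ℤ := (a.1 * b.1 - a.2 * b.2, a.1 * b.2 + a.2 * b.1)
def mulConjP (a b : ℤ × ℤ) : ℤ × ℤ := (a.1 * b.1 + a.2 * b.2, a.2 * b.1 - a.1 * b.2)

theorem toG_zero : toG (0, 0) = 0 := rfl

theorem toG_addP (a b : ℤ × ℤ) : toG (addP a b) = toG a + toG b := by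
  ext <;> simp [toG, addP]

theorem toG_mulP (a b : ℤ × ℤ) : toG (mulP a b) = toG a * toG b := by
  ext <;> simp [toG, mulP] <;> ring

theorem toG_mulConjP (a b : ℤ × ℤ) : toG (mulConjP a b) = toG a * star (toG b) := by
  ext <;> simp [toG, mulConjP] <;> ring

def addL (a b : LV) : LV := List.zipWith addP a b
def smulL (c : ℤ × ℤ) (a : LV) : LV := a.map (mulP c)

theorem getD_zipWith0 (h : ℤ × ℤ → ℤ × ℤ → ℤ × ℤ) (h0 : h (0, 0) (0, 0) = (0, 0)) :
    ∀ (a b : LV) (k : ℕ), a.length = b.length →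
      (List.zipWith h a b).getD k (0, 0) = h (a.getD k (0, 0)) (b.getD k (0, 0))
  | [], [], k, _ => by simp [h0]
  | [], _ :: _, _, hl => by simp at hl
  | _ :: _, [], _, hl => by simp at hl
  | a :: as, b :: bs, 0, _ => by simp
  | a :: as, b :: bs, k + 1, hl => by
      simp only [List.zipWith_cons_cons, List.getD_cons_succ]
      exact getD_zipWith0 h h0 as bs k (by simpa using hl)

theorem getD_map0 (f : ℤ × ℤ → ℤ × ℤ) (h0 : f (0, 0) = (0, 0)) :
    ∀ (a : LV) (k : ℕ), (a.map f).getD k (0, 0) = f (a.getD k (0, 0))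
  | [], k => by simp [h0]
  | a :: as, 0 => by simp
  | a :: as, k + 1 => by
      simp only [List.map_cons, List.getD_cons_succ]
      exact getD_map0 f h0 as k

theorem length_addL (a b : LV) (h : a.length = b.length) : (addL a b).length = a.length := by
  simp [addL, h]

theorem length_smulL (c : ℤ × ℤ) (a : LV) : (smulL c a).length = a.length := by
  simp [smulL]

theorem sem_addL (a b : LV) (h : a.length = b.length) : sem (addL a b) = sem a + sem b := by
  funext p
  simp only [sem, addL, Pi.add_apply]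
  rw [getD_zipWith0 addP rfl a b _ h, toG_addP]

theorem sem_smulL (c : ℤ × ℤ) (a : LV) : sem (smulL c a) = toG c • sem a := by
  funext p
  simp only [sem, smulL, Pi.smul_apply, smul_eq_mul]
  rw [getD_map0 (mulP c) (by simp [mulP]) a, toG_mulP]

def sumP : LV → ℤ × ℤ
  | [] => (0, 0)
  | a :: l => addP a (sumP l)

theorem sum_range_getD : ∀ (l : LV),
    ∑ k ∈ Finset.range l.length, toG (l.getD k (0, 0)) = toG (sumP l)
  | [] => by simp [sumP, toG_zero]
  | a :: l => by
      rw [List.length_cons, Finset.sum_range_succ']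
      simp only [List.getD_cons_succ, List.getD_cons_zero]
      rw [sum_range_getD l, sumP, toG_addP, add_comm]

def hermL (a b : LV) : ℤ × ℤ := sumP (List.zipWith mulConjP a b)

theorem herm_sem (a b : LV) (ha : a.length = 28) (hb : b.length = 28) :
    herm (sem a) (sem b) = toG (hermL a b) := by
  have hl : (List.zipWith mulConjP a b).length = 28 := by simp [ha, hb]
  have h1 : ∀ p : RuIdx, sem a p * star (sem b p) =
      toG ((List.zipWith mulConjP a b).getD (idx p) (0, 0)) := by
    intro p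
    rw [getD_zipWith0 mulConjP (by simp [mulConjP]) a b _ (by rw [ha, hb]), toG_mulConjP]
    rfl
  unfold herm
  rw [Finset.sum_congr rfl fun p _ => h1 p]
  rw [sum_idx (fun k => toG ((List.zipWith mulConjP a b).getD k (0, 0))), ← hl, sum_range_getD]
  rfl

theorem ruNorm_eq_herm (x : RuVec) : ruNorm x = (herm x x).re := by
  unfold ruNorm herm
  rw [re_sum]
  refine Finset.sum_congr rfl fun p _ => ?_
  simp only [Zsqrtd.norm_def, Zsqrtd.re_mul, Zsqrtd.re_star, Zsqrtd.im_star]
  ring

theorem ruNorm_sem (a : LV) (ha : a.length = 28) : ruNorm (sem a) = (hermL a a).1 := by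
  rw [ruNorm_eq_herm, herm_sem a a ha ha]; rfl

def oddP (a : ℤ × ℤ) : Bool := (a.1 + a.2) % 2 == 1

def gOdd (z : GaussianInt) : Prop := (z.re + z.im) % 2 = 1

def weightL : LV → ℕ
  | [] => 0
  | a :: l => (if oddP a then 1 else 0) + weightL l

theorem weight_range : ∀ (l : LV),
    ∑ k ∈ Finset.range l.length, (if oddP (l.getD k (0, 0)) then (1 : ℤ) else 0) = (weightL l : ℤ)
  | [] => by simp [weightL]
  | a :: l => by
      rw [List.length_cons, Finset.sum_range_succ']
      simp only [List.getD_cons_succ, List.getD_cons_zero]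
      rw [weight_range l, weightL]
      push_cast
      split_ifs <;> ring

theorem norm_ge_of_odd {z : GaussianInt} (h : gOdd z) : 1 ≤ z.norm := by
  have h0 := gnorm_nonneg z
  rcases h0.lt_or_eq with h1 | h1
  · omega
  · exfalso
    have hz : z = 0 := (Zsqrtd.norm_eq_zero_iff (by decide) _).1 h1.symm
    rw [hz] at h
    simp [gOdd] at h

theorem weight_le_norm (x : RuVec) (y : LV) (hy : y.length = 28)
    (h : ∀ p, gOdd (x p) ↔ oddP (y.getD (idx p) (0, 0)) = true) : (weightL y : ℤ) ≤ ruNorm x := by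
  rw [← weight_range y, hy, ← sum_idx (fun k => if oddP (y.getD k (0, 0)) then (1 : ℤ) else 0)]
  unfold ruNorm
  refine Finset.sum_le_sum fun p _ => ?_
  split_ifs with hp
  · exact norm_ge_of_odd ((h p).2 hp)
  · exact gnorm_nonneg _

theorem odd_of_decomp (x z : RuVec) (y : LV) (hx : x = sem y + piG • z) (p : RuIdx) :
    gOdd (x p) ↔ oddP (y.getD (idx p) (0, 0)) = true := by
  subst hx
  simp only [gOdd, oddP, Pi.add_apply, Pi.smul_apply, smul_eq_mul, sem, toG, piG, Zsqrtd.re_add,
    Zsqrtd.im_add, Zsqrtd.re_mul, Zsqrtd.im_mul, beq_iff_eq]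
  omega

end Cfsg.Agent.Lib.helper94.RuL
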