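import Mathlib
import Cfsg.Prelude.Def_Spor_Ru
import Cfsg.Agent.Lib.helper94.RuList

set_option autoImplicit false

namespace Cfsg.Agent.Lib.helper94.RuL

open Cfsg.Spor

def spanL (gs : List LV) : Submodule GaussianInt RuVec :=
  Submodule.span GaussianInt {v | ∃ g ∈ gs, v = sem g}

theorem sem_mem_spanL {gs : List LV} {g : LV} (h : g ∈ gs) : sem g ∈ spanL gs :=
  Submodule.subset_span ⟨g, h, rfl⟩

theorem spanL_mono {gs hs : List LV} (h : ∀ g ∈ gs, g ∈ hs) : spanL gs ≤ spanL hs :=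
  Submodule.span_mono (fun _ ⟨g, hg, hv⟩ => ⟨g, h g hg, hv⟩)

theorem spanL_nil : spanL [] = ⊥ := by
  unfold spanL
  have : {v : RuVec | ∃ g ∈ ([] : List LV), v = sem g} = ∅ := by
    ext v; simp
  rw [this, Submodule.span_empty]

theorem spanL_cons (g : LV) (gs : List LV) :
    spanL (g :: gs) = Submodule.span GaussianInt (insert (sem g) {v | ∃ g' ∈ gs, v = sem g'}) := by
  unfold spanL
  congr 1
  ext v
  simp

theorem spanL_append (as bs : List LV) : spanL (as ++ bs) = spanL as ⊔ spanL bs := by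
  unfold spanL
  rw [← Submodule.span_union]
  congr 1
  ext v
  simp only [List.mem_append, Set.mem_ofPred_eq, Set.mem_union]
  constructor
  · rintro ⟨g, hg | hg, rfl⟩
    · exact Or.inl ⟨g, hg, rfl⟩
    · exact Or.inr ⟨g, hg, rfl⟩
  · rintro (⟨g, hg, rfl⟩ | ⟨g, hg, rfl⟩)
    · exact ⟨g, Or.inl hg, rfl⟩
    · exact ⟨g, Or.inr hg, rfl⟩

def zeroL : LV := List.replicate 28 (0, 0)

theorem getD_of_all_zero (y : LV) (h : ∀ a ∈ y, a = (0, 0)) (k : ℕ) : y.getD k (0, 0) = (0, 0) := by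
  rw [List.getD_eq_getElem?_getD]
  cases hk : y[k]? with
  | none => rfl
  | some a => exact h a (List.mem_of_getElem? hk)

def isZeroL (y : LV) : Bool := y.all (fun a => a == (0, 0))

theorem sem_of_isZeroL {y : LV} (h : isZeroL y = true) : sem y = 0 := by
  funext p
  have h' : ∀ a ∈ y, a = (0, 0) := by
    intro a ha
    have := List.all_eq_true.1 h a ha
    simpa using this
  simp only [sem, getD_of_all_zero y h', Pi.zero_apply]
  rfl

theorem sem_zeroL : sem zeroL = 0 := sem_of_isZeroL (by decide)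

def allSub : List LV → LV → (LV → Bool) → Bool
  | [], acc, P => P acc
  | g :: gs, acc, P => allSub gs acc P && allSub gs (addL acc g) P

theorem gauss_mod_pi (a : GaussianInt) : ∃ a', a = piG * a' ∨ a = 1 + piG * a' := by
  by_cases h : (a.re + a.im) % 2 = 0
  · refine ⟨⟨(a.re + a.im) / 2, (a.im - a.re) / 2⟩, Or.inl ?_⟩
    ext
    · simp only [piG, Zsqrtd.re_mul]; omega
    · simp only [piG, Zsqrtd.im_mul]; omega
  · refine ⟨⟨(a.re - 1 + a.im) / 2, (a.im - (a.re - 1)) / 2⟩, Or.inr ?_⟩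
    ext
    · simp only [piG, Zsqrtd.re_add, Zsqrtd.re_one, Zsqrtd.re_mul]; omega
    · simp only [piG, Zsqrtd.im_add, Zsqrtd.im_one, Zsqrtd.im_mul]; omega

theorem allSub_sound (P : LV → Bool) : ∀ (gs : List LV), (∀ g ∈ gs, g.length = 28) →
    ∀ acc : LV, acc.length = 28 → allSub gs acc P = true → ∀ x ∈ spanL gs,
      ∃ y z, P y = true ∧ z ∈ spanL gs ∧ sem acc + x = sem y + piG • z
  | [], _, acc, _, h, x, hx => by
      rw [spanL_nil, Submodule.mem_bot] at hx
      exact ⟨acc, 0, h, Submodule.zero_mem _, by simp [hx]⟩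
  | g :: gs, hl, acc, hacc, h, x, hx => by
      rw [spanL_cons, Submodule.mem_span_insert] at hx
      obtain ⟨a, x', hx', rfl⟩ := hx
      simp only [allSub, Bool.and_eq_true] at h
      have hl' : ∀ g' ∈ gs, g'.length = 28 := fun g' hg' => hl g' (List.mem_cons_of_mem _ hg')
      have hg : g.length = 28 := hl g List.mem_cons_self
      have hmono : spanL gs ≤ spanL (g :: gs) := spanL_mono (fun g' hg' => List.mem_cons_of_mem _ hg')
      have hgm : sem g ∈ spanL (g :: gs) := sem_mem_spanL List.mem_cons_self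
      obtain ⟨a', ha | ha⟩ := gauss_mod_pi a
      · obtain ⟨y, z, hP, hz, he⟩ := allSub_sound P gs hl' acc hacc h.1 x' hx'
        refine ⟨y, z + a' • sem g, hP,
          Submodule.add_mem _ (hmono hz) (Submodule.smul_mem _ _ hgm), ?_⟩
        rw [smul_add, ← add_assoc (sem y), ← he, ha, mul_smul]
        abel
      · obtain ⟨y, z, hP, hz, he⟩ := allSub_sound P gs hl' (addL acc g)
          (by rw [length_addL _ _ (by rw [hacc, hg]), hacc]) h.2 x' hx'
        rw [sem_addL acc g (by rw [hacc, hg])] at he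
        refine ⟨y, z + a' • sem g, hP,
          Submodule.add_mem _ (hmono hz) (Submodule.smul_mem _ _ hgm), ?_⟩
        rw [smul_add, ← add_assoc (sem y), ← he, ha, add_smul, one_smul, mul_smul]
        abel

theorem span_map_pi (R : List LV) :
    ∀ x ∈ spanL (R.map (smulL (1, 1))), ∃ z ∈ spanL R, x = piG • z := by
  intro x hx
  refine Submodule.span_induction (p := fun x _ => ∃ z ∈ spanL R, x = piG • z) ?_ ?_ ?_ ?_ hx
  · rintro v ⟨g, hg, rfl⟩
    obtain ⟨r, hr, rfl⟩ := List.mem_map.1 hg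
    exact ⟨sem r, sem_mem_spanL hr, by rw [sem_smulL]; rfl⟩
  · exact ⟨0, Submodule.zero_mem _, by simp⟩
  · rintro x y _ _ ⟨z, hz, rfl⟩ ⟨w, hw, rfl⟩
    exact ⟨z + w, Submodule.add_mem _ hz hw, by rw [smul_add]⟩
  · rintro c x _ ⟨z, hz, rfl⟩
    exact ⟨c • z, Submodule.smul_mem _ _ hz, by rw [smul_comm]⟩

theorem level_step (A R : List LV) (P : LV → Bool) (hA : ∀ g ∈ A, g.length = 28)
    (h : allSub A zeroL P = true) :
    ∀ x ∈ spanL (A ++ R.map (smulL (1, 1))),
      ∃ y z, P y = true ∧ z ∈ spanL (A ++ R) ∧ x = sem y + piG • z := by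
  intro x hx
  rw [spanL_append, Submodule.mem_sup] at hx
  obtain ⟨x0, hx0, x1, hx1, rfl⟩ := hx
  obtain ⟨z1, hz1, rfl⟩ := span_map_pi R x1 hx1
  obtain ⟨y, z0, hP, hz0, he⟩ := allSub_sound P A hA zeroL (by simp [zeroL]) h x0 hx0
  rw [sem_zeroL, zero_add] at he
  refine ⟨y, z0 + z1, hP, ?_, by rw [he, smul_add, add_assoc]⟩
  rw [spanL_append]
  exact Submodule.add_mem _ (Submodule.mem_sup_left hz0) (Submodule.mem_sup_right hz1)

def d4P (a : ℤ × ℤ) : Bool := a.1 % 4 == 0 && a.2 % 4 == 0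

theorem D4_toG_iff (a : ℤ × ℤ) : D4 (toG a) ↔ d4P a = true := by
  simp only [D4, toG, d4P, Bool.and_eq_true, beq_iff_eq]
  constructor
  · rintro ⟨h1, h2⟩; exact ⟨Int.emod_eq_zero_of_dvd h1, Int.emod_eq_zero_of_dvd h2⟩
  · rintro ⟨h1, h2⟩; exact ⟨Int.dvd_of_emod_eq_zero h1, Int.dvd_of_emod_eq_zero h2⟩

def gramOK (B W : List LV) : Bool := B.all (fun b => W.all (fun w => d4P (hermL b w)))
def normOK (B : List LV) : Bool := B.all (fun b => (hermL b b).1 % 8 == 0)
def lenOK (B : List LV) : Bool := B.all (fun b => b.length == 28)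

theorem lenOK_iff {B : List LV} (h : lenOK B = true) : ∀ b ∈ B, b.length = 28 := by
  intro b hb
  simpa using List.all_eq_true.1 h b hb

theorem span_D4 (B W : List LV) (hB : lenOK B = true) (hW : lenOK W = true)
    (hg : gramOK B W = true) : ∀ x ∈ spanL B, ∀ w ∈ W, D4 (herm x (sem w)) := by
  intro x hx w hw
  refine Submodule.span_induction (p := fun x _ => D4 (herm x (sem w))) ?_ ?_ ?_ ?_ hx
  · rintro v ⟨b, hb, rfl⟩
    rw [herm_sem b w (lenOK_iff hB b hb) (lenOK_iff hW w hw), D4_toG_iff]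
    exact List.all_eq_true.1 (List.all_eq_true.1 hg b hb) w hw
  · rw [herm_zero_left]; exact D4_zero
  · intro x y _ _ h1 h2
    rw [herm_add_left]; exact D4_add h1 h2
  · intro c x _ h1
    rw [herm_smul_left]; exact D4_mul c h1

theorem span_herm_D4 (B : List LV) (hB : lenOK B = true) (hg : gramOK B B = true) :
    ∀ x ∈ spanL B, ∀ y ∈ spanL B, D4 (herm x y) := by
  intro x hx y hy
  refine Submodule.span_induction (p := fun y _ => D4 (herm x y)) ?_ ?_ ?_ ?_ hy
  · rintro v ⟨b, hb, rfl⟩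
    exact span_D4 B B hB hB hg x hx b hb
  · rw [herm_zero_right]; exact D4_zero
  · intro y z _ _ h1 h2
    rw [herm_add_right]; exact D4_add h1 h2
  · intro c y _ h1
    rw [herm_smul_right]; exact D4_mul _ h1

theorem span_norm (B : List LV) (hB : lenOK B = true) (hg : gramOK B B = true)
    (hn : normOK B = true) : ∀ x ∈ spanL B, (8 : ℤ) ∣ ruNorm x := by
  intro x hx
  refine Submodule.span_induction (p := fun x _ => (8 : ℤ) ∣ ruNorm x) ?_ ?_ ?_ ?_ hx
  · rintro v ⟨b, hb, rfl⟩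
    rw [ruNorm_sem b (lenOK_iff hB b hb)]
    have := List.all_eq_true.1 hn b hb
    exact Int.dvd_of_emod_eq_zero (by simpa using this)
  · rw [ruNorm_zero]; exact dvd_zero _
  · intro x y hx hy h1 h2
    rw [ruNorm_add]
    obtain ⟨k, hk⟩ := (span_herm_D4 B hB hg x hx y hy).1
    rw [hk]
    exact dvd_add (dvd_add h1 h2) ⟨k, by ring⟩
  · intro c x _ h1
    rw [ruNorm_smul]; exact Dvd.dvd.mul_left h1 _

end Cfsg.Agent.Lib.helper94.RuL
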