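import Mathlib
import Cfsg.Prelude.Def_Spor_Ru
import Cfsg.Agent.Lib.helper94.RuSpan

set_option autoImplicit false

namespace Cfsg.Agent.Lib.helper94.RuL

open Cfsg.Spor

/-! Kernel-friendly (forcing) versions of the list computations. -/

def fNat {α : Type} (n : ℕ) (f : ℕ → α) : α :=
  match n with
  | 0 => f 0
  | Nat.succ k => f (Nat.succ k)

theorem fNat_eq {α : Type} (n : ℕ) (f : ℕ → α) : fNat n f = f n := by
  cases n <;> rfl

def fInt {α : Type} (z : ℤ) (f : ℤ → α) : α :=
  match z with
  | Int.ofNat n => fNat n fun n' => f (Int.ofNat n')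
  | Int.negSucc n => fNat n fun n' => f (Int.negSucc n')

theorem fInt_eq {α : Type} (z : ℤ) (f : ℤ → α) : fInt z f = f z := by
  cases z <;> simp [fInt, fNat_eq]

def fL {α : Type} : LV → (LV → α) → α
  | [], k => k []
  | a :: l, k => fInt a.1 fun x => fInt a.2 fun y => fL l fun l' => k ((x, y) :: l')

theorem fL_eq {α : Type} : ∀ (l : LV) (k : LV → α), fL l k = k l
  | [], k => rfl
  | a :: l, k => by simp [fL, fInt_eq, fL_eq l]

def fLL {α : Type} : List LV → (List LV → α) → α
  | [], k => k []
  | a :: l, k => fL a fun a' => fLL l fun l' => k (a' :: l')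

theorem fLL_eq {α : Type} : ∀ (l : List LV) (k : List LV → α), fLL l k = k l
  | [], k => rfl
  | a :: l, k => by simp [fLL, fL_eq, fLL_eq l]

def hermAcc : LV → LV → ℤ → ℤ → ℤ × ℤ
  | a :: as, b :: bs, r, i =>
      fInt (r + a.1 * b.1 + a.2 * b.2) fun r' =>
        fInt (i + a.2 * b.1 - a.1 * b.2) fun i' => hermAcc as bs r' i'
  | [], _, r, i => (r, i)
  | _ :: _, [], r, i => (r, i)

theorem hermAcc_eq : ∀ (a b : LV) (r i : ℤ),
    hermAcc a b r i = (r + (hermL a b).1, i + (hermL a b).2)
  | [], b, r, i => by simp [hermAcc, hermL, sumP]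
  | _ :: _, [], r, i => by simp [hermAcc, hermL, sumP]
  | a :: as, b :: bs, r, i => by
      simp only [hermAcc, fInt_eq, hermAcc_eq as bs]
      simp only [hermL, List.zipWith_cons_cons, sumP, addP, mulConjP]
      ext <;> simp <;> ring

def gramF (B W : List LV) : Bool :=
  fLL B fun B' => fLL W fun W' => B'.all fun b => W'.all fun w => d4P (hermAcc b w 0 0)

theorem gramF_eq (B W : List LV) : gramF B W = gramOK B W := by
  simp only [gramF, fLL_eq, gramOK, hermAcc_eq, zero_add]

def normF (B : List LV) : Bool :=
  fLL B fun B' => B'.all fun b => (hermAcc b b 0 0).1 % 8 == 0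

theorem normF_eq (B : List LV) : normF B = normOK B := by
  simp only [normF, fLL_eq, normOK, hermAcc_eq, zero_add]

/-- linear combination with a forced accumulator; zero coefficients are skipped. -/
def combF : LV → List LV → LV → LV
  | c :: cs, b :: bs, acc =>
      if c == (0, 0) then combF cs bs acc
      else fL (addL acc (smulL c b)) fun acc' => combF cs bs acc'
  | [], _, acc => acc
  | _ :: _, [], acc => acc

theorem combF_spec : ∀ (cs : LV) (bs : List LV) (acc : LV), (∀ b ∈ bs, b.length = 28) →
    acc.length = 28 →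
    (combF cs bs acc).length = 28 ∧ ∃ z ∈ spanL bs, sem (combF cs bs acc) = sem acc + z
  | [], bs, acc, _, ha => ⟨by simpa [combF] using ha, 0, Submodule.zero_mem _, by simp [combF]⟩
  | _ :: _, [], acc, _, ha => ⟨by simpa [combF] using ha, 0, Submodule.zero_mem _, by simp [combF]⟩
  | c :: cs, b :: bs, acc, h, ha => by
      have hb : b.length = 28 := h b List.mem_cons_self
      have h' : ∀ b' ∈ bs, b'.length = 28 := fun b' hb' => h b' (List.mem_cons_of_mem _ hb')
      have hmono : spanL bs ≤ spanL (b :: bs) := spanL_mono (fun g' hg' => List.mem_cons_of_mem _ hg')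
      rw [combF]
      split_ifs with hc
      · obtain ⟨h1, z, hz, h2⟩ := combF_spec cs bs acc h' ha
        exact ⟨h1, z, hmono hz, h2⟩
      · rw [fL_eq]
        have hl : acc.length = (smulL c b).length := by rw [length_smulL, hb, ha]
        obtain ⟨h1, z, hz, h2⟩ := combF_spec cs bs (addL acc (smulL c b)) h'
          (by rw [length_addL _ _ hl, ha])
        refine ⟨h1, toG c • sem b + z, Submodule.add_mem _
          (Submodule.smul_mem _ _ (sem_mem_spanL List.mem_cons_self)) (hmono hz), ?_⟩
        rw [h2, sem_addL _ _ hl, sem_smulL, add_assoc]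

def all2 {α β : Type} : List α → List β → (α → β → Bool) → Bool
  | a :: as, b :: bs, f => f a b && all2 as bs f
  | [], _, _ => true
  | _ :: _, [], _ => false

theorem all2_sound {α β : Type} (f : α → β → Bool) : ∀ (as : List α) (bs : List β),
    all2 as bs f = true → ∀ a ∈ as, ∃ b, f a b = true
  | [], _, _, a, ha => by simp at ha
  | _ :: _, [], h, _, _ => by simp [all2] at h
  | a :: as, b :: bs, h, a', ha' => by
      simp only [all2, Bool.and_eq_true] at h
      rcases List.mem_cons.1 ha' with rfl | h'
      · exact ⟨b, h.1⟩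
      · exact all2_sound f as bs h.2 a' h'

def allSubF : List LV → LV → (LV → Bool) → Bool
  | [], acc, P => P acc
  | g :: gs, acc, P => allSubF gs acc P && fL (addL acc g) fun acc' => allSubF gs acc' P

theorem allSubF_eq (P : LV → Bool) : ∀ (gs : List LV) (acc : LV), allSubF gs acc P = allSub gs acc P
  | [], acc => rfl
  | g :: gs, acc => by simp only [allSubF, allSub, fL_eq, allSubF_eq P gs]

/-- parity pattern of a list vector as a bit mask. -/
def parMaskL : LV → ℕ
  | [] => 0
  | a :: l => (if oddP a then 1 else 0) + 2 * parMaskL l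

theorem parMaskL_testBit : ∀ (l : LV) (k : ℕ), (parMaskL l).testBit k = oddP (l.getD k (0, 0))
  | [], k => by simp [parMaskL, oddP]
  | a :: l, 0 => by
      simp only [parMaskL, Nat.testBit_zero, List.getD_cons_zero]
      by_cases h : oddP a = true
      · simp [h]
      · simp only [Bool.not_eq_true] at h
        simp [h]
  | a :: l, k + 1 => by
      rw [Nat.testBit_succ, List.getD_cons_succ, ← parMaskL_testBit l k]
      congr 1
      simp only [parMaskL]
      split_ifs <;> omega

def popc : ℕ → ℕ → ℕ
  | 0, _ => 0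
  | f + 1, m => m % 2 + popc f (m / 2)

theorem popc_zero : ∀ f : ℕ, popc f 0 = 0
  | 0 => rfl
  | f + 1 => by simp [popc, popc_zero f]

theorem popc_parMaskL : ∀ (l : LV) (f : ℕ), l.length ≤ f → popc f (parMaskL l) = weightL l
  | [], f, _ => by simp [parMaskL, popc_zero, weightL]
  | a :: l, 0, h => by simp at h
  | a :: l, f + 1, h => by
      have h' : l.length ≤ f := by simpa using h
      have ih := popc_parMaskL l f h'
      simp only [parMaskL, popc, weightL]
      have h1 : ((if oddP a = true then 1 else 0) + 2 * parMaskL l) % 2 = (if oddP a = true then 1 else 0) := by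
        split_ifs <;> omega
      have h2 : ((if oddP a = true then 1 else 0) + 2 * parMaskL l) / 2 = parMaskL l := by
        split_ifs <;> omega
      rw [h1, h2, ih]

end Cfsg.Agent.Lib.helper94.RuL
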