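import Mathlib
import Cfsg.Prelude.Def_Spor_Ru
import Cfsg.Agent.Lib.helper94.RuData

set_option autoImplicit false
set_option maxRecDepth 100000

namespace Cfsg.Agent.Lib.helper94.RuL

open Cfsg.Spor

/-! Witness checks: vectors with unit entries on one block are excluded by explicit lattice vectors. -/

def unitsL : LV := [(1, 0), (0, 1), (-1, 0), (0, -1)]

def dotAt (u0 u1 u2 u3 : ℤ × ℤ) (w : LV) (n : ℕ) : ℤ × ℤ :=
  addP (addP (mulConjP u0 (w.getD (4 * n) (0, 0))) (mulConjP u1 (w.getD (4 * n + 1) (0, 0))))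
    (addP (mulConjP u2 (w.getD (4 * n + 2) (0, 0))) (mulConjP u3 (w.getD (4 * n + 3) (0, 0))))

def zeroAt (w : LV) (n : ℕ) : Bool :=
  w.getD (4 * n) (0, 0) == (0, 0) && w.getD (4 * n + 1) (0, 0) == (0, 0) &&
    w.getD (4 * n + 2) (0, 0) == (0, 0) && w.getD (4 * n + 3) (0, 0) == (0, 0)

def blk0OK (W : List LV) : Bool :=
  fLL W fun W' => fL unitsL fun U => (List.range 7).all fun n => (List.range 7).all fun n' =>
    (n == n') || fLL (W'.filter fun w => zeroAt w n') fun Wn =>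
      U.all fun u0 => U.all fun u1 => U.all fun u2 => U.all fun u3 =>
        Wn.any fun w => !d4P (dotAt u0 u1 u2 u3 w n)

def blk1OK (W : List LV) : Bool :=
  fLL W fun W' => fL unitsL fun U => (List.range 7).all fun n =>
    U.all fun u0 => U.all fun u1 => U.all fun u2 => U.all fun u3 =>
      W'.any fun w => !d4P (mulP (1, 1) (dotAt u0 u1 u2 u3 w n))

theorem norm_one_mem (z : GaussianInt) (h : z.norm = 1) : ∃ u ∈ unitsL, z = toG u := by
  obtain ⟨a, b⟩ := z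
  simp only [Zsqrtd.norm_def] at h
  have h1 : a * a + b * b = 1 := by linarith
  have ha : -1 ≤ a ∧ a ≤ 1 := by constructor <;> nlinarith [mul_self_nonneg b, mul_self_nonneg (a + 1), mul_self_nonneg (a - 1)]
  have hb : -1 ≤ b ∧ b ≤ 1 := by constructor <;> nlinarith [mul_self_nonneg a, mul_self_nonneg (b + 1), mul_self_nonneg (b - 1)]
  obtain ⟨ha1, ha2⟩ := ha
  obtain ⟨hb1, hb2⟩ := hb
  interval_cases a <;> interval_cases b <;> simp_all [unitsL, toG]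

theorem dotAt_sem (q : Fin 4 → GaussianInt) (u0 u1 u2 u3 : ℤ × ℤ) (w : LV) (n : Fin 7)
    (h0 : q 0 = toG u0) (h1 : q 1 = toG u1) (h2 : q 2 = toG u2) (h3 : q 3 = toG u3) :
    ∑ t, q t * star (sem w (n, t)) = toG (dotAt u0 u1 u2 u3 w n.val) := by
  rw [Fin.sum_univ_four, h0, h1, h2, h3]
  have e0 : ((0 : Fin 4) : ℕ) = 0 := rfl
  have e1 : ((1 : Fin 4) : ℕ) = 1 := rfl
  have e2 : ((2 : Fin 4) : ℕ) = 2 := rfl
  have e3 : ((3 : Fin 4) : ℕ) = 3 := rfl
  simp only [dotAt, toG_addP, toG_mulConjP, sem, idx, e0, e1, e2, e3, add_zero, add_assoc]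

theorem blk0_spec (h : blk0OK W0 = true) : ∀ n n' : Fin 7, n ≠ n' → ∀ q : Fin 4 → GaussianInt,
    (∀ t, (q t).norm = 1) → ∃ w ∈ W0, (∀ t : Fin 4, sem w (n', t) = 0) ∧
      ¬ D4 (∑ t, q t * star (sem w (n, t))) := by
  intro n n' hne q hq
  simp only [blk0OK, fLL_eq, fL_eq, List.all_eq_true, List.mem_range, Bool.or_eq_true, beq_iff_eq,
    List.any_eq_true, List.mem_filter, Bool.not_eq_true'] at h
  obtain ⟨u0, hu0, h0⟩ := norm_one_mem _ (hq 0)
  obtain ⟨u1, hu1, h1⟩ := norm_one_mem _ (hq 1)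
  obtain ⟨u2, hu2, h2⟩ := norm_one_mem _ (hq 2)
  obtain ⟨u3, hu3, h3⟩ := norm_one_mem _ (hq 3)
  rcases h n.val n.isLt n'.val n'.isLt with hh | hh
  · exact absurd (Fin.ext hh) hne
  · obtain ⟨w, ⟨hw, hz⟩, hd⟩ := hh u0 hu0 u1 hu1 u2 hu2 u3 hu3
    refine ⟨w, hw, ?_, ?_⟩
    · simp only [zeroAt, Bool.and_eq_true, beq_iff_eq] at hz
      obtain ⟨⟨⟨z0, z1⟩, z2⟩, z3⟩ := hz
      intro t
      fin_cases t
      · simp only [sem, idx]; rw [add_zero, z0]; rfl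
      · simp only [sem, idx]; rw [z1]; rfl
      · simp only [sem, idx]; rw [z2]; rfl
      · simp only [sem, idx]; rw [z3]; rfl
    · rw [dotAt_sem q u0 u1 u2 u3 w n h0 h1 h2 h3, D4_toG_iff, hd]
      simp

theorem blk1_spec (h : blk1OK W1 = true) : ∀ n : Fin 7, ∀ q : Fin 4 → GaussianInt,
    (∀ t, (q t).norm = 1) → ∃ w ∈ W1, ¬ D4 (piG * ∑ t, q t * star (sem w (n, t))) := by
  intro n q hq
  simp only [blk1OK, fLL_eq, fL_eq, List.all_eq_true, List.mem_range,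
    List.any_eq_true, Bool.not_eq_true'] at h
  obtain ⟨u0, hu0, h0⟩ := norm_one_mem _ (hq 0)
  obtain ⟨u1, hu1, h1⟩ := norm_one_mem _ (hq 1)
  obtain ⟨u2, hu2, h2⟩ := norm_one_mem _ (hq 2)
  obtain ⟨u3, hu3, h3⟩ := norm_one_mem _ (hq 3)
  obtain ⟨w, hw, hd⟩ := h n.val n.isLt u0 hu0 u1 hu1 u2 hu2 u3 hu3
  refine ⟨w, hw, ?_⟩
  rw [dotAt_sem q u0 u1 u2 u3 w n h0 h1 h2 h3, show piG = toG (1, 1) from rfl, ← toG_mulP,
    D4_toG_iff, hd]
  simp

theorem blk0_ok : blk0OK W0 = true := by decide +kernel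

theorem blk1_ok : blk1OK W1 = true := by decide +kernel

end Cfsg.Agent.Lib.helper94.RuL
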