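import Mathlib
import Cfsg.Prelude.Def_Spor_Ru
import Cfsg.Agent.Lib.helper94.RuClosedAll
import Cfsg.Agent.Lib.helper94.RuCheck
import Cfsg.Agent.Lib.helper94.RuWit

set_option autoImplicit false
set_option maxRecDepth 100000

namespace Cfsg.Agent.Lib.helper94.RuL

open Cfsg.Spor

theorem W0_len : lenOK W0 = true := by decide +kernel
theorem W1_len : lenOK W1 = true := by decide +kernel
theorem G0_len : lenOK G0 = true := by decide +kernel
theorem G01_len : lenOK (G0 ++ G1a) = true := by decide +kernel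

theorem gramW0 : gramOK Bdata W0 = true := by
  rw [← gramF_eq]; decide +kernel

theorem gramW1 : gramOK Bdata W1 = true := by
  rw [← gramF_eq]; decide +kernel

def sepOK (G : List LV) : Bool :=
  fLL G fun G' => (List.range 28).all fun k =>
    (G'.any fun g => oddP (g.getD k (0, 0))) &&
      (List.range 28).all fun k' =>
        (k == k') || G'.any fun g => oddP (g.getD k (0, 0)) != oddP (g.getD k' (0, 0))

theorem sep_ok : sepOK G0 = true := by decide +kernel

theorem gOdd_sem (w : LV) (p : RuIdx) : gOdd (sem w p) ↔ oddP (w.getD (idx p) (0, 0)) = true := by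
  simp [gOdd, sem, toG, oddP]

theorem idx_inj {p q : RuIdx} (h : idx p = idx q) : p = q := by
  rw [← pOfNat_idx p, ← pOfNat_idx q, h]

theorem sep1 (p : RuIdx) : ∃ w ∈ G0, gOdd (sem w p) := by
  have h := sep_ok
  simp only [sepOK, fLL_eq, List.all_eq_true, List.mem_range, Bool.and_eq_true, List.any_eq_true,
    Bool.or_eq_true, beq_iff_eq, bne_iff_ne] at h
  obtain ⟨w, hw, ho⟩ := (h (idx p) (idx_lt p)).1
  exact ⟨w, hw, (gOdd_sem w p).2 ho⟩

theorem sep2 (p q : RuIdx) (hpq : p ≠ q) : ∃ w ∈ G0, (gOdd (sem w p) ↔ ¬ gOdd (sem w q)) := by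
  have h := sep_ok
  simp only [sepOK, fLL_eq, List.all_eq_true, List.mem_range, Bool.and_eq_true, List.any_eq_true,
    Bool.or_eq_true, beq_iff_eq, bne_iff_ne] at h
  rcases (h (idx p) (idx_lt p)).2 (idx q) (idx_lt q) with he | ⟨w, hw, ho⟩
  · exact absurd (idx_inj he) hpq
  · refine ⟨w, hw, ?_⟩
    rw [gOdd_sem, gOdd_sem]
    cases h1 : oddP (w.getD (idx p) (0, 0)) <;> cases h2 : oddP (w.getD (idx q) (0, 0)) <;> simp_all

theorem norm_two_shape (z : RuVec) (h : ruNorm z = 2) :
    (∃ p, (z p).norm = 2 ∧ ∀ q, q ≠ p → z q = 0) ∨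
    (∃ p q, p ≠ q ∧ (z p).norm = 1 ∧ (z q).norm = 1 ∧ ∀ r, r ≠ p → r ≠ q → z r = 0) := by
  unfold ruNorm at h
  have hnn : ∀ p, 0 ≤ (z p).norm := fun p => gnorm_nonneg _
  have hz0 : ∀ {p}, (z p).norm = 0 → z p = 0 :=
    fun {p} hp => (Zsqrtd.norm_eq_zero_iff (by decide) _).1 hp
  obtain ⟨p, hp⟩ : ∃ p, 1 ≤ (z p).norm := by
    by_contra hcon
    push Not at hcon
    have h0 : ∑ p, (z p).norm = 0 :=
      Finset.sum_eq_zero (fun p _ => le_antisymm (by have := hcon p; omega) (hnn p))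
    omega
  have hsplit : (z p).norm + ∑ q ∈ Finset.univ.erase p, (z q).norm = 2 := by
    exact (Finset.add_sum_erase Finset.univ (fun q => (z q).norm) (Finset.mem_univ p)).trans h
  have hrest : 0 ≤ ∑ q ∈ Finset.univ.erase p, (z q).norm := Finset.sum_nonneg (fun q _ => hnn q)
  rcases (by omega : (z p).norm = 2 ∨ (z p).norm = 1) with h2 | h1
  · left
    refine ⟨p, h2, fun q hq => hz0 ?_⟩
    have h0 : ∑ q ∈ Finset.univ.erase p, (z q).norm = 0 := by omega
    exact (Finset.sum_eq_zero_iff_of_nonneg (fun q _ => hnn q)).1 h0 q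
      (Finset.mem_erase.2 ⟨hq, Finset.mem_univ _⟩)
  · right
    have h1' : ∑ q ∈ Finset.univ.erase p, (z q).norm = 1 := by omega
    obtain ⟨q, hqm, hq⟩ : ∃ q ∈ Finset.univ.erase p, 1 ≤ (z q).norm := by
      by_contra hcon
      push Not at hcon
      have h0 : ∑ q ∈ Finset.univ.erase p, (z q).norm = 0 :=
        Finset.sum_eq_zero (fun q hq => le_antisymm (by have := hcon q hq; omega) (hnn q))
      omega
    have hsplit2 : (z q).norm + ∑ r ∈ (Finset.univ.erase p).erase q, (z r).norm = 1 := by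
      exact (Finset.add_sum_erase (Finset.univ.erase p) (fun q => (z q).norm) hqm).trans h1'
    have hrest2 : 0 ≤ ∑ r ∈ (Finset.univ.erase p).erase q, (z r).norm :=
      Finset.sum_nonneg (fun r _ => hnn r)
    have hq1 : (z q).norm = 1 := by omega
    have h0 : ∑ r ∈ (Finset.univ.erase p).erase q, (z r).norm = 0 := by omega
    refine ⟨p, q, (Finset.ne_of_mem_erase hqm).symm, h1, hq1, fun r hrp hrq => hz0 ?_⟩
    exact (Finset.sum_eq_zero_iff_of_nonneg (fun r _ => hnn r)).1 h0 r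
      (Finset.mem_erase.2 ⟨hrq, Finset.mem_erase.2 ⟨hrp, Finset.mem_univ _⟩⟩)

theorem E2_of_D4 {h : GaussianInt} (hd : D4 ((piG * piG) * h)) :
    (2 : ℤ) ∣ h.re ∧ (2 : ℤ) ∣ h.im := by
  obtain ⟨⟨k, hk⟩, ⟨m, hm⟩⟩ := hd
  simp only [Zsqrtd.re_mul, Zsqrtd.im_mul, piG] at hk hm
  constructor <;> omega

theorem no_norm_two (z : RuVec) (hz : ruNorm z = 2)
    (hD : ∀ w ∈ G0, D4 (herm ((piG * piG) • z) (sem w))) : False := by
  have hE : ∀ w ∈ G0, (2 : ℤ) ∣ (herm z (sem w)).re ∧ (2 : ℤ) ∣ (herm z (sem w)).im := by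
    intro w hw
    have := hD w hw
    rw [herm_smul_left] at this
    exact E2_of_D4 this
  rcases norm_two_shape z hz with ⟨p, hp, h0⟩ | ⟨p, q, hpq, hp, hq, h0⟩
  · obtain ⟨w, hw, hodd⟩ := sep1 p
    have hh : herm z (sem w) = z p * star (sem w p) := by
      unfold herm
      exact Finset.sum_eq_single p (fun q _ hq => by rw [h0 q hq, zero_mul])
        (fun h => absurd (Finset.mem_univ p) h)
    obtain ⟨h1, h2⟩ := hE w hw
    rw [hh] at h1 h2
    generalize z p = a at hp h1 h2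
    generalize sem w p = b at hodd h1 h2
    obtain ⟨a1, a2⟩ := a
    obtain ⟨b1, b2⟩ := b
    simp only [Zsqrtd.norm_def] at hp
    simp only [gOdd] at hodd
    simp only [Zsqrtd.re_mul, Zsqrtd.im_mul, Zsqrtd.re_star, Zsqrtd.im_star] at h1 h2
    have hs : a1 * a1 + a2 * a2 = 2 := by linarith
    have l1 : -1 ≤ a1 := by by_contra hc; have : a1 ≤ -2 := by omega
                            nlinarith [mul_self_nonneg a2]
    have u1 : a1 ≤ 1 := by by_contra hc; have : 2 ≤ a1 := by omega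
                           nlinarith [mul_self_nonneg a2]
    have l2 : -1 ≤ a2 := by by_contra hc; have : a2 ≤ -2 := by omega
                            nlinarith [mul_self_nonneg a1]
    have u2 : a2 ≤ 1 := by by_contra hc; have : 2 ≤ a2 := by omega
                           nlinarith [mul_self_nonneg a1]
    interval_cases a1 <;> interval_cases a2 <;> omega
  · obtain ⟨w, hw, hsep⟩ := sep2 p q hpq
    have hh : herm z (sem w) = z p * star (sem w p) + z q * star (sem w q) := by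
      unfold herm
      exact Finset.sum_eq_add p q hpq (fun r _ hr => by rw [h0 r hr.1 hr.2, zero_mul])
        (fun h => absurd (Finset.mem_univ p) h) (fun h => absurd (Finset.mem_univ q) h)
    obtain ⟨h1, h2⟩ := hE w hw
    rw [hh] at h1 h2
    obtain ⟨u, hu, hup⟩ := norm_one_mem _ hp
    obtain ⟨v, hv, hvq⟩ := norm_one_mem _ hq
    rw [hup, hvq] at h1 h2
    generalize sem w p = b at hsep h1 h2
    generalize sem w q = c at hsep h1 h2
    obtain ⟨b1, b2⟩ := b
    obtain ⟨c1, c2⟩ := c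
    simp only [gOdd] at hsep
    simp only [unitsL, List.mem_cons, List.mem_nil_iff, or_false] at hu hv
    by_cases hb : (b1 + b2) % 2 = 1
    · have hc := hsep.1 hb
      rcases hu with rfl | rfl | rfl | rfl <;> rcases hv with rfl | rfl | rfl | rfl <;>
        simp only [toG, Zsqrtd.re_add, Zsqrtd.im_add, Zsqrtd.re_mul, Zsqrtd.im_mul, Zsqrtd.re_star,
          Zsqrtd.im_star] at h1 h2 <;> omega
    · have hc : (c1 + c2) % 2 = 1 := by
        by_contra hc
        exact hb (hsep.2 hc)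
      rcases hu with rfl | rfl | rfl | rfl <;> rcases hv with rfl | rfl | rfl | rfl <;>
        simp only [toG, Zsqrtd.re_add, Zsqrtd.im_add, Zsqrtd.re_mul, Zsqrtd.im_mul, Zsqrtd.re_star,
          Zsqrtd.im_star] at h1 h2 <;> omega

theorem lb2_sum : ∀ n n' : Fin 7, n ≠ n' →
    ∑ p : RuIdx, (if p.1 = n ∨ p.1 = n' then (1 : ℤ) else 0) = 8 := by decide +kernel

theorem lb1_sum : ∀ n : Fin 7, ∑ p : RuIdx, (if p.1 = n then (1 : ℤ) else 0) = 4 := by
  decide +kernel

theorem norm_eq_lb (x : RuVec) (lb : RuIdx → ℤ) (hle : ∀ p, lb p ≤ (x p).norm)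
    (hs : ∑ p, lb p = ruNorm x) : ∀ p, (x p).norm = lb p := by
  intro p
  unfold ruNorm at hs
  exact ((Finset.sum_eq_sum_iff_of_le (fun p _ => hle p)).1 hs p (Finset.mem_univ p)).symm

theorem two_block_absurd (x : RuVec) (n n' : Fin 7) (hne : n ≠ n')
    (hodd : ∀ p, gOdd (x p) ↔ (p.1 = n ∨ p.1 = n')) (h8 : ruNorm x = 8)
    (hD : ∀ w ∈ W0, D4 (herm x (sem w))) : False := by
  have hnorm : ∀ p, (x p).norm = if p.1 = n ∨ p.1 = n' then (1 : ℤ) else 0 := by
    apply norm_eq_lb
    · intro p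
      split_ifs with hp
      · exact norm_ge_of_odd ((hodd p).2 hp)
      · exact gnorm_nonneg _
    · rw [lb2_sum n n' hne, h8]
  obtain ⟨w, hw, hz, hnd⟩ := blk0_spec blk0_ok n n' hne (fun t => x (n, t))
    (fun t => by rw [hnorm]; simp)
  apply hnd
  have hh : herm x (sem w) = ∑ t, x (n, t) * star (sem w (n, t)) := by
    unfold herm
    rw [Fintype.sum_prod_type]
    refine Finset.sum_eq_single n (fun a _ ha => ?_) (fun h => absurd (Finset.mem_univ n) h)
    refine Finset.sum_eq_zero (fun t _ => ?_)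
    by_cases ha' : a = n'
    · rw [ha', hz t, star_zero, mul_zero]
    · have h0 : (x (a, t)).norm = 0 := by rw [hnorm]; simp [ha, ha']
      rw [(Zsqrtd.norm_eq_zero_iff (by decide) _).1 h0, zero_mul]
  rw [← hh]; exact hD w hw

theorem one_block_absurd (z : RuVec) (n : Fin 7) (hodd : ∀ p, gOdd (z p) ↔ p.1 = n)
    (h4 : ruNorm z = 4) (hD : ∀ w ∈ W1, D4 (herm (piG • z) (sem w))) : False := by
  have hnorm : ∀ p, (z p).norm = if p.1 = n then (1 : ℤ) else 0 := by
    apply norm_eq_lb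
    · intro p
      split_ifs with hp
      · exact norm_ge_of_odd ((hodd p).2 hp)
      · exact gnorm_nonneg _
    · rw [lb1_sum n, h4]
  obtain ⟨w, hw, hnd⟩ := blk1_spec blk1_ok n (fun t => z (n, t)) (fun t => by rw [hnorm]; simp)
  apply hnd
  have hh : herm z (sem w) = ∑ t, z (n, t) * star (sem w (n, t)) := by
    unfold herm
    rw [Fintype.sum_prod_type]
    refine Finset.sum_eq_single n (fun a _ ha => ?_) (fun h => absurd (Finset.mem_univ n) h)
    refine Finset.sum_eq_zero (fun t _ => ?_)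
    have h0 : (z (a, t)).norm = 0 := by rw [hnorm]; simp [ha]
    rw [(Zsqrtd.norm_eq_zero_iff (by decide) _).1 h0, zero_mul]
  rw [← hh, ← herm_smul_left]; exact hD w hw

theorem piG_norm : piG.norm = 2 := by decide

theorem ru_ne8 (x : RuVec) (hx : x ∈ spanL Bdata) : ruNorm x ≠ 8 := by
  intro h8
  have hD0 : ∀ w ∈ W0, D4 (herm x (sem w)) := span_D4 Bdata W0 Bdata_len W0_len gramW0 x hx
  have hD1 : ∀ w ∈ W1, D4 (herm x (sem w)) := span_D4 Bdata W1 Bdata_len W1_len gramW1 x hx
  have hDG : ∀ w ∈ G0, D4 (herm x (sem w)) := fun w hw =>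
    span_D4 Bdata Bdata Bdata_len Bdata_len Bdata_gram x hx w
      (by rw [Bdata_struct]; exact List.mem_append_left _ hw)
  have hx' := hx
  rw [Bdata_struct] at hx'
  obtain ⟨y, z, hP, hz, hxe⟩ :=
    level_step G0 (G1a ++ G2.map (smulL (1, 1))) P0 (lenOK_iff G0_len) sub0_ok x hx'
  obtain ⟨hyl, hcase⟩ := P0_spec hP
  have hoddx : ∀ p, gOdd (x p) ↔ oddP (y.getD (idx p) (0, 0)) = true := odd_of_decomp x z y hxe
  rcases hcase with hzero | ⟨n, n', hne, hblk⟩ | hheavy
  · have hx2 : x = piG • z := by rw [hxe, sem_of_isZeroL hzero, zero_add]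
    have hz4 : ruNorm z = 4 := by
      have h := ruNorm_smul piG z
      rw [← hx2, h8, piG_norm] at h
      omega
    rw [← List.append_assoc] at hz
    obtain ⟨y1, z2, hP1, _, hze⟩ := level_step (G0 ++ G1a) G2 P1 (lenOK_iff G01_len) sub1_ok z hz
    obtain ⟨hyl1, hcase1⟩ := P1_spec hP1
    have hoddz : ∀ p, gOdd (z p) ↔ oddP (y1.getD (idx p) (0, 0)) = true :=
      odd_of_decomp z z2 y1 hze
    rcases hcase1 with hzero1 | ⟨n, hblk⟩ | hheavy
    · have hz2 : z = piG • z2 := by rw [hze, sem_of_isZeroL hzero1, zero_add]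
      have hn2 : ruNorm z2 = 2 := by
        have h := ruNorm_smul piG z2
        rw [← hz2, hz4, piG_norm] at h
        omega
      apply no_norm_two z2 hn2
      intro w hw
      have h := hDG w hw
      rwa [hx2, hz2, smul_smul] at h
    · exact one_block_absurd z n (fun p => (hoddz p).trans (hblk p)) hz4
        (fun w hw => by have h := hD1 w hw; rwa [hx2] at h)
    · have h := weight_le_norm z y1 hyl1 hoddz
      rw [hz4] at h
      have h5 : (5 : ℤ) ≤ weightL y1 := by exact_mod_cast hheavy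
      omega
  · exact two_block_absurd x n n' hne (fun p => (hoddx p).trans (hblk p)) h8 hD0
  · have h := weight_le_norm x y hyl hoddx
    rw [h8] at h
    have h9 : (9 : ℤ) ≤ weightL y := by exact_mod_cast hheavy
    omega

theorem table_norm16 : ∃ v ∈ ruTable, ruNorm v = 16 := by decide +kernel

/-- The Conway–Wales lattice as stored: norms are multiples of 8, never 8, at least 16 off zero,
and 16 is attained. -/
theorem ru_lattice_even_rootless :
    (∀ x ∈ ruLattice, (8 : ℤ) ∣ ruNorm x) ∧ (∀ x ∈ ruLattice, ruNorm x ≠ 8) ∧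
    (∀ x ∈ ruLattice, x ≠ 0 → 16 ≤ ruNorm x) ∧ ∃ x ∈ ruLattice, ruNorm x = 16 := by
  have h1 : ∀ x ∈ ruLattice, (8 : ℤ) ∣ ruNorm x := fun x hx =>
    span_norm Bdata Bdata_len Bdata_gram Bdata_norm x (ruLattice_le x hx)
  have h2 : ∀ x ∈ ruLattice, ruNorm x ≠ 8 := fun x hx => ru_ne8 x (ruLattice_le x hx)
  refine ⟨h1, h2, ?_, ?_⟩
  · intro x hx hx0
    obtain ⟨k, hk⟩ := h1 x hx
    have hnn := ruNorm_nonneg x
    have hne := h2 x hx
    have hne0 : ruNorm x ≠ 0 := fun h => hx0 (ruNorm_eq_zero h)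
    omega
  · obtain ⟨v, hv, hn⟩ := table_norm16
    refine ⟨v, ?_, hn⟩
    rw [ruLattice, AddSubgroup.mem_sInf]
    intro L hL
    exact hL.1 v hv

end Cfsg.Agent.Lib.helper94.RuL
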