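import Mathlib
import Cfsg.Agent.Lib.helper44.SUODefs
import Cfsg.Agent.Lib.helper94.SUWNC
import Cfsg.Agent.Lib.helper94.GfHFC

/-!
# S2334, piece OHEIS (racer copy of helper94): the Heisenberg data
-/

set_option autoImplicit false

namespace Cfsg.Agent.Lib.helper44.SUW

open Matrix

/-- `tr (Y (t t'† - t' t†)) = w + σ w` with `w = t'† Y t`. -/
theorem h94_trace_cmat {K : Type*} [Field K] (σ : K →+* K) (hσσ : ∀ x, σ (σ x) = x) {m : ℕ}
    (Y : Matrix (Fin m) (Fin m) K) (hY : Y ∈ skewH σ m) (t t' : Fin m → K) :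
    Matrix.trace (Y * cmat σ t t') =
      (∑ x, ∑ y, σ (t' x) * Y x y * t y) + σ (∑ x, ∑ y, σ (t' x) * Y x y * t y) := by
  have hσw : σ (∑ x, ∑ y, σ (t' x) * Y x y * t y) = - ∑ x, ∑ y, Y x y * (t' y * σ (t x)) := by
    simp only [map_sum, map_mul, hσσ, mem_skewH.1 hY _ _]
    rw [Finset.sum_comm, ← Finset.sum_neg_distrib]
    apply Finset.sum_congr rfl
    intro x _
    rw [← Finset.sum_neg_distrib]
    apply Finset.sum_congr rfl
    intro y _
    ring
  rw [hσw]
  simp only [Matrix.trace, Matrix.diag_apply, Matrix.mul_apply, cmat, Matrix.sub_apply,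
    Matrix.vecMulVec_apply, mul_sub, Finset.sum_sub_distrib]
  rw [sub_eq_add_neg]
  congr 1
  apply Finset.sum_congr rfl
  intro x _
  apply Finset.sum_congr rfl
  intro y _
  ring

/-- OHEIS (L), racer copy -/
theorem h94_heis_data {K : Type*} [Field K] [Fintype K] {q m : ℕ} (hK : Fintype.card K = q ^ 2)
    (σ : K →+* K) (hσ : ∀ x, σ x = x ^ q) (ψ : AddChar K ℂ) (hψ : ψ 1 ≠ 1)
    (Y : Matrix (Fin m) (Fin m) K) (hY : Y ∈ skewH σ m) (hY0 : Y ≠ 0) :
    ∃ (r : ℕ) (tx : Fin r → Fin m → K) (tz : Fin q → Fin m → K),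
      (∀ i i', cmat σ (tx i) (tx i') = 0) ∧
      ∀ j j', j ≠ j' → ∃ i, ψ (Matrix.trace (Y * cmat σ (tx i) (tz j))) ≠
        ψ (Matrix.trace (Y * cmat σ (tx i) (tz j'))) := by
  classical
  have hσσ : ∀ x, σ (σ x) = x := by
    intro x
    rw [hσ, hσ, ← pow_mul, ← sq, ← hK]
    exact FiniteField.pow_card x
  have hq2 : 2 ≤ q := by
    have h1 : 1 < Fintype.card K := Fintype.one_lt_card
    rw [hK] at h1
    by_contra h
    have : q = 0 ∨ q = 1 := by omega
    rcases this with rfl | rfl <;> simp at h1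
  -- `η`
  obtain ⟨θ, hθ⟩ := h94_exists_frob_ne hK
  have hθ' : θ - σ θ ≠ 0 := sub_ne_zero.2 (by rw [hσ]; exact fun h => hθ h.symm)
  obtain ⟨η, hη⟩ : ∃ η : K, η + σ η = 1 := by
    refine ⟨θ / (θ - σ θ), ?_⟩
    have h2 : σ θ - θ ≠ 0 := fun h => hθ' (by rw [← neg_sub, h, neg_zero])
    rw [map_div₀, map_sub, hσσ]
    field_simp
    ring
  -- the `q` fixed elements
  have hcard : Nat.card K = q * q := by rw [Nat.card_eq_fintype_card, hK, sq]
  obtain ⟨-, -, hsk⟩ := Cfsg.Agent.Lib.helper3.Gf.h94_hfc K q hcard σ hσ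
  let e : Fin q ≃ {z : K // z + σ z = 0} := (Finite.equivFinOfCardEq hsk).symm
  obtain ⟨ε₀, hε₀, hε₀ne⟩ : ∃ ε₀ : K, ε₀ + σ ε₀ = 0 ∧ ε₀ ≠ 0 := by
    by_cases h0 : (e ⟨0, by omega⟩).1 = 0
    · refine ⟨(e ⟨1, by omega⟩).1, (e ⟨1, by omega⟩).2, ?_⟩
      intro h1
      have h2 : e ⟨0, by omega⟩ = e ⟨1, by omega⟩ := Subtype.ext (by rw [h0, h1])
      have h3 := e.injective h2
      simp [Fin.ext_iff] at h3
    · exact ⟨_, (e ⟨0, by omega⟩).2, h0⟩
  have hσε : σ ε₀ = -ε₀ := by linear_combination hε₀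
  let s : Fin q → K := fun j => (e j).1 / ε₀
  have hs : ∀ j, σ (s j) = s j := by
    intro j
    have h1 : σ (e j).1 = -(e j).1 := by linear_combination (e j).2
    simp only [s]
    rw [map_div₀, h1, hσε, neg_div_neg_eq]
  have hsinj : Function.Injective s := by
    intro j j' h
    simp only [s] at h
    have h' : (e j).1 = (e j').1 := by
      have h4 := congrArg (· * ε₀) h
      simpa [div_mul_cancel₀ _ hε₀ne] using h4
    exact e.injective (Subtype.ext h')
  -- a non-zero entry of `Y`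
  obtain ⟨i0, l0, hil⟩ : ∃ i0 l0, Y i0 l0 ≠ 0 := by
    by_contra hcon
    push Not at hcon
    exact hY0 (Matrix.ext hcon)
  -- the scalars
  let c : Fin (q * q) → K := fun i =>
    (s (finProdFinEquiv.symm i).1 - s (finProdFinEquiv.symm i).2)⁻¹
  have hc : ∀ i, σ (c i) = c i := by
    intro i
    simp only [c]
    rw [map_inv₀, map_sub, hs, hs]
  let τ : Fin q → K := fun j => σ (s j * η / Y i0 l0)
  have hτ : ∀ j, σ (τ j) = s j * η / Y i0 l0 := fun j => hσσ _
  have hw : ∀ i j, (∑ x, ∑ y, σ ((Pi.single i0 (τ j) : Fin m → K) x) * Y x y *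
      (Pi.single l0 (c i) : Fin m → K) y) = c i * s j * η := by
    intro i j
    rw [Finset.sum_eq_single i0]
    · rw [Finset.sum_eq_single l0]
      · rw [Pi.single_eq_same, Pi.single_eq_same, hτ]
        field_simp
      · intro y _ hy
        rw [Pi.single_eq_of_ne hy, mul_zero]
      · intro h; exact absurd (Finset.mem_univ _) h
    · intro x _ hx
      apply Finset.sum_eq_zero
      intro y _
      rw [Pi.single_eq_of_ne hx, map_zero, zero_mul, zero_mul]
    · intro h; exact absurd (Finset.mem_univ _) h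
  have htr : ∀ i j, Matrix.trace (Y * cmat σ (Pi.single l0 (c i)) (Pi.single i0 (τ j))) =
      c i * s j := by
    intro i j
    rw [h94_trace_cmat σ hσσ Y hY, hw, map_mul, map_mul, hc, hs]
    linear_combination (c i * s j) * hη
  refine ⟨q * q, fun i => Pi.single l0 (c i), fun j => Pi.single i0 (τ j), ?_, ?_⟩
  · intro i i'
    ext x y
    simp only [cmat, Matrix.sub_apply, Matrix.vecMulVec_apply, Matrix.zero_apply]
    by_cases hx : x = l0
    · by_cases hy : y = l0
      · subst hx; subst hy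
        simp only [Pi.single_eq_same, hc]
        ring
      · subst hx
        simp [Pi.single_eq_of_ne hy]
    · simp [Pi.single_eq_of_ne hx]
  · intro j j' hjj
    refine ⟨finProdFinEquiv (j, j'), ?_⟩
    rw [htr, htr]
    have hne : s j - s j' ≠ 0 := sub_ne_zero.2 (fun h => hjj (hsinj h))
    have hci : c (finProdFinEquiv (j, j')) = (s j - s j')⁻¹ := by
      simp only [c, Equiv.symm_apply_apply]
    rw [hci]
    have h1 : (s j - s j')⁻¹ * s j = (s j - s j')⁻¹ * s j' + 1 := by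
      field_simp
      ring
    rw [h1, AddChar.map_add_eq_mul]
    intro h
    have hne0 : ψ ((s j - s j')⁻¹ * s j') ≠ 0 := by
      intro h0
      have h5 := AddChar.map_add_eq_mul ψ ((s j - s j')⁻¹ * s j') (-((s j - s j')⁻¹ * s j'))
      rw [add_neg_cancel, AddChar.map_zero_eq_one, h0, zero_mul] at h5
      exact one_ne_zero h5
    apply hψ
    have h6 : ψ ((s j - s j')⁻¹ * s j') * ψ 1 = ψ ((s j - s j')⁻¹ * s j') * 1 := by
      rw [mul_one]; exact h
    exact mul_left_cancel₀ hne0 h6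

end Cfsg.Agent.Lib.helper44.SUW
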