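import Mathlib

/-!
# S2335, piece ORB (racer copy of helper94): the abstract eigen-character lemma
-/

set_option autoImplicit false

namespace Cfsg.Agent.Lib.helper44.SUW

/-- ORB (L), racer copy -/
theorem h94_orb_bound {G : Type*} [Group G] {A : Type*} [AddCommGroup A] [Fintype A]
    (e : A → A → ℂ) (he0 : ∀ y, e y 0 = 1) (he_add : ∀ y a b, e y (a + b) = e y a * e y b)
    (he_row : ∀ y y', y ≠ y' → ∑ a, e y a * (e y' a)⁻¹ = 0)
    (he_col : ∀ a, a ≠ 0 → ∑ y, e y a = 0)
    (u : A → G) (hu : ∀ a b, u (a + b) = u a * u b)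
    {k : ℕ} (ρ : Representation ℂ G (Fin k → ℂ)) :
    Nat.card {y : A // ∃ w : Fin k → ℂ, w ≠ 0 ∧ ∀ a, ρ (u a) w = e y a • w} ≤ k ∧
    (∀ a₀, ρ (u a₀) ≠ 1 → ∃ y : A, (∃ w : Fin k → ℂ, w ≠ 0 ∧ ∀ a, ρ (u a) w = e y a • w) ∧
      e y a₀ ≠ 1) := by
  classical
  have hu0 : u 0 = 1 := by
    have h := hu 0 0
    rw [add_zero] at h
    have h' : u 0 * u 0 = u 0 * 1 := by rw [mul_one]; exact h.symm
    exact mul_left_cancel h'
  have hne : ∀ y a, e y a ≠ 0 := by
    intro y a h0
    have h := he_add y a (-a)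
    rw [add_neg_cancel, he0, h0, zero_mul] at h
    exact one_ne_zero h
  have hinv : ∀ y a, (e y a)⁻¹ = e y (-a) := by
    intro y a
    have h := he_add y a (-a)
    rw [add_neg_cancel, he0] at h
    exact inv_eq_of_mul_eq_one_right h.symm
  obtain ⟨n, hn_def⟩ : ∃ n : ℂ, n = (Fintype.card A : ℂ) := ⟨_, rfl⟩
  have hn : n ≠ 0 := by
    rw [hn_def]
    exact_mod_cast (Fintype.card_ne_zero : Fintype.card A ≠ 0)
  let P : A → ((Fin k → ℂ) →ₗ[ℂ] (Fin k → ℂ)) := fun y => n⁻¹ • ∑ a, (e y a)⁻¹ • ρ (u a)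
  have hP : ∀ y w, P y w = n⁻¹ • ∑ a, (e y a)⁻¹ • ρ (u a) w := by
    intro y w
    simp [P, LinearMap.sum_apply]
  -- (1) the image of `P y` consists of eigenvectors
  have h1 : ∀ y b w, ρ (u b) (P y w) = e y b • P y w := by
    intro y b w
    rw [hP, map_smul, map_sum, smul_comm]
    congr 1
    rw [Finset.smul_sum,
      ← Equiv.sum_comp (Equiv.addLeft b) (fun c => e y b • (e y c)⁻¹ • ρ (u c) w)]
    apply Finset.sum_congr rfl
    intro a _
    simp only [Equiv.coe_addLeft, map_smul]
    rw [hu b a, map_mul, Module.End.mul_apply, smul_smul]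
    congr 1
    rw [he_add y b a, mul_inv, ← mul_assoc, mul_inv_cancel₀ (hne y b), one_mul]
  -- (2) the `P y` sum to the identity
  have hcol : ∀ a, ∑ y, (e y a)⁻¹ = if a = 0 then n else 0 := by
    intro a
    split_ifs with h
    · subst h
      simp [he0, hn_def]
    · simp only [hinv]
      exact he_col (-a) (neg_ne_zero.2 h)
  have h2 : ∀ w, ∑ y, P y w = w := by
    intro w
    simp only [hP]
    rw [← Finset.smul_sum, Finset.sum_comm]
    simp only [← Finset.sum_smul, hcol, ite_smul, zero_smul, Finset.sum_ite_eq',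
      Finset.mem_univ, if_true]
    rw [hu0, map_one, Module.End.one_apply, smul_smul, inv_mul_cancel₀ hn, one_smul]
  -- (3) `P y` on eigenvectors
  have h3 : ∀ y y' w, (∀ a, ρ (u a) w = e y' a • w) → P y w = if y = y' then w else 0 := by
    intro y y' w hw
    rw [hP]
    simp only [hw, smul_smul, ← Finset.sum_smul]
    split_ifs with h
    · subst h
      have : ∑ a, (e y a)⁻¹ * e y a = n := by
        simp [inv_mul_cancel₀ (hne y _), hn_def]
      rw [this, inv_mul_cancel₀ hn, one_smul]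
    · have : ∑ a, (e y a)⁻¹ * e y' a = 0 := by
        rw [← he_row y' y (Ne.symm h)]
        exact Finset.sum_congr rfl (fun a _ => mul_comm _ _)
      rw [this]; simp
  refine ⟨?_, ?_⟩
  · have hw : ∀ y : {y : A // ∃ w : Fin k → ℂ, w ≠ 0 ∧ ∀ a, ρ (u a) w = e y a • w},
        ∃ w : Fin k → ℂ, w ≠ 0 ∧ ∀ a, ρ (u a) w = e y.1 a • w := fun y => y.2
    choose w hw0 hwe using hw
    have hli : LinearIndependent ℂ w := by
      rw [linearIndependent_iff']
      intro s g hsum i hi
      have h4 := congrArg (P i.1) hsum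
      rw [map_sum, map_zero] at h4
      simp only [map_smul, h3 _ _ _ (hwe _)] at h4
      rw [Finset.sum_eq_single i] at h4
      · simp only [if_true] at h4
        exact (smul_eq_zero.1 h4).resolve_right (hw0 i)
      · intro j _ hji
        rw [if_neg (fun h => hji (Subtype.ext h.symm)), smul_zero]
      · intro h
        exact absurd hi h
    have h5 := hli.fintype_card_le_finrank
    rw [Module.finrank_fin_fun] at h5
    rw [Nat.card_eq_fintype_card]
    exact h5
  · intro a₀ ha₀
    have hex : ∃ w, ρ (u a₀) w ≠ w := by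
      by_contra hall
      push Not at hall
      exact ha₀ (LinearMap.ext fun w => by rw [hall w, Module.End.one_apply])
    obtain ⟨w, hw⟩ := hex
    by_contra hcon
    push Not at hcon
    apply hw
    have hy : ∀ y, ρ (u a₀) (P y w) = P y w := by
      intro y
      by_cases h0 : P y w = 0
      · rw [h0, map_zero]
      · rw [h1, hcon y ⟨P y w, h0, fun a => h1 y a w⟩, one_smul]
    calc ρ (u a₀) w = ρ (u a₀) (∑ y, P y w) := by rw [h2]
      _ = ∑ y, ρ (u a₀) (P y w) := map_sum _ _ _
      _ = ∑ y, P y w := Finset.sum_congr rfl (fun y _ => hy y)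
      _ = w := h2 w

end Cfsg.Agent.Lib.helper44.SUW
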