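import Mathlib
import Cfsg.Prelude.Def_Classical
import Cfsg.Prelude.Def_GeometricClasses

/-! S5977 / S5978 block [A] (architect helper59), piece JBASIS (racer copy, helper94). -/

set_option autoImplicit false

namespace Cfsg.Agent.Lib.helper59.Sfk

open Matrix Cfsg.Geo

/-- JBASIS (L+): for an isometry with `x * x = -1` there are `e_1 .. e_m` such that
`e_1, .., e_m, x e_1, .., x e_m` is an orthogonal basis. -/
theorem h94_sfk_j_basis {F : Type*} [Field F] {ι : Type} [Fintype ι] [DecidableEq ι]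
    (h2 : (2 : F) ≠ 0) (Q : QuadraticForm F (ι → F))
    (hQ : (QuadraticMap.polarBilin Q).Nondegenerate)
    (x : GL ι F) (hx : x ∈ Cfsg.isometryGroup F (⇑Q))
    (hxx : (x : Matrix ι ι F) * (x : Matrix ι ι F) = -1) :
    ∃ (m : ℕ) (e : Fin m → (ι → F)),
      LinearIndependent F (Sum.elim e (fun i => (x : Matrix ι ι F) *ᵥ e i)) ∧
      Fintype.card ι = 2 * m ∧
      (∀ i j, i ≠ j → QuadraticMap.polar (⇑Q) (e i) (e j) = 0) ∧
      (∀ i j, QuadraticMap.polar (⇑Q) (e i) ((x : Matrix ι ι F) *ᵥ e j) = 0) ∧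
      ∀ i, Q (e i) ≠ 0 := by
  classical
  set X : Matrix ι ι F := (x : Matrix ι ι F) with hX
  have hQx : ∀ u, Q (X *ᵥ u) = Q u := fun u => hx u u
  have hpol : ∀ u v, QuadraticMap.polar (⇑Q) (X *ᵥ u) (X *ᵥ v) = QuadraticMap.polar (⇑Q) u v := by
    intro u v
    simp only [QuadraticMap.polar, ← Matrix.mulVec_add, hQx]
  have hxxv : ∀ u, X *ᵥ (X *ᵥ u) = -u := by
    intro u
    rw [Matrix.mulVec_mulVec, hxx, Matrix.neg_mulVec, Matrix.one_mulVec]
  have hskew : ∀ u v, QuadraticMap.polar (⇑Q) (X *ᵥ u) v = -QuadraticMap.polar (⇑Q) u (X *ᵥ v) := by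
    intro u v
    rw [← hpol (X *ᵥ u) v, hxxv, QuadraticMap.polar_neg_left]
  have hsymm : ∀ u v, QuadraticMap.polar (⇑Q) u v = QuadraticMap.polar (⇑Q) v u :=
    fun u v => QuadraticMap.polar_comm _ _ _
  have hself : ∀ u, QuadraticMap.polar (⇑Q) u (X *ᵥ u) = 0 := by
    intro u
    have h := hskew u u
    rw [hsymm (X *ᵥ u) u] at h
    have h' : (2 : F) * QuadraticMap.polar (⇑Q) u (X *ᵥ u) = 0 := by linear_combination h
    exact (mul_eq_zero.1 h').resolve_left h2
  have hps : ∀ u, QuadraticMap.polar (⇑Q) u u = 2 * Q u := by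
    intro u
    rw [QuadraticMap.polar_self]
    simp [two_mul]
  let JF : (m : ℕ) → (Fin m → (ι → F)) → Prop := fun m e =>
    (∀ i j, i ≠ j → QuadraticMap.polar (⇑Q) (e i) (e j) = 0) ∧
    (∀ i j, QuadraticMap.polar (⇑Q) (e i) (X *ᵥ e j) = 0) ∧ ∀ i, Q (e i) ≠ 0
  have hfam : ∀ (m : ℕ) (e : Fin m → (ι → F)), JF m e →
      (∀ a b, a ≠ b → QuadraticMap.polar (⇑Q) (Sum.elim e (fun i => X *ᵥ e i) a)
        (Sum.elim e (fun i => X *ᵥ e i) b) = 0) ∧
      (∀ a, QuadraticMap.polar (⇑Q) (Sum.elim e (fun i => X *ᵥ e i) a)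
        (Sum.elim e (fun i => X *ᵥ e i) a) ≠ 0) := by
    rintro m e ⟨h1, h2', h3⟩
    constructor
    · rintro (i | i) (j | j) hab
      · exact h1 i j (fun h => hab (by rw [h]))
      · exact h2' i j
      · show QuadraticMap.polar (⇑Q) (X *ᵥ e i) (e j) = 0
        rw [hsymm]
        exact h2' j i
      · show QuadraticMap.polar (⇑Q) (X *ᵥ e i) (X *ᵥ e j) = 0
        rw [hpol]
        exact h1 i j (fun h => hab (by rw [h]))
    · rintro (i | i)
      · show QuadraticMap.polar (⇑Q) (e i) (e i) ≠ 0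
        rw [hps]
        exact mul_ne_zero h2 (h3 i)
      · show QuadraticMap.polar (⇑Q) (X *ᵥ e i) (X *ᵥ e i) ≠ 0
        rw [hpol, hps]
        exact mul_ne_zero h2 (h3 i)
  have hLI : ∀ (m : ℕ) (e : Fin m → (ι → F)), JF m e →
      LinearIndependent F (Sum.elim e (fun i => X *ᵥ e i)) := by
    intro m e hJ
    obtain ⟨ho, hd⟩ := hfam m e hJ
    exact LinearMap.linearIndependent_of_isOrthoᵢ (B := QuadraticMap.polarBilin Q)
      (fun a b hab => ho a b hab) (fun a => hd a)
  have hcardle : ∀ (m : ℕ) (e : Fin m → (ι → F)), JF m e → 2 * m ≤ Fintype.card ι := by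
    intro m e hJ
    have h := (hLI m e hJ).fintype_card_le_finrank
    simp only [Fintype.card_sum, Fintype.card_fin, Module.finrank_fintype_fun_eq_card] at h
    omega
  have hEXT : ∀ (m : ℕ) (e : Fin m → (ι → F)), JF m e → 2 * m < Fintype.card ι →
      ∃ e' : Fin (m + 1) → (ι → F), JF (m + 1) e' := by
    intro m e hJ hlt
    obtain ⟨ho, hd⟩ := hfam m e hJ
    obtain ⟨f, hf⟩ : ∃ f : Fin m ⊕ Fin m → (ι → F), f = Sum.elim e (fun i => X *ᵥ e i) := ⟨_, rfl⟩
    rw [← hf] at ho hd
    let L : (ι → F) →ₗ[F] (Fin m ⊕ Fin m → F) :=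
      LinearMap.pi (fun a => QuadraticMap.polarBilin Q (f a))
    have hLapp : ∀ v a, L v a = QuadraticMap.polar (⇑Q) (f a) v := fun v a => rfl
    have hdim : Module.finrank F (Fin m ⊕ Fin m → F) < Module.finrank F (ι → F) := by
      simp only [Module.finrank_fintype_fun_eq_card, Fintype.card_sum, Fintype.card_fin]
      omega
    have hkne : LinearMap.ker L ≠ ⊥ := LinearMap.ker_ne_bot_of_finrank_lt hdim
    obtain ⟨u, huker, hu0⟩ := (Submodule.ne_bot_iff _).1 hkne
    have hu : ∀ a, QuadraticMap.polar (⇑Q) (f a) u = 0 := by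
      intro a
      rw [← hLapp, LinearMap.mem_ker.1 huker]
      rfl
    have hex : ∃ e', (∀ a, QuadraticMap.polar (⇑Q) (f a) e' = 0) ∧ Q e' ≠ 0 := by
      by_contra hcon
      push Not at hcon
      apply hu0
      apply hQ.1 u
      intro v
      show QuadraticMap.polar (⇑Q) u v = 0
      obtain ⟨c, hc⟩ : ∃ c : Fin m ⊕ Fin m → F, ∀ a,
          c a = QuadraticMap.polar (⇑Q) (f a) v / QuadraticMap.polar (⇑Q) (f a) (f a) :=
        ⟨_, fun a => rfl⟩
      obtain ⟨v', hv'⟩ : ∃ v' : ι → F, v' = v - ∑ a, c a • f a := ⟨_, rfl⟩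
      have hv'perp : ∀ b, QuadraticMap.polar (⇑Q) (f b) v' = 0 := by
        intro b
        have hsum : QuadraticMap.polar (⇑Q) (f b) (∑ a, c a • f a) =
            c b * QuadraticMap.polar (⇑Q) (f b) (f b) := by
          have h := map_sum (QuadraticMap.polarBilin Q (f b)) (fun a => c a • f a) Finset.univ
          simp only [map_smul, QuadraticMap.polarBilin_apply_apply, smul_eq_mul] at h
          rw [h, Finset.sum_eq_single b]
          · intro a _ hab
            rw [ho b a (Ne.symm hab), mul_zero]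
          · intro hb
            exact absurd (Finset.mem_univ b) hb
        rw [hv', QuadraticMap.polar_sub_right, hsum, hc b, div_mul_cancel₀ _ (hd b), sub_self]
      have hker0 : ∀ u1 u2, (∀ a, QuadraticMap.polar (⇑Q) (f a) u1 = 0) →
          (∀ a, QuadraticMap.polar (⇑Q) (f a) u2 = 0) → QuadraticMap.polar (⇑Q) u1 u2 = 0 := by
        intro u1 u2 h1 h2'
        have h12 : ∀ a, QuadraticMap.polar (⇑Q) (f a) (u1 + u2) = 0 := by
          intro a
          rw [QuadraticMap.polar_add_right, h1 a, h2' a, add_zero]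
        simp only [QuadraticMap.polar, hcon _ h12, hcon _ h1, hcon _ h2', sub_zero]
      have huv' : QuadraticMap.polar (⇑Q) u v' = 0 := hker0 u v' hu hv'perp
      have hv : v = v' + ∑ a, c a • f a := by rw [hv']; abel
      rw [hv, QuadraticMap.polar_add_right, huv', zero_add]
      have h := map_sum (QuadraticMap.polarBilin Q u) (fun a => c a • f a) Finset.univ
      simp only [map_smul, QuadraticMap.polarBilin_apply_apply, smul_eq_mul] at h
      rw [h]
      apply Finset.sum_eq_zero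
      intro a _
      rw [hsymm u (f a), hu a, mul_zero]
    obtain ⟨e', he'perp, he'Q⟩ := hex
    obtain ⟨h1, h2', h3⟩ := hJ
    have hpe : ∀ i, QuadraticMap.polar (⇑Q) (e i) e' = 0 := by
      intro i
      have h := he'perp (Sum.inl i)
      rw [hf] at h
      exact h
    have hpxe : ∀ i, QuadraticMap.polar (⇑Q) (X *ᵥ e i) e' = 0 := by
      intro i
      have h := he'perp (Sum.inr i)
      rw [hf] at h
      exact h
    refine ⟨Fin.snoc (α := fun _ => ι → F) e e', ?_, ?_, ?_⟩
    · intro i j hij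
      rcases Fin.eq_castSucc_or_eq_last i with ⟨i', rfl⟩ | rfl <;>
        rcases Fin.eq_castSucc_or_eq_last j with ⟨j', rfl⟩ | rfl
      · simp only [Fin.snoc_castSucc]
        exact h1 i' j' (fun h => hij (by rw [h]))
      · simp only [Fin.snoc_castSucc, Fin.snoc_last]
        exact hpe i'
      · simp only [Fin.snoc_castSucc, Fin.snoc_last]
        rw [hsymm]
        exact hpe j'
      · exact absurd rfl hij
    · intro i j
      rcases Fin.eq_castSucc_or_eq_last i with ⟨i', rfl⟩ | rfl <;>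
        rcases Fin.eq_castSucc_or_eq_last j with ⟨j', rfl⟩ | rfl
      · simp only [Fin.snoc_castSucc]
        exact h2' i' j'
      · simp only [Fin.snoc_castSucc, Fin.snoc_last]
        have h := hskew (e i') e'
        rw [hpxe] at h
        exact neg_eq_zero.1 h.symm
      · simp only [Fin.snoc_castSucc, Fin.snoc_last]
        rw [hsymm]
        exact hpxe j'
      · simp only [Fin.snoc_last]
        exact hself e'
    · intro i
      rcases Fin.eq_castSucc_or_eq_last i with ⟨i', rfl⟩ | rfl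
      · simp only [Fin.snoc_castSucc]
        exact h3 i'
      · simp only [Fin.snoc_last]
        exact he'Q
  have hind : ∀ (j m : ℕ) (e : Fin m → (ι → F)), JF m e → Fintype.card ι ≤ 2 * m + j →
      ∃ (m' : ℕ) (e' : Fin m' → (ι → F)), JF m' e' ∧ Fintype.card ι = 2 * m' := by
    intro j
    induction j with
    | zero =>
      intro m e hJ hle
      have h := hcardle m e hJ
      exact ⟨m, e, hJ, by omega⟩
    | succ j ih =>
      intro m e hJ hle
      by_cases hlt : 2 * m < Fintype.card ι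
      · obtain ⟨e', hJ'⟩ := hEXT m e hJ hlt
        exact ih (m + 1) e' hJ' (by omega)
      · have h := hcardle m e hJ
        exact ⟨m, e, hJ, by omega⟩
  obtain ⟨m, e, ⟨h1, h2', h3⟩, hcard⟩ := hind (Fintype.card ι) 0 (fun i => i.elim0)
    ⟨fun i => i.elim0, fun i => i.elim0, fun i => i.elim0⟩ (by omega)
  exact ⟨m, e, hLI m e ⟨h1, h2', h3⟩, hcard, h1, h2', h3⟩

end Cfsg.Agent.Lib.helper59.Sfk
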