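import Mathlib
import Cfsg.Prelude.Def_Classical
import Cfsg.Prelude.Def_GeometricClasses
import Cfsg.Agent.Lib.helper49.WittIso
import Cfsg.Agent.Lib.helper53.SfoBINREP

/-! S5977 / S5978 block [A] (architect helper59), piece ROTJ (racer copy, helper94). -/

set_option autoImplicit false

namespace Cfsg.Agent.Lib.helper59.Sfk

open Matrix Cfsg.Geo
open Cfsg.Agent.Lib.helper49 (detHom spinorSign)

/-- ROTJ (L): a rotation of the plane `<e, x e>`: commutes with `x`, determinant `1`, spinor sign `-1`. -/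
theorem h94_sfk_rot_neg {F : Type*} [Field F] [Fintype F] {ι : Type} [Fintype ι] [DecidableEq ι]
    (h2 : (2 : F) ≠ 0) (Q : QuadraticForm F (ι → F))
    (hQ : (QuadraticMap.polarBilin Q).Nondegenerate)
    (x : GL ι F) (hx : x ∈ Cfsg.isometryGroup F (⇑Q))
    (hxx : (x : Matrix ι ι F) * (x : Matrix ι ι F) = -1) (e : ι → F) (he : Q e ≠ 0) :
    ∃ r : ↥(Cfsg.isometryGroup F (⇑Q)),
      ((r : GL ι F) : Matrix ι ι F) * (x : Matrix ι ι F) =
        (x : Matrix ι ι F) * ((r : GL ι F) : Matrix ι ι F) ∧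
      detHom (⇑Q) r = 1 ∧ spinorSign (⇑Q) r = -1 := by
  classical
  obtain ⟨X, hX⟩ : ∃ X : Matrix ι ι F, X = (x : Matrix ι ι F) := ⟨_, rfl⟩
  rw [← hX] at hxx ⊢
  have hQx : ∀ u, Q (X *ᵥ u) = Q u := fun u => by rw [hX]; exact hx u u
  have hpol : ∀ u v, QuadraticMap.polar (⇑Q) (X *ᵥ u) (X *ᵥ v) = QuadraticMap.polar (⇑Q) u v := by
    intro u v
    simp only [QuadraticMap.polar, ← Matrix.mulVec_add, hQx]
  have hxxv : ∀ u, X *ᵥ (X *ᵥ u) = -u := by
    intro u
    rw [Matrix.mulVec_mulVec, hxx, Matrix.neg_mulVec, Matrix.one_mulVec]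
  have hskew : ∀ u v, QuadraticMap.polar (⇑Q) (X *ᵥ u) v = -QuadraticMap.polar (⇑Q) u (X *ᵥ v) := by
    intro u v
    rw [← hpol (X *ᵥ u) v, hxxv, QuadraticMap.polar_neg_left]
  have hsymm : ∀ u v, QuadraticMap.polar (⇑Q) u v = QuadraticMap.polar (⇑Q) v u :=
    fun u v => QuadraticMap.polar_comm _ _ _
  have hself : QuadraticMap.polar (⇑Q) e (X *ᵥ e) = 0 := by
    have h := hskew e e
    rw [hsymm (X *ᵥ e) e] at h
    have h' : (2 : F) * QuadraticMap.polar (⇑Q) e (X *ᵥ e) = 0 := by linear_combination h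
    exact (mul_eq_zero.1 h').resolve_left h2
  have hee : QuadraticMap.polar (⇑Q) e e = 2 * Q e := by
    rw [QuadraticMap.polar_self]
    simp [two_mul]
  -- the target value `τ`
  obtain ⟨τ, hτ0, hτ⟩ : ∃ τ : F, τ ≠ 0 ∧
      ((IsSquare (Q e) ∧ ¬ IsSquare (τ * Q e)) ∨ (¬ IsSquare (Q e) ∧ IsSquare (τ * Q e))) := by
    by_cases hsq : IsSquare (Q e)
    · have hchar : ringChar F ≠ 2 := by
        intro h
        apply h2
        have h3 := CharP.cast_eq_zero F (ringChar F)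
        rw [h] at h3
        exact_mod_cast h3
      obtain ⟨ν, hν⟩ := FiniteField.exists_nonsquare hchar
      have hν0 : ν ≠ 0 := by
        rintro rfl
        exact hν ⟨0, by ring⟩
      refine ⟨ν, hν0, Or.inl ⟨hsq, ?_⟩⟩
      rintro ⟨b, hb⟩
      obtain ⟨a, ha⟩ := hsq
      have ha0 : a ≠ 0 := by
        rintro rfl
        apply he
        rw [ha]
        ring
      apply hν
      refine ⟨b / a, ?_⟩
      rw [ha] at hb
      field_simp
      linear_combination hb
    · refine ⟨(Q e)⁻¹, inv_ne_zero he, Or.inr ⟨hsq, ?_⟩⟩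
      rw [inv_mul_cancel₀ he]
      exact ⟨1, by ring⟩
  obtain ⟨s, t, hst⟩ := Cfsg.Agent.Lib.helper24.sfo_bin_rep h2 1 1 τ one_ne_zero one_ne_zero
  have hQu' : Q (s • e + t • (X *ᵥ e)) = τ * Q e := by
    have h : Q (s • e + t • (X *ᵥ e)) = Q (s • e) + Q (t • (X *ᵥ e)) +
        QuadraticMap.polar (⇑Q) (s • e) (t • (X *ᵥ e)) := by
      simp only [QuadraticMap.polar]
      ring
    rw [h, QuadraticMap.map_smul, QuadraticMap.map_smul, QuadraticMap.polar_smul_left,
      QuadraticMap.polar_smul_right, hself, hQx]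
    simp only [smul_eq_mul]
    linear_combination (Q e) * hst
  have hQu'0 : Q (s • e + t • (X *ᵥ e)) ≠ 0 := by
    rw [hQu']
    exact mul_ne_zero hτ0 he
  refine ⟨Cfsg.Agent.Lib.helper49.reflG Q e he *
    Cfsg.Agent.Lib.helper49.reflG Q (s • e + t • (X *ᵥ e)) hQu'0, ?_, ?_, ?_⟩
  · apply Matrix.toLin'.injective
    apply LinearMap.ext
    intro y
    simp only [Subgroup.coe_mul, Units.val_mul, Cfsg.Agent.Lib.helper49.reflG_val,
      Matrix.toLin'_mul, LinearMap.comp_apply, Matrix.toLin'_apply]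
    rw [Cfsg.Agent.Lib.helper49.refl_mulVec, Cfsg.Agent.Lib.helper49.refl_mulVec,
      Cfsg.Agent.Lib.helper49.refl_mulVec, Cfsg.Agent.Lib.helper49.refl_mulVec]
    have hp1 : QuadraticMap.polar (⇑Q) e (X *ᵥ y) = -QuadraticMap.polar (⇑Q) (X *ᵥ e) y := by
      rw [hskew, neg_neg]
    have hp2 : QuadraticMap.polar (⇑Q) (X *ᵥ e) (X *ᵥ y) = QuadraticMap.polar (⇑Q) e y := hpol e y
    simp only [QuadraticMap.polar_sub_right, QuadraticMap.polar_smul_right,
      QuadraticMap.polar_add_left, QuadraticMap.polar_smul_left, QuadraticMap.polar_add_right,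
      Matrix.mulVec_sub, Matrix.mulVec_smul, Matrix.mulVec_add, hxxv, hQu', hp1, hp2, hee,
      hself, smul_eq_mul]
    match_scalars
    · rfl
    · have hst' : τ = s ^ 2 + t ^ 2 := by rw [← hst]; ring
      subst hst'
      field_simp
      ring
    · have hst' : τ = s ^ 2 + t ^ 2 := by rw [← hst]; ring
      subst hst'
      field_simp
      ring
  · rw [map_mul, Cfsg.Agent.Lib.helper49.detHom_reflG, Cfsg.Agent.Lib.helper49.detHom_reflG]
    simp
  · rw [map_mul]
    rcases hτ with ⟨hsq, hnsq⟩ | ⟨hnsq, hsq⟩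
    · rw [← hQu'] at hnsq
      rw [(Cfsg.Agent.Lib.helper49.spinorSign_refl h2 Q e he).1 hsq,
        (Cfsg.Agent.Lib.helper49.spinorSign_refl h2 Q _ hQu'0).2 hnsq]
      simp
    · rw [← hQu'] at hsq
      rw [(Cfsg.Agent.Lib.helper49.spinorSign_refl h2 Q e he).2 hnsq,
        (Cfsg.Agent.Lib.helper49.spinorSign_refl h2 Q _ hQu'0).1 hsq]
      simp

end Cfsg.Agent.Lib.helper59.Sfk
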