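import Mathlib
import Cfsg.Agent.Lib.helper24.SfoDefs

/-!
# S5981, pieces CNTDE / CNTDO (racer copies of helper94): the number of solutions of a diagonal
quadratic equation `∑ d j * x j ^ 2 = c` over a finite field of odd characteristic.
-/

set_option autoImplicit false
set_option linter.unusedSectionVars false

namespace Cfsg.Agent.Lib.helper24

open Finset

section

variable {F : Type*} [Field F] [Fintype F] [DecidableEq F]

/-- Reindexing the variables. -/
theorem h94_cnt_reindex {ι ι' : Type*} [Fintype ι] [Fintype ι'] [DecidableEq ι] [DecidableEq ι'] (e : ι ≃ ι') (d : ι' → F)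
    (c : F) :
    (univ.filter (fun x : ι' → F => ∑ j, d j * x j ^ 2 = c)).card =
      (univ.filter (fun x : ι → F => ∑ j, d (e j) * x j ^ 2 = c)).card := by
  apply Finset.card_equiv (Equiv.arrowCongr e.symm (Equiv.refl F))
  intro x
  simp only [mem_filter, mem_univ, true_and]
  rw [← Equiv.sum_comp e (fun j => d j * x j ^ 2)]
  simp [Equiv.arrowCongr]

/-- Fibring over the value of the second block of variables. -/
theorem h94_cnt_sum {ι κ : Type*} [Fintype ι] [Fintype κ] [DecidableEq ι] [DecidableEq κ] (d : ι ⊕ κ → F) (c : F) :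
    (univ.filter (fun x : ι ⊕ κ → F => ∑ j, d j * x j ^ 2 = c)).card =
      ∑ t : F, (univ.filter (fun x : ι → F => ∑ j, d (Sum.inl j) * x j ^ 2 = c - t)).card *
        (univ.filter (fun y : κ → F => ∑ j, d (Sum.inr j) * y j ^ 2 = t)).card := by
  have h1 : (univ.filter (fun x : ι ⊕ κ → F => ∑ j, d j * x j ^ 2 = c)).card =
      (univ.filter (fun p : (ι → F) × (κ → F) =>
        ∑ j, d (Sum.inl j) * p.1 j ^ 2 + ∑ j, d (Sum.inr j) * p.2 j ^ 2 = c)).card := by
    apply Finset.card_equiv (Equiv.sumArrowEquivProdArrow ι κ F)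
    intro x
    simp only [mem_filter, mem_univ, true_and, Fintype.sum_sum_type]
    rfl
  rw [h1, Finset.card_eq_sum_card_fiberwise (f := fun p : (ι → F) × (κ → F) =>
    ∑ j, d (Sum.inr j) * p.2 j ^ 2) (t := univ) (fun _ _ => mem_univ _)]
  apply Finset.sum_congr rfl
  intro t _
  rw [← Finset.card_product]
  congr 1
  ext p
  simp only [mem_filter, mem_univ, true_and, mem_product]
  constructor
  · rintro ⟨h, ht⟩
    exact ⟨by rw [← h, ht]; ring, ht⟩
  · rintro ⟨h, ht⟩
    exact ⟨by rw [h, ht]; ring, ht⟩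

/-- Two variables. -/
theorem h94_cnt_two (d : Fin 2 → F) (t : F) :
    (univ.filter (fun y : Fin 2 → F => ∑ j, d j * y j ^ 2 = t)).card =
      (univ.filter (fun p : F × F => d 0 * p.1 ^ 2 + d 1 * p.2 ^ 2 = t)).card := by
  apply Finset.card_equiv (finTwoArrowEquiv F)
  intro x
  simp [Fin.sum_univ_two]

/-- The fibres of any function partition the domain. -/
theorem h94_cnt_total {ι : Type*} [Fintype ι] [DecidableEq ι] (d : ι → F) (c : F) :
    ∑ t : F, (univ.filter (fun x : ι → F => ∑ j, d j * x j ^ 2 = c - t)).card =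
      Fintype.card F ^ Fintype.card ι := by
  rw [← Fintype.card_fun, ← Finset.card_univ (α := ι → F),
    Finset.card_eq_sum_card_fiberwise (f := fun x : ι → F => ∑ j, d j * x j ^ 2)
      (s := univ) (t := univ) (fun _ _ => mem_univ _)]
  exact Equiv.sum_comp (Equiv.subLeft c)
    (fun s => (univ.filter (fun x : ι → F => ∑ j, d j * x j ^ 2 = s)).card)

/-- The recursion: splitting off two variables. -/
theorem h94_cnt_step {ι : Type*} [Fintype ι] [DecidableEq ι] (d : ι ⊕ Fin 2 → F) (e : ℤ)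
    (he1 : ∀ t : F, t ≠ 0 →
      ((univ.filter (fun p : F × F =>
        d (Sum.inr 0) * p.1 ^ 2 + d (Sum.inr 1) * p.2 ^ 2 = t)).card : ℤ) =
          (Fintype.card F : ℤ) - e)
    (he0 : ((univ.filter (fun p : F × F =>
        d (Sum.inr 0) * p.1 ^ 2 + d (Sum.inr 1) * p.2 ^ 2 = 0)).card : ℤ) =
          (Fintype.card F : ℤ) + ((Fintype.card F : ℤ) - 1) * e) (c : F) :
    ((univ.filter (fun x : ι ⊕ Fin 2 → F => ∑ j, d j * x j ^ 2 = c)).card : ℤ) =
      ((Fintype.card F : ℤ) - e) * (Fintype.card F : ℤ) ^ Fintype.card ι +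
        (Fintype.card F : ℤ) * e *
          ((univ.filter (fun x : ι → F => ∑ j, d (Sum.inl j) * x j ^ 2 = c)).card : ℤ) := by
  rw [h94_cnt_sum]
  push_cast
  have key : ∀ t : F,
      ((univ.filter (fun y : Fin 2 → F => ∑ j, d (Sum.inr j) * y j ^ 2 = t)).card : ℤ) =
        ((Fintype.card F : ℤ) - e) + if t = 0 then (Fintype.card F : ℤ) * e else 0 := by
    intro t
    rw [h94_cnt_two (fun j => d (Sum.inr j)) t]
    split_ifs with h
    · subst h; rw [he0]; ring
    · rw [he1 t h]; ring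
  have htot := h94_cnt_total (fun j => d (Sum.inl j)) c
  have htot' : ∑ t : F,
      ((univ.filter (fun x : ι → F => ∑ j, d (Sum.inl j) * x j ^ 2 = c - t)).card : ℤ) =
        (Fintype.card F : ℤ) ^ Fintype.card ι := by
    exact_mod_cast htot
  simp only [key, mul_add, Finset.sum_add_distrib, mul_ite, mul_zero, Finset.sum_ite_eq',
    mem_univ, if_true, sub_zero]
  rw [← Finset.sum_mul, htot']
  ring

/-- The statement of BINCNT (as a hypothesis of the cores). -/
def h94_BinCnt (F : Type*) [Field F] [Fintype F] [DecidableEq F] : Prop :=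
  ∀ a b : F, a ≠ 0 → b ≠ 0 → ∃ e : ℤ, (e = 1 ∨ e = -1) ∧
    (∀ t : F, t ≠ 0 →
      ((Finset.univ.filter (fun p : F × F => a * p.1 ^ 2 + b * p.2 ^ 2 = t)).card : ℤ) =
        (Fintype.card F : ℤ) - e) ∧
    ((Finset.univ.filter (fun p : F × F => a * p.1 ^ 2 + b * p.2 ^ 2 = 0)).card : ℤ) =
      (Fintype.card F : ℤ) + ((Fintype.card F : ℤ) - 1) * e

theorem h94_cnt_even_aux (hbin : h94_BinCnt F) :
    ∀ k m : ℕ, m = 2 * k → ∀ d : Fin m → F, (∀ j, d j ≠ 0) →
      ∃ ε : ℤ, (ε = 1 ∨ ε = -1) ∧ (k = 0 → ε = 1) ∧ ∀ c : F, c ≠ 0 →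
        (Fintype.card F : ℤ) *
            ((univ.filter (fun x : Fin m → F => ∑ j, d j * x j ^ 2 = c)).card : ℤ) =
          (Fintype.card F : ℤ) ^ k * ((Fintype.card F : ℤ) ^ k - ε) := by
  intro k
  induction k with
  | zero =>
    intro m hm d hd
    obtain rfl : m = 0 := by omega
    refine ⟨1, Or.inl rfl, fun _ => rfl, fun c hc => ?_⟩
    have : (univ.filter (fun x : Fin 0 → F => ∑ j, d j * x j ^ 2 = c)) = ∅ := by
      apply Finset.filter_eq_empty_iff.2
      intro x _
      simpa using hc.symm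
    rw [this]; simp
  | succ k ih =>
    intro m hm d hd
    obtain rfl : m = 2 * k + 2 := by omega
    obtain ⟨e, he, he1, he0⟩ :=
      hbin (d (finSumFinEquiv (Sum.inr 0))) (d (finSumFinEquiv (Sum.inr 1))) (hd _) (hd _)
    obtain ⟨ε, hε, -, hN⟩ := ih (2 * k) rfl (fun j => d (finSumFinEquiv (Sum.inl j)))
      (fun j => hd _)
    refine ⟨e * ε, ?_, fun h => absurd h (Nat.succ_ne_zero k), fun c hc => ?_⟩
    · rcases he with rfl | rfl <;> rcases hε with rfl | rfl <;> simp
    · rw [h94_cnt_reindex finSumFinEquiv d c,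
        h94_cnt_step (fun j => d (finSumFinEquiv j)) e he1 he0 c, Fintype.card_fin]
      have := hN c hc
      linear_combination ((Fintype.card F : ℤ) * e) * this

/-- CNTDE core (racer copy): BINCNT as a hypothesis. -/
theorem h94_sfo_count_diag_even_core (hbin : h94_BinCnt F)
    (k : ℕ) (d : Fin (2 * k) → F) (hd : ∀ j, d j ≠ 0) :
    ∃ ε : ℤ, (ε = 1 ∨ ε = -1) ∧ ∀ c : F, c ≠ 0 →
      ((Finset.univ.filter (fun x : Fin (2 * k) → F => ∑ j, d j * x j ^ 2 = c)).card : ℤ) =
        (Fintype.card F : ℤ) ^ (k - 1) * ((Fintype.card F : ℤ) ^ k - ε) := by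
  obtain ⟨ε, hε, hε0, hN⟩ := h94_cnt_even_aux hbin k (2 * k) rfl d hd
  have hq : (Fintype.card F : ℤ) ≠ 0 := by exact_mod_cast Fintype.card_ne_zero
  refine ⟨ε, hε, fun c hc => ?_⟩
  have h := hN c hc
  rcases Nat.eq_zero_or_pos k with hk | hk
  · have hε1 := hε0 hk
    subst hk
    rw [hε1] at h ⊢
    apply mul_left_cancel₀ hq
    rw [h]; simp
  · obtain ⟨k', rfl⟩ : ∃ k', k = k' + 1 := ⟨k - 1, by omega⟩
    apply mul_left_cancel₀ hq
    rw [h, Nat.add_sub_cancel]
    ring

theorem h94_ringChar_ne_two (h2 : (2 : F) ≠ 0) : ringChar F ≠ 2 := by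
  intro h
  have : CharP F 2 := ringChar.of_eq h
  exact h2 CharTwo.two_eq_zero

theorem h94_cnt_odd_aux (h2 : (2 : F) ≠ 0) (hbin : h94_BinCnt F) :
    ∀ k m : ℕ, m = 2 * k + 1 → ∀ d : Fin m → F, (∀ j, d j ≠ 0) →
      ∃ E : ℤ, (E = 1 ∨ E = -1) ∧ ∀ c : F, c ≠ 0 →
        ((univ.filter (fun x : Fin m → F => ∑ j, d j * x j ^ 2 = c)).card : ℤ) =
          (Fintype.card F : ℤ) ^ k * ((Fintype.card F : ℤ) ^ k + E * quadraticChar F c) := by
  intro k
  induction k with
  | zero =>
    intro m hm d hd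
    obtain rfl : m = 1 := by omega
    refine ⟨quadraticChar F (d 0), quadraticChar_dichotomy (hd 0), fun c hc => ?_⟩
    have hcard : (univ.filter (fun x : Fin 1 → F => ∑ j, d j * x j ^ 2 = c)).card =
        (univ.filter (fun x : F => x ^ 2 = c / d 0)).card := by
      apply Finset.card_equiv (Equiv.funUnique (Fin 1) F)
      intro x
      simp only [mem_filter, mem_univ, true_and, Fin.sum_univ_one, Equiv.funUnique_apply,
        Fin.default_eq_zero]
      rw [eq_div_iff (hd 0), mul_comm]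
    have hq := quadraticChar_card_sqrts (h94_ringChar_ne_two h2) (c / d 0)
    rw [Set.toFinset_ofPred] at hq
    rw [hcard, hq]
    have hmul : quadraticChar F (c / d 0) = quadraticChar F (d 0) * quadraticChar F c := by
      have h1 : quadraticChar F (c / d 0) * quadraticChar F (d 0) = quadraticChar F c := by
        rw [← map_mul, div_mul_cancel₀ _ (hd 0)]
      have h3 := quadraticChar_sq_one (hd 0)
      calc quadraticChar F (c / d 0)
          = quadraticChar F (c / d 0) * quadraticChar F (d 0) ^ 2 := by rw [h3, mul_one]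
        _ = quadraticChar F (d 0) * quadraticChar F c := by rw [← h1]; ring
    rw [hmul]; simp; ring
  | succ k ih =>
    intro m hm d hd
    obtain rfl : m = (2 * k + 1) + 2 := by omega
    obtain ⟨e, he, he1, he0⟩ :=
      hbin (d (finSumFinEquiv (Sum.inr 0))) (d (finSumFinEquiv (Sum.inr 1))) (hd _) (hd _)
    obtain ⟨E, hE, hN⟩ := ih (2 * k + 1) rfl (fun j => d (finSumFinEquiv (Sum.inl j)))
      (fun j => hd _)
    refine ⟨e * E, ?_, fun c hc => ?_⟩
    · rcases he with rfl | rfl <;> rcases hE with rfl | rfl <;> simp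
    · rw [h94_cnt_reindex finSumFinEquiv d c,
        h94_cnt_step (fun j => d (finSumFinEquiv j)) e he1 he0 c, Fintype.card_fin]
      have := hN c hc
      linear_combination ((Fintype.card F : ℤ) * e) * this

/-- CNTDO core (racer copy): BINCNT as a hypothesis. -/
theorem h94_sfo_count_diag_odd_core (h2 : (2 : F) ≠ 0) (hbin : h94_BinCnt F)
    (k : ℕ) (d : Fin (2 * k + 1) → F) (hd : ∀ j, d j ≠ 0) :
    ∃ E : ℤ, (E = 1 ∨ E = -1) ∧
      (∀ c : F, c ≠ 0 → IsSquare c →
        ((Finset.univ.filter (fun x : Fin (2 * k + 1) → F => ∑ j, d j * x j ^ 2 = c)).card : ℤ) =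
          (Fintype.card F : ℤ) ^ k * ((Fintype.card F : ℤ) ^ k + E)) ∧
      (∀ c : F, c ≠ 0 → ¬ IsSquare c →
        ((Finset.univ.filter (fun x : Fin (2 * k + 1) → F => ∑ j, d j * x j ^ 2 = c)).card : ℤ) =
          (Fintype.card F : ℤ) ^ k * ((Fintype.card F : ℤ) ^ k - E)) := by
  obtain ⟨E, hE, hN⟩ := h94_cnt_odd_aux h2 hbin k (2 * k + 1) rfl d hd
  refine ⟨E, hE, fun c hc hsq => ?_, fun c hc hsq => ?_⟩
  · rw [hN c hc, (quadraticChar_one_iff_isSquare hc).2 hsq, mul_one]
  · rw [hN c hc, quadraticChar_neg_one_iff_not_isSquare.2 hsq]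
    ring

end

end Cfsg.Agent.Lib.helper24
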