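/-
Counting in a Steiner system S(5, 8, 24): the number of blocks through an `i`-set
(759, 253, 77, 21, 5, 1 for `i = 0, …, 5`) and intersection numbers with a fixed set.
-/
import Mathlib
import Cfsg.Prelude.Def_Sporadic_a

set_option autoImplicit false
set_option linter.unusedSectionVars false

namespace Cfsg.Agent.Lib.helper94

open Finset

variable {α : Type*} [Fintype α] [DecidableEq α]

open scoped Classical in
/-- The blocks of a set system as a finset. -/
noncomputable def blocksF (B : Set (Finset α)) : Finset (Finset α) := Finset.univ.filter (· ∈ B)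

theorem mem_blocksF {B : Set (Finset α)} {b : Finset α} : b ∈ blocksF B ↔ b ∈ B := by
  classical
  simp [blocksF]

/-- Number of blocks containing a given set. -/
noncomputable def blocksThrough (B : Set (Finset α)) (s : Finset α) : ℕ :=
  ((blocksF B).filter fun b => s ⊆ b).card

theorem blocksThrough_five (B : Set (Finset α)) (hB : Cfsg.IsSteinerSystem 5 8 B) (s : Finset α)
    (hs : s.card = 5) : blocksThrough B s = 1 := by
  classical
  obtain ⟨b, ⟨hbB, hsb⟩, huniq⟩ := hB.2 s hs
  rw [blocksThrough, Finset.card_eq_one]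
  refine ⟨b, ?_⟩
  ext b'
  simp only [Finset.mem_filter, mem_blocksF, Finset.mem_singleton]
  constructor
  · rintro ⟨h1, h2⟩; exact huniq b' ⟨h1, h2⟩
  · rintro rfl; exact ⟨hbB, hsb⟩

/-- The double count behind the recursion for the numbers of blocks through a set. -/
theorem blocksThrough_step (B : Set (Finset α)) (hB : Cfsg.IsSteinerSystem 5 8 B)
    (hα : Fintype.card α = 24) (s : Finset α) (i l : ℕ) (hs : s.card = i) (_hi : i ≤ 8)
    (h : ∀ x, x ∉ s → blocksThrough B (insert x s) = l) :
    blocksThrough B s * (8 - i) = (24 - i) * l := by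
  classical
  have hswap : ∑ x ∈ sᶜ, ∑ _b ∈ (blocksF B).filter (fun b => insert x s ⊆ b), 1
      = ∑ b ∈ (blocksF B).filter (fun b => s ⊆ b), ∑ _x ∈ b \ s, 1 := by
    refine Finset.sum_comm' ?_
    intro x b
    simp only [Finset.mem_compl, Finset.mem_filter, Finset.mem_sdiff, Finset.insert_subset_iff]
    tauto
  have hL : ∑ x ∈ sᶜ, ∑ _b ∈ (blocksF B).filter (fun b => insert x s ⊆ b), 1 = (24 - i) * l := by
    have : ∀ x ∈ sᶜ, ∑ _b ∈ (blocksF B).filter (fun b => insert x s ⊆ b), 1 = l := by
      intro x hx
      rw [Finset.mem_compl] at hx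
      rw [← Finset.card_eq_sum_ones]
      exact h x hx
    rw [Finset.sum_congr rfl this, Finset.sum_const, Finset.card_compl, hα, hs, smul_eq_mul]
  have hR : ∑ b ∈ (blocksF B).filter (fun b => s ⊆ b), ∑ _x ∈ b \ s, 1
      = blocksThrough B s * (8 - i) := by
    have : ∀ b ∈ (blocksF B).filter (fun b => s ⊆ b), ∑ _x ∈ b \ s, 1 = 8 - i := by
      intro b hb
      rw [Finset.mem_filter, mem_blocksF] at hb
      rw [← Finset.card_eq_sum_ones, Finset.card_sdiff_of_subset hb.2, hB.1 b hb.1, hs]
    rw [Finset.sum_congr rfl this, Finset.sum_const, smul_eq_mul, blocksThrough]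
  rw [← hR, ← hswap, hL]

theorem card_insert_eq {s : Finset α} {x : α} {i : ℕ} (hs : s.card = i) (hx : x ∉ s) :
    (insert x s).card = i + 1 := by
  rw [Finset.card_insert_of_notMem hx, hs]

theorem blocksThrough_four (B : Set (Finset α)) (hB : Cfsg.IsSteinerSystem 5 8 B)
    (hα : Fintype.card α = 24) (s : Finset α) (hs : s.card = 4) : blocksThrough B s = 5 := by
  have := blocksThrough_step B hB hα s 4 1 hs (by omega)
    (fun x hx => blocksThrough_five B hB _ (card_insert_eq hs hx))
  omega

theorem blocksThrough_three (B : Set (Finset α)) (hB : Cfsg.IsSteinerSystem 5 8 B)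
    (hα : Fintype.card α = 24) (s : Finset α) (hs : s.card = 3) : blocksThrough B s = 21 := by
  have := blocksThrough_step B hB hα s 3 5 hs (by omega)
    (fun x hx => blocksThrough_four B hB hα _ (card_insert_eq hs hx))
  omega

theorem blocksThrough_two (B : Set (Finset α)) (hB : Cfsg.IsSteinerSystem 5 8 B)
    (hα : Fintype.card α = 24) (s : Finset α) (hs : s.card = 2) : blocksThrough B s = 77 := by
  have := blocksThrough_step B hB hα s 2 21 hs (by omega)
    (fun x hx => blocksThrough_three B hB hα _ (card_insert_eq hs hx))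
  omega

theorem blocksThrough_one (B : Set (Finset α)) (hB : Cfsg.IsSteinerSystem 5 8 B)
    (hα : Fintype.card α = 24) (s : Finset α) (hs : s.card = 1) : blocksThrough B s = 253 := by
  have := blocksThrough_step B hB hα s 1 77 hs (by omega)
    (fun x hx => blocksThrough_two B hB hα _ (card_insert_eq hs hx))
  omega

theorem blocksThrough_zero (B : Set (Finset α)) (hB : Cfsg.IsSteinerSystem 5 8 B)
    (hα : Fintype.card α = 24) (s : Finset α) (hs : s.card = 0) : blocksThrough B s = 759 := by
  have := blocksThrough_step B hB hα s 0 253 hs (by omega)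
    (fun x hx => blocksThrough_one B hB hα _ (card_insert_eq hs hx))
  omega

/-- A Steiner system S(5, 8, 24) has 759 blocks. -/
theorem card_blocksF (B : Set (Finset α)) (hB : Cfsg.IsSteinerSystem 5 8 B)
    (hα : Fintype.card α = 24) : (blocksF B).card = 759 := by
  classical
  have := blocksThrough_zero B hB hα ∅ rfl
  rw [blocksThrough] at this
  rw [← this]
  congr 1
  ext b; simp

/-- Number of blocks meeting `Y` in exactly `k` points. -/
noncomputable def blocksMeeting (B : Set (Finset α)) (Y : Finset α) (k : ℕ) : ℕ :=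
  ((blocksF B).filter fun b => (b ∩ Y).card = k).card

/-- Double count: pairs (`j`-subset `T` of `Y`, block through `T`). -/
theorem sum_choose_inter (B : Set (Finset α)) (Y : Finset α) (j : ℕ) :
    ∑ T ∈ Y.powersetCard j, blocksThrough B T = ∑ b ∈ blocksF B, ((b ∩ Y).card).choose j := by
  classical
  have hswap : ∑ T ∈ Y.powersetCard j, ∑ _b ∈ (blocksF B).filter (fun b => T ⊆ b), 1
      = ∑ b ∈ blocksF B, ∑ _T ∈ (b ∩ Y).powersetCard j, 1 := by
    refine Finset.sum_comm' ?_
    intro T b
    simp only [Finset.mem_powersetCard, Finset.mem_filter, Finset.subset_inter_iff]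
    tauto
  have h1 : ∀ T ∈ Y.powersetCard j, ∑ _b ∈ (blocksF B).filter (fun b => T ⊆ b), 1 = blocksThrough B T := by
    intro T _
    rw [← Finset.card_eq_sum_ones, blocksThrough]
  have h2 : ∀ b ∈ blocksF B, ∑ _T ∈ (b ∩ Y).powersetCard j, 1 = ((b ∩ Y).card).choose j := by
    intro b _
    rw [← Finset.card_eq_sum_ones, Finset.card_powersetCard]
  rw [← Finset.sum_congr rfl h1, hswap, Finset.sum_congr rfl h2]

/-- Splitting a sum over blocks according to the size of the intersection with a 3-set. -/
theorem sum_blocks_three (B : Set (Finset α)) (Y : Finset α) (hY : Y.card = 3) (f : ℕ → ℕ) :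
    ∑ b ∈ blocksF B, f (b ∩ Y).card
      = blocksMeeting B Y 0 * f 0 + blocksMeeting B Y 1 * f 1 + blocksMeeting B Y 2 * f 2
        + blocksMeeting B Y 3 * f 3 := by
  classical
  have hmaps : ∀ b ∈ blocksF B, (b ∩ Y).card ∈ Finset.range 4 := by
    intro b _
    rw [Finset.mem_range]
    have := Finset.card_le_card (Finset.inter_subset_right (s₁ := b) (s₂ := Y))
    omega
  rw [← Finset.sum_fiberwise_of_maps_to hmaps]
  have hin : ∀ k ∈ Finset.range 4, ∑ b ∈ (blocksF B).filter (fun b => (b ∩ Y).card = k), f (b ∩ Y).card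
      = blocksMeeting B Y k * f k := by
    intro k _
    rw [blocksMeeting, Finset.card_eq_sum_ones, Finset.sum_mul]
    refine Finset.sum_congr rfl fun b hb => ?_
    rw [Finset.mem_filter] at hb
    rw [hb.2, one_mul]
  rw [Finset.sum_congr rfl hin]
  simp [Finset.sum_range_succ]

/-- Intersection numbers of a Steiner system S(5, 8, 24) with a 3-set. -/
theorem blocksMeeting_three (B : Set (Finset α)) (hB : Cfsg.IsSteinerSystem 5 8 B)
    (hα : Fintype.card α = 24) (Y : Finset α) (hY : Y.card = 3) :
    blocksMeeting B Y 3 = 21 ∧ blocksMeeting B Y 2 = 168 ∧ blocksMeeting B Y 1 = 360 ∧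
      blocksMeeting B Y 0 = 210 := by
  classical
  have e0 := sum_choose_inter B Y 0
  have e1 := sum_choose_inter B Y 1
  have e2 := sum_choose_inter B Y 2
  have e3 := sum_choose_inter B Y 3
  rw [sum_blocks_three B Y hY (fun n => n.choose 0)] at e0
  rw [sum_blocks_three B Y hY (fun n => n.choose 1)] at e1
  rw [sum_blocks_three B Y hY (fun n => n.choose 2)] at e2
  rw [sum_blocks_three B Y hY (fun n => n.choose 3)] at e3
  have c0 : ∑ T ∈ Y.powersetCard 0, blocksThrough B T = 759 := by
    rw [Finset.sum_congr rfl (fun T hT => blocksThrough_zero B hB hα T (Finset.mem_powersetCard.mp hT).2),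
      Finset.sum_const, Finset.card_powersetCard, hY]
    rfl
  have c1 : ∑ T ∈ Y.powersetCard 1, blocksThrough B T = 759 := by
    rw [Finset.sum_congr rfl (fun T hT => blocksThrough_one B hB hα T (Finset.mem_powersetCard.mp hT).2),
      Finset.sum_const, Finset.card_powersetCard, hY]
    rfl
  have c2 : ∑ T ∈ Y.powersetCard 2, blocksThrough B T = 231 := by
    rw [Finset.sum_congr rfl (fun T hT => blocksThrough_two B hB hα T (Finset.mem_powersetCard.mp hT).2),
      Finset.sum_const, Finset.card_powersetCard, hY]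
    rfl
  have c3 : ∑ T ∈ Y.powersetCard 3, blocksThrough B T = 21 := by
    rw [Finset.sum_congr rfl (fun T hT => blocksThrough_three B hB hα T (Finset.mem_powersetCard.mp hT).2),
      Finset.sum_const, Finset.card_powersetCard, hY]
    rfl
  rw [c0] at e0
  rw [c1] at e1
  rw [c2] at e2
  rw [c3] at e3
  simp only [Nat.choose] at e0 e1 e2 e3
  omega

theorem ncard_blocksMeeting (B : Set (Finset α)) (Y : Finset α) (k : ℕ) :
    {b : Finset α | b ∈ B ∧ (b ∩ Y).card = k}.ncard = blocksMeeting B Y k := by
  classical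
  have : {b : Finset α | b ∈ B ∧ (b ∩ Y).card = k}
      = ↑((blocksF B).filter fun b => (b ∩ Y).card = k) := by
    ext b; simp [mem_blocksF]
  rw [this, Set.ncard_coe_finset, blocksMeeting]

end Cfsg.Agent.Lib.helper94
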