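/-
A computable model of the twelve positions of the 4 × 3 array: indices, 12-bit masks for sets of
positions, and supports of the words of the length-12 ternary code in the parametrisation of
`Cfsg.Agent.S1590`.
-/
import Mathlib
import Cfsg.Prelude.Def_SporadicCombinatorics
import Cfsg.Agent.S1590
import Cfsg.Agent.Lib.helper94.M24Class

set_option autoImplicit false
set_option linter.unusedSectionVars false

namespace Cfsg.Agent.Lib.helper94

open Cfsg
open Cfsg.Agent.S1590 (K phi phi_mem eq_phi)

/-! ### Positions and indices -/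

/-- Index of a position of the array: column `i`, row `r` has index `3 i + r`. -/
def idx12 (p : ArrayPt) : ℕ := 3 * p.1.val + p.2.val

/-- The position with a given index. -/
def pt12 : ℕ → ArrayPt
  | 0 => (0, 0)
  | 1 => (0, 1)
  | 2 => (0, 2)
  | 3 => (1, 0)
  | 4 => (1, 1)
  | 5 => (1, 2)
  | 6 => (2, 0)
  | 7 => (2, 1)
  | 8 => (2, 2)
  | 9 => (3, 0)
  | 10 => (3, 1)
  | _ => (3, 2)

theorem idx12_lt : ∀ p : ArrayPt, idx12 p < 12 := by decide

theorem pt12_idx12 : ∀ p : ArrayPt, pt12 (idx12 p) = p := by decide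

theorem idx12_pt12 : ∀ i < 12, idx12 (pt12 i) = i := by decide

theorem idx12_injective : Function.Injective idx12 := by
  intro p q h
  rw [← pt12_idx12 p, ← pt12_idx12 q, h]

/-! ### Masks and sets -/

/-- The set of positions encoded by a mask. -/
def setOf12 (m : ℕ) : Finset ArrayPt := Finset.univ.filter fun p => m.testBit (idx12 p)

theorem mem_setOf12 {m : ℕ} {p : ArrayPt} : p ∈ setOf12 m ↔ m.testBit (idx12 p) = true := by
  simp [setOf12]

/-- The mask of a set of positions. -/
def maskOf12 (s : Finset ArrayPt) : ℕ := Nat.ofBits fun i : Fin 12 => decide (pt12 i ∈ s)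

theorem testBit_maskOf12 (s : Finset ArrayPt) (i : ℕ) :
    (maskOf12 s).testBit i = decide (i < 12 ∧ pt12 i ∈ s) := by
  rw [maskOf12, Nat.testBit_ofBits]
  by_cases h : i < 12
  · simp [h]
  · simp [h]

theorem setOf12_maskOf12 (s : Finset ArrayPt) : setOf12 (maskOf12 s) = s := by
  ext p
  rw [mem_setOf12, testBit_maskOf12]
  simp [idx12_lt, pt12_idx12]

theorem maskOf12_lt (s : Finset ArrayPt) : maskOf12 s < 2 ^ 12 := Nat.ofBits_lt_two_pow _

theorem setOf12_injOn {a b : ℕ} (ha : a < 2 ^ 12) (hb : b < 2 ^ 12) (h : setOf12 a = setOf12 b) :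
    a = b := by
  apply Nat.eq_of_testBit_eq
  intro i
  by_cases hi : i < 12
  · have := congrArg (fun s => decide (pt12 i ∈ s)) h
    simp only [mem_setOf12, idx12_pt12 i hi] at this
    simpa using this
  · have h1 : a.testBit i = false :=
      Nat.testBit_lt_two_pow (lt_of_lt_of_le ha (Nat.pow_le_pow_right (by omega) (by omega)))
    have h2 : b.testBit i = false :=
      Nat.testBit_lt_two_pow (lt_of_lt_of_le hb (Nat.pow_le_pow_right (by omega) (by omega)))
    rw [h1, h2]

theorem card_setOf12 {m : ℕ} (hm : m < 2 ^ 12) : (setOf12 m).card = popc m := by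
  rw [popc_eq, popcAux_eq]
  refine Finset.card_bij (fun p _ => idx12 p) ?_ ?_ ?_
  · intro p hp
    rw [mem_setOf12] at hp
    have := idx12_lt p
    simp only [Finset.mem_filter, Finset.mem_range]
    exact ⟨by omega, hp⟩
  · intro p _ q _ h
    exact idx12_injective h
  · intro i hi
    simp only [Finset.mem_filter, Finset.mem_range] at hi
    have hi12 : i < 12 := by
      by_contra hcon
      have h1 : m.testBit i = false :=
        Nat.testBit_lt_two_pow (lt_of_lt_of_le hm (Nat.pow_le_pow_right (by omega) (by omega)))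
      rw [h1] at hi
      exact absurd hi.2 (by simp)
    refine ⟨pt12 i, ?_, idx12_pt12 i hi12⟩
    rw [mem_setOf12, idx12_pt12 i hi12]
    exact hi.2

theorem setOf12_and (a b : ℕ) : setOf12 (a &&& b) = setOf12 a ∩ setOf12 b := by
  ext p
  simp [mem_setOf12, Nat.testBit_and]

/-- Inclusion of the sets of two masks. -/
theorem setOf12_subset_iff {a b : ℕ} (ha : a < 2 ^ 12) :
    setOf12 a ⊆ setOf12 b ↔ Nat.land a b = a := by
  constructor
  · intro h
    have h1 : setOf12 (a &&& b) = setOf12 a := by
      rw [setOf12_and]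
      exact Finset.inter_eq_left.mpr h
    exact setOf12_injOn (lt_of_le_of_lt Nat.and_le_left ha) ha h1
  · intro h
    have h1 : setOf12 (a &&& b) = setOf12 a := by
      show setOf12 (Nat.land a b) = setOf12 a
      rw [h]
    rw [setOf12_and] at h1
    exact Finset.inter_eq_left.mp h1

/-! ### Supports of words -/

/-- The mask of the support of a word. -/
def suppMask (x : ArrayPt → ZMod 3) : ℕ := Nat.ofBits fun i : Fin 12 => decide (x (pt12 i) ≠ 0)

theorem testBit_suppMask (x : ArrayPt → ZMod 3) (i : ℕ) :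
    (suppMask x).testBit i = decide (i < 12 ∧ x (pt12 i) ≠ 0) := by
  rw [suppMask, Nat.testBit_ofBits]
  by_cases h : i < 12
  · simp [h]
  · simp [h]

theorem suppMask_lt (x : ArrayPt → ZMod 3) : suppMask x < 2 ^ 12 := Nat.ofBits_lt_two_pow _

theorem ternarySupport_eq (x : ArrayPt → ZMod 3) : ternarySupport x = setOf12 (suppMask x) := by
  ext p
  rw [mem_setOf12, testBit_suppMask]
  simp [ternarySupport, idx12_lt, pt12_idx12]

theorem card_ternarySupport (x : ArrayPt → ZMod 3) :
    (ternarySupport x).card = popc (suppMask x) := by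
  rw [ternarySupport_eq, card_setOf12 (suppMask_lt x)]

/-! ### The parametrisation of the code -/

/-- The parameter with a given index below `729` (base-3 digits). -/
def kOf (n : ℕ) : K :=
  (((n % 3 : ℕ) : ZMod 3), ((n / 3 % 3 : ℕ) : ZMod 3), ((n / 9 % 3 : ℕ) : ZMod 3),
    ((n / 27 % 3 : ℕ) : ZMod 3), ((n / 81 % 3 : ℕ) : ZMod 3), ((n / 243 % 3 : ℕ) : ZMod 3))

/-- The information coordinates of a word. -/
def infoOf12 (x : ArrayPt → ZMod 3) : K := (x (0, 0), x (1, 0), x (2, 0), x (3, 0), x (0, 1), x (1, 1))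

theorem mem_code_iff (x : ArrayPt → ZMod 3) : x ∈ ternaryGolayCode ↔ phi (infoOf12 x) = x :=
  ⟨fun h => eq_phi x h, fun h => h ▸ phi_mem _⟩

theorem exists_phi {x : ArrayPt → ZMod 3} (hx : x ∈ ternaryGolayCode) : ∃ k : K, x = phi k :=
  ⟨_, (eq_phi x hx).symm⟩

/-- Equality of two words, as a Boolean test at the twelve positions. -/
def eq12 (x y : ArrayPt → ZMod 3) : Bool :=
  allBelow (fun i => decide (x (pt12 i) = y (pt12 i))) 12

theorem eq12_iff (x y : ArrayPt → ZMod 3) : eq12 x y = true ↔ x = y := by
  rw [eq12, allBelow_iff]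
  constructor
  · intro h
    funext p
    have := h (idx12 p) (idx12_lt p)
    rw [pt12_idx12] at this
    exact of_decide_eq_true this
  · rintro rfl i _
    exact decide_eq_true rfl

/-- Boolean membership test for the code. -/
def inCode (x : ArrayPt → ZMod 3) : Bool := eq12 (phi (infoOf12 x)) x

theorem inCode_iff (x : ArrayPt → ZMod 3) : inCode x = true ↔ x ∈ ternaryGolayCode := by
  rw [inCode, eq12_iff, mem_code_iff]

end Cfsg.Agent.Lib.helper94
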