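/-
Monomial automorphisms of the length-12 ternary code: the group of their permutation parts,
tables for permutations of the twelve positions, stabiliser chains and an exhaustive enumeration
of the permutations fixing the first positions.
-/
import Mathlib
import Cfsg.Prelude.Def_SporadicCombinatorics
import Cfsg.Agent.Lib.helper94.TG12
import Cfsg.Agent.Lib.helper9.M24Chain

set_option autoImplicit false
set_option linter.unusedSectionVars false

namespace Cfsg.Agent.Lib.helper94

open Cfsg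
open scoped Pointwise
open Cfsg.Agent.S1590 (K phi phi_mem eq_phi)
open Cfsg.Agent.Lib.helper9 (le_card_of_orbit card_le_of_orbit)

/-! ### Monomial maps -/

/-- The pair `(σ, c)` is a monomial automorphism of the ternary code. -/
def IsTGAut (σ : Equiv.Perm ArrayPt) (c : ArrayPt → (ZMod 3)ˣ) : Prop :=
  ∀ x ∈ ternaryGolayCode, monomialMap σ c x ∈ ternaryGolayCode

theorem monomialMap_apply (σ : Equiv.Perm ArrayPt) (c : ArrayPt → (ZMod 3)ˣ)
    (x : ArrayPt → ZMod 3) (i : ArrayPt) :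
    monomialMap σ c x i = (c i : ZMod 3) * x (σ.symm i) := rfl

theorem monomialMap_add (σ : Equiv.Perm ArrayPt) (c : ArrayPt → (ZMod 3)ˣ)
    (x y : ArrayPt → ZMod 3) :
    monomialMap σ c (x + y) = monomialMap σ c x + monomialMap σ c y := by
  funext i
  simp only [monomialMap_apply, Pi.add_apply, mul_add]

theorem monomialMap_smul (σ : Equiv.Perm ArrayPt) (c : ArrayPt → (ZMod 3)ˣ) (a : ZMod 3)
    (x : ArrayPt → ZMod 3) :
    monomialMap σ c (a • x) = a • monomialMap σ c x := by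
  funext i
  simp only [monomialMap_apply, Pi.smul_apply, smul_eq_mul]
  ring

theorem monomialMap_comp (σ τ : Equiv.Perm ArrayPt) (c d : ArrayPt → (ZMod 3)ˣ)
    (x : ArrayPt → ZMod 3) :
    monomialMap σ c (monomialMap τ d x)
      = monomialMap (σ * τ) (fun i => c i * d (σ.symm i)) x := by
  funext i
  simp only [monomialMap_apply, Units.val_mul]
  rw [mul_assoc]
  rfl

theorem monomialMap_injective (σ : Equiv.Perm ArrayPt) (c : ArrayPt → (ZMod 3)ˣ) :
    Function.Injective (monomialMap σ c) := by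
  intro x y h
  funext j
  have h1 := congrFun h (σ j)
  simp only [monomialMap_apply, Equiv.symm_apply_apply] at h1
  exact (c (σ j)).isUnit.mul_left_cancel h1

theorem tgAut_surj {σ : Equiv.Perm ArrayPt} {c : ArrayPt → (ZMod 3)ˣ} (hc : IsTGAut σ c) :
    ∀ y ∈ ternaryGolayCode, ∃ x ∈ ternaryGolayCode, monomialMap σ c x = y := by
  have hinj : Function.Injective
      (fun x : ↥ternaryGolayCode => (⟨monomialMap σ c x, hc x x.2⟩ : ↥ternaryGolayCode)) := by
    intro x y h
    exact Subtype.ext (monomialMap_injective σ c (congrArg Subtype.val h))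
  intro y hy
  obtain ⟨x, hx⟩ := Finite.surjective_of_injective hinj ⟨y, hy⟩
  exact ⟨x, x.2, congrArg Subtype.val hx⟩

/-- The permutation parts of the monomial automorphisms of the ternary code. -/
def tgPermGroup : Subgroup (Equiv.Perm ArrayPt) where
  carrier := {σ | ∃ c, IsTGAut σ c}
  mul_mem' := by
    rintro σ τ ⟨c, hc⟩ ⟨d, hd⟩
    refine ⟨fun i => c i * d (σ.symm i), fun x hx => ?_⟩
    rw [← monomialMap_comp]
    exact hc _ (hd x hx)
  one_mem' := by
    refine ⟨fun _ => 1, fun x hx => ?_⟩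
    have h1 : monomialMap 1 (fun _ => (1 : (ZMod 3)ˣ)) x = x := by
      funext i
      show ((1 : (ZMod 3)ˣ) : ZMod 3) * x i = x i
      rw [Units.val_one, one_mul]
    rw [h1]
    exact hx
  inv_mem' := by
    rintro σ ⟨c, hc⟩
    refine ⟨fun i => (c (σ i))⁻¹, fun y hy => ?_⟩
    obtain ⟨x, hx, rfl⟩ := tgAut_surj hc y hy
    have h1 : monomialMap σ⁻¹ (fun i => (c (σ i))⁻¹) (monomialMap σ c x) = x := by
      funext i
      show (((c (σ i))⁻¹ : (ZMod 3)ˣ) : ZMod 3) * ((c (σ i) : ZMod 3) * x (σ.symm (σ i))) = x i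
      rw [Equiv.symm_apply_apply, ← mul_assoc, Units.inv_mul, one_mul]
    rw [h1]
    exact hx

theorem mem_tgPermGroup {σ : Equiv.Perm ArrayPt} : σ ∈ tgPermGroup ↔ ∃ c, IsTGAut σ c := Iff.rfl

/-- The hexads: the supports of the words of weight 6. -/
def tgHexads : Set (Finset ArrayPt) :=
  {h : Finset ArrayPt | ∃ x ∈ ternaryGolayCode, ternarySupport x = h ∧ h.card = 6}

theorem ternarySupport_monomialMap (σ : Equiv.Perm ArrayPt) (c : ArrayPt → (ZMod 3)ˣ)
    (x : ArrayPt → ZMod 3) :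
    ternarySupport (monomialMap σ c x) = σ • ternarySupport x := by
  ext i
  rw [Finset.mem_smul_finset]
  have hL : i ∈ ternarySupport (monomialMap σ c x) ↔ monomialMap σ c x i ≠ 0 := by
    simp [ternarySupport]
  have hR : ∀ y, y ∈ ternarySupport x ↔ x y ≠ 0 := fun y => by simp [ternarySupport]
  rw [hL, monomialMap_apply]
  constructor
  · intro h
    refine ⟨σ.symm i, (hR _).mpr ?_, by simp⟩
    intro h0
    exact h (by rw [h0, mul_zero])
  · rintro ⟨y, hy, rfl⟩
    have h1 : σ.symm (σ • y) = y := by simp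
    rw [h1]
    exact mul_ne_zero (c _).ne_zero ((hR y).mp hy)

theorem tgPermGroup_le : tgPermGroup ≤ setSystemAut tgHexads := by
  have sub : ∀ τ ∈ tgPermGroup, τ • tgHexads ⊆ tgHexads := by
    rintro τ ⟨c, hc⟩ _ ⟨h, ⟨x, hx, rfl, hcard⟩, rfl⟩
    exact ⟨monomialMap τ c x, hc x hx, ternarySupport_monomialMap τ c x, by
      rw [Finset.card_smul_finset]; exact hcard⟩
  intro σ hσ
  rw [MulAction.mem_stabilizer_iff]
  apply Set.Subset.antisymm (sub σ hσ)
  intro h hh
  have h1 := sub σ⁻¹ (inv_mem hσ) (Set.smul_mem_smul_set hh)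
  exact ⟨σ⁻¹ • h, h1, smul_inv_smul σ h⟩

/-! ### Counting the monomial automorphisms -/

theorem tgAut_ratio {σ : Equiv.Perm ArrayPt} {c c' : ArrayPt → (ZMod 3)ˣ} (hc : IsTGAut σ c)
    (hc' : IsTGAut σ c') : IsTGAut 1 (fun i => c' i * (c i)⁻¹) := by
  intro y hy
  obtain ⟨x, hx, rfl⟩ := tgAut_surj hc y hy
  have h1 : monomialMap 1 (fun i => c' i * (c i)⁻¹) (monomialMap σ c x) = monomialMap σ c' x := by
    funext i
    simp only [monomialMap_apply, Units.val_mul]
    have h2 : (1 : Equiv.Perm ArrayPt).symm i = i := rfl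
    rw [h2, mul_assoc, ← mul_assoc (((c i)⁻¹ : (ZMod 3)ˣ) : ZMod 3), Units.inv_mul, one_mul]
  rw [h1]
  exact hc' x hx

theorem tgAut_scale {σ : Equiv.Perm ArrayPt} {c : ArrayPt → (ZMod 3)ˣ} (hc : IsTGAut σ c)
    (ε : (ZMod 3)ˣ) : IsTGAut σ (fun i => ε * c i) := by
  intro x hx
  have h1 : monomialMap σ (fun i => ε * c i) x = (ε : ZMod 3) • monomialMap σ c x := by
    funext i
    simp only [monomialMap_apply, Units.val_mul, Pi.smul_apply, smul_eq_mul, mul_assoc]
  rw [h1]
  exact Submodule.smul_mem _ _ (hc x hx)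

theorem tgAut_card
    (hdiag : ∀ d : ArrayPt → (ZMod 3)ˣ, IsTGAut 1 d → (∀ p, d p = 1) ∨ (∀ p, d p = -1)) :
    Nat.card {f : Equiv.Perm ArrayPt × (ArrayPt → (ZMod 3)ˣ) // IsTGAut f.1 f.2}
      = Nat.card tgPermGroup * 2 := by
  classical
  have hconst : ∀ {σ : Equiv.Perm ArrayPt} {c c' : ArrayPt → (ZMod 3)ˣ}, IsTGAut σ c →
      IsTGAut σ c' → ∀ i, c' i * (c i)⁻¹ = c' (0, 0) * (c (0, 0))⁻¹ := by
    intro σ c c' hc hc' i
    rcases hdiag _ (tgAut_ratio hc hc') with h | h
    · rw [h i, h (0, 0)]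
    · rw [h i, h (0, 0)]
  let wit : tgPermGroup → (ArrayPt → (ZMod 3)ˣ) := fun σ => Classical.choose σ.2
  have hwit : ∀ σ : tgPermGroup, IsTGAut σ.1 (wit σ) := fun σ => Classical.choose_spec σ.2
  let e : {f : Equiv.Perm ArrayPt × (ArrayPt → (ZMod 3)ˣ) // IsTGAut f.1 f.2}
      ≃ tgPermGroup × (ZMod 3)ˣ :=
    { toFun := fun f => (⟨f.1.1, f.1.2, f.2⟩, f.1.2 (0, 0) * (wit ⟨f.1.1, f.1.2, f.2⟩ (0, 0))⁻¹)
      invFun := fun q => ⟨(q.1.1, fun i => q.2 * wit q.1 i), tgAut_scale (hwit q.1) q.2⟩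
      left_inv := by
        rintro ⟨⟨σ, c⟩, hf⟩
        apply Subtype.ext
        refine Prod.ext rfl ?_
        funext i
        have h1 := hconst (hwit ⟨σ, c, hf⟩) hf i
        show c (0, 0) * (wit ⟨σ, c, hf⟩ (0, 0))⁻¹ * wit ⟨σ, c, hf⟩ i = c i
        rw [← h1, inv_mul_cancel_right]
      right_inv := by
        rintro ⟨σ, ε⟩
        refine Prod.ext rfl ?_
        show ε * wit σ (0, 0) * (wit σ (0, 0))⁻¹ = ε
        rw [mul_inv_cancel_right] }
  rw [Nat.card_congr e, Nat.card_prod]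
  congr 1
  rw [Nat.card_eq_fintype_card]
  rfl

/-! ### Stabiliser chains -/

/-- The elements of `G` fixing the positions with index below `n`. -/
def stabN (G : Subgroup (Equiv.Perm ArrayPt)) : ℕ → Subgroup (Equiv.Perm ArrayPt)
  | 0 => G
  | n + 1 => stabN G n ⊓ MulAction.stabilizer (Equiv.Perm ArrayPt) (pt12 n)

theorem mem_stabN {G : Subgroup (Equiv.Perm ArrayPt)} {n : ℕ} {g : Equiv.Perm ArrayPt} :
    g ∈ stabN G n ↔ g ∈ G ∧ ∀ i < n, g (pt12 i) = pt12 i := by
  induction n with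
  | zero => simp [stabN]
  | succ n ih =>
    rw [stabN, Subgroup.mem_inf, ih, MulAction.mem_stabilizer_iff]
    constructor
    · rintro ⟨⟨hg, h⟩, hn⟩
      refine ⟨hg, fun i hi => ?_⟩
      rcases Nat.lt_succ_iff_lt_or_eq.mp hi with h1 | rfl
      · exact h i h1
      · exact hn
    · rintro ⟨hg, h⟩
      exact ⟨⟨hg, fun i hi => h i (Nat.lt_succ_of_lt hi)⟩, h n (Nat.lt_succ_self n)⟩

theorem stabN_mono {G G' : Subgroup (Equiv.Perm ArrayPt)} (h : G ≤ G') (n : ℕ) :
    stabN G n ≤ stabN G' n := by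
  intro g hg
  rw [mem_stabN] at hg ⊢
  exact ⟨h hg.1, hg.2⟩

/-- The positions with index at least `n`. -/
def tail12 (n : ℕ) : Finset ArrayPt := Finset.univ.filter fun p => n ≤ idx12 p

theorem card_tail12 : ∀ n < 6, (tail12 n).card = 12 - n := by decide

theorem stabN_card_le (G : Subgroup (Equiv.Perm ArrayPt)) (n : ℕ) (hn : n < 12) :
    Nat.card (stabN G n) ≤ (tail12 n).card * Nat.card (stabN G (n + 1)) := by
  apply card_le_of_orbit (stabN G n) (pt12 n) (tail12 n)
  intro g hg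
  rw [tail12, Finset.mem_filter]
  refine ⟨Finset.mem_univ _, ?_⟩
  by_contra hcon
  rw [not_le] at hcon
  have h1 := (mem_stabN.mp hg).2 _ hcon
  rw [pt12_idx12] at h1
  have h2 := g.injective h1
  have h3 := congrArg idx12 h2
  rw [idx12_pt12 _ hn] at h3
  omega

theorem stabN_le_card (G : Subgroup (Equiv.Perm ArrayPt)) (n : ℕ)
    (h : ∀ q, n ≤ idx12 q → ∃ g ∈ stabN G n, g (pt12 n) = q) :
    (tail12 n).card * Nat.card (stabN G (n + 1)) ≤ Nat.card (stabN G n) := by
  apply le_card_of_orbit (stabN G n) (pt12 n) (tail12 n)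
  intro q hq
  rw [tail12, Finset.mem_filter] at hq
  exact h q hq.2

/-! ### Tables -/

/-- The image of the index `i` under the table `t` (4 bits per entry). -/
def img12 (t i : ℕ) : ℕ := Nat.land (Nat.shiftRight t (Nat.mul 4 i)) 15

/-- The tables `t` and `t'` describe mutually inverse permutations of the indices. -/
def validPair (t t' : ℕ) : Bool :=
  allBelow (fun i => Nat.blt (img12 t i) 12 && Nat.blt (img12 t' i) 12 &&
    Nat.beq (img12 t' (img12 t i)) i && Nat.beq (img12 t (img12 t' i)) i) 12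

theorem validPair_spec {t t' : ℕ} (h : validPair t t' = true) {i : ℕ} (hi : i < 12) :
    img12 t i < 12 ∧ img12 t' i < 12 ∧ img12 t' (img12 t i) = i ∧ img12 t (img12 t' i) = i := by
  have h1 := (allBelow_iff _ _).mp h i hi
  simp only [Bool.and_eq_true] at h1
  obtain ⟨⟨⟨a, b⟩, c⟩, d⟩ := h1
  rw [Nat.blt_eq] at a b
  exact ⟨a, b, Nat.eq_of_beq_eq_true c, Nat.eq_of_beq_eq_true d⟩

/-- The permutation of the positions described by a valid pair of tables. -/
def permT (t t' : ℕ) (h : validPair t t' = true) : Equiv.Perm ArrayPt where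
  toFun p := pt12 (img12 t (idx12 p))
  invFun p := pt12 (img12 t' (idx12 p))
  left_inv p := by
    have h1 := validPair_spec h (idx12_lt p)
    show pt12 (img12 t' (idx12 (pt12 (img12 t (idx12 p))))) = p
    rw [idx12_pt12 _ h1.1, h1.2.2.1, pt12_idx12]
  right_inv p := by
    have h1 := validPair_spec h (idx12_lt p)
    show pt12 (img12 t (idx12 (pt12 (img12 t' (idx12 p))))) = p
    rw [idx12_pt12 _ h1.2.1, h1.2.2.2, pt12_idx12]

theorem permT_apply_pt {t t' : ℕ} (h : validPair t t' = true) {i : ℕ} (hi : i < 12) :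
    permT t t' h (pt12 i) = pt12 (img12 t i) := by
  show pt12 (img12 t (idx12 (pt12 i))) = _
  rw [idx12_pt12 i hi]

/-- The sign pattern of a mask: `-1` at the positions of the mask. -/
def sgnOf12 (s : ℕ) (p : ArrayPt) : ZMod 3 := if s.testBit (idx12 p) then 2 else 1

/-- The sign pattern of a mask, as units. -/
def sgnU (s : ℕ) (p : ArrayPt) : (ZMod 3)ˣ := if s.testBit (idx12 p) then -1 else 1

theorem sgnU_coe (s : ℕ) (p : ArrayPt) : ((sgnU s p : (ZMod 3)ˣ) : ZMod 3) = sgnOf12 s p := by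
  rw [sgnU, sgnOf12]
  split_ifs <;> rfl

/-- The monomial map of a table (given by the inverse table) and a sign mask. -/
def monoT (t' s : ℕ) (x : ArrayPt → ZMod 3) : ArrayPt → ZMod 3 :=
  fun p => sgnOf12 s p * x (pt12 (img12 t' (idx12 p)))

theorem monomialMap_permT (t t' : ℕ) (h : validPair t t' = true) (s : ℕ)
    (x : ArrayPt → ZMod 3) : monomialMap (permT t t' h) (sgnU s) x = monoT t' s x := by
  funext p
  rw [monomialMap_apply, sgnU_coe]
  rfl

/-! ### Generators of the code -/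

/-- The parameters of the six generators of the code. -/
def gK (j : ℕ) : K := kOf (3 ^ j)

set_option maxRecDepth 100000 in
theorem phi_lin_ok : ∀ k : K, eq12 (phi k) (fun p => k.1 * phi (gK 0) p + k.2.1 * phi (gK 1) p +
    k.2.2.1 * phi (gK 2) p + k.2.2.2.1 * phi (gK 3) p + k.2.2.2.2.1 * phi (gK 4) p +
    k.2.2.2.2.2 * phi (gK 5) p) = true := by
  decide +kernel

theorem phi_lin (k : K) : phi k = k.1 • phi (gK 0) + k.2.1 • phi (gK 1) + k.2.2.1 • phi (gK 2) +
    k.2.2.2.1 • phi (gK 3) + k.2.2.2.2.1 • phi (gK 4) + k.2.2.2.2.2 • phi (gK 5) := by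
  rw [(eq12_iff _ _).mp (phi_lin_ok k)]
  funext p
  simp only [Pi.add_apply, Pi.smul_apply, smul_eq_mul]

theorem isTGAut_of_gens (σ : Equiv.Perm ArrayPt) (c : ArrayPt → (ZMod 3)ˣ)
    (h : ∀ j < 6, monomialMap σ c (phi (gK j)) ∈ ternaryGolayCode) : IsTGAut σ c := by
  intro x hx
  obtain ⟨k, rfl⟩ := exists_phi hx
  rw [phi_lin k]
  simp only [monomialMap_add, monomialMap_smul]
  exact add_mem (add_mem (add_mem (add_mem (add_mem
    (Submodule.smul_mem _ _ (h 0 (by norm_num))) (Submodule.smul_mem _ _ (h 1 (by norm_num))))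
    (Submodule.smul_mem _ _ (h 2 (by norm_num)))) (Submodule.smul_mem _ _ (h 3 (by norm_num))))
    (Submodule.smul_mem _ _ (h 4 (by norm_num)))) (Submodule.smul_mem _ _ (h 5 (by norm_num)))

/-- Certificate: the tables `c.1`, `c.2.1` and the sign mask `c.2.2` describe a monomial
automorphism fixing the indices below `n` and mapping `n` to `q`. -/
def certOK (n q : ℕ) (c : ℕ × ℕ × ℕ) : Bool :=
  validPair c.1 c.2.1 && allBelow (fun i => Nat.beq (img12 c.1 i) i) n &&
    Nat.beq (img12 c.1 n) q &&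
    allBelow (fun j => inCode (monoT c.2.1 c.2.2 (phi (gK j)))) 6

theorem cert_sound {n q : ℕ} {c : ℕ × ℕ × ℕ} (h : certOK n q c = true) (hn : n < 12) :
    ∃ g ∈ stabN tgPermGroup n, g (pt12 n) = pt12 q := by
  rw [certOK] at h
  simp only [Bool.and_eq_true] at h
  obtain ⟨⟨⟨hv, hfix⟩, himg⟩, hcode⟩ := h
  refine ⟨permT c.1 c.2.1 hv, mem_stabN.mpr ⟨⟨sgnU c.2.2, ?_⟩, fun i hi => ?_⟩, ?_⟩
  · apply isTGAut_of_gens
    intro j hj
    rw [monomialMap_permT, ← inCode_iff]
    exact (allBelow_iff _ _).mp hcode j hj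
  · rw [permT_apply_pt hv (lt_trans hi hn), Nat.eq_of_beq_eq_true ((allBelow_iff _ _).mp hfix i hi)]
  · rw [permT_apply_pt hv hn, Nat.eq_of_beq_eq_true himg]

/-! ### Enumeration of the permutations with given first images -/

/-- Exhaustive check of a property of lists of images over all extensions of the list `l` by `k`
further distinct indices. -/
def enumL (P : List ℕ → Bool) : ℕ → List ℕ → Bool
  | 0, l => P l
  | k + 1, l => allBelow (fun a => l.contains a || enumL P k (l ++ [a])) 12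

/-- The images of the first `n` indices under a permutation. -/
def imgsOf (σ : Equiv.Perm ArrayPt) (n : ℕ) : List ℕ :=
  (List.range n).map fun i => idx12 (σ (pt12 i))

theorem enumL_sound (P : List ℕ → Bool) (σ : Equiv.Perm ArrayPt) :
    ∀ k ≤ 12, enumL P k (imgsOf σ (12 - k)) = true → P (imgsOf σ 12) = true := by
  intro k
  induction k with
  | zero => intro _ h; exact h
  | succ k ih =>
    intro hk h
    rw [enumL, allBelow_iff] at h
    have h1 := h (idx12 (σ (pt12 (12 - (k + 1))))) (idx12_lt _)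
    have hnot : (imgsOf σ (12 - (k + 1))).contains (idx12 (σ (pt12 (12 - (k + 1))))) = false := by
      rw [← Bool.not_eq_true, List.contains_iff_mem]
      intro hmem
      rw [imgsOf, List.mem_map] at hmem
      obtain ⟨i, hi, he⟩ := hmem
      rw [List.mem_range] at hi
      have h2 := congrArg idx12 (σ.injective (idx12_injective he))
      rw [idx12_pt12 _ (by omega), idx12_pt12 _ (by omega)] at h2
      omega
    rw [hnot, Bool.false_or] at h1
    have e : imgsOf σ (12 - (k + 1)) ++ [idx12 (σ (pt12 (12 - (k + 1))))] = imgsOf σ (12 - k) := by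
      have h3 : 12 - k = (12 - (k + 1)) + 1 := by omega
      rw [h3, imgsOf, imgsOf, List.range_succ, List.map_append]
      rfl
    rw [e] at h1
    exact ih (by omega) h1

theorem imgsOf_getD (σ : Equiv.Perm ArrayPt) {i : ℕ} (hi : i < 12) :
    (imgsOf σ 12).getD i 0 = idx12 (σ (pt12 i)) := by
  simp [imgsOf, List.getD_eq_getElem?_getD, hi]

/-- The image of a mask under a list of images. -/
def imgMaskAux (l : List ℕ) (m : ℕ) : ℕ → ℕ
  | 0 => 0
  | i + 1 => cond (m.testBit i) (Nat.lor (imgMaskAux l m i) (Nat.pow 2 (l.getD i 0)))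
      (imgMaskAux l m i)

theorem testBit_imgMaskAux (l : List ℕ) (m n b : ℕ) :
    (imgMaskAux l m n).testBit b = true ↔ ∃ i < n, m.testBit i = true ∧ l.getD i 0 = b := by
  induction n with
  | zero => simp [imgMaskAux]
  | succ n ih =>
    rw [imgMaskAux]
    cases hb : m.testBit n
    · show (imgMaskAux l m n).testBit b = true ↔ _
      rw [ih]
      constructor
      · rintro ⟨i, hi, h1, h2⟩
        exact ⟨i, Nat.lt_succ_of_lt hi, h1, h2⟩
      · rintro ⟨i, hi, h1, h2⟩
        rcases Nat.lt_succ_iff_lt_or_eq.mp hi with h3 | rfl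
        · exact ⟨i, h3, h1, h2⟩
        · rw [hb] at h1
          exact absurd h1 (by decide)
    · show ((imgMaskAux l m n) ||| 2 ^ (l.getD n 0)).testBit b = true ↔ _
      rw [Nat.testBit_or, Bool.or_eq_true, ih, Nat.testBit_two_pow, decide_eq_true_iff]
      constructor
      · rintro (⟨i, hi, h1, h2⟩ | h)
        · exact ⟨i, Nat.lt_succ_of_lt hi, h1, h2⟩
        · exact ⟨n, Nat.lt_succ_self n, hb, h⟩
      · rintro ⟨i, hi, h1, h2⟩
        rcases Nat.lt_succ_iff_lt_or_eq.mp hi with h3 | rfl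
        · exact Or.inl ⟨i, h3, h1, h2⟩
        · exact Or.inr h2

theorem smul_setOf12 (σ : Equiv.Perm ArrayPt) (m : ℕ) :
    σ • setOf12 m = setOf12 (imgMaskAux (imgsOf σ 12) m 12) := by
  ext p
  rw [mem_setOf12, testBit_imgMaskAux, Finset.mem_smul_finset]
  constructor
  · rintro ⟨q, hq, rfl⟩
    refine ⟨idx12 q, idx12_lt q, mem_setOf12.mp hq, ?_⟩
    rw [imgsOf_getD σ (idx12_lt q), pt12_idx12]
    rfl
  · rintro ⟨i, hi, hb, he⟩
    refine ⟨pt12 i, mem_setOf12.mpr (by rw [idx12_pt12 i hi]; exact hb), ?_⟩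
    rw [imgsOf_getD σ hi] at he
    exact idx12_injective he

theorem imgMask_lt (σ : Equiv.Perm ArrayPt) (m : ℕ) :
    imgMaskAux (imgsOf σ 12) m 12 < 2 ^ 12 := by
  apply Nat.lt_pow_two_of_testBit
  intro b hb
  rw [← Bool.not_eq_true, testBit_imgMaskAux]
  rintro ⟨i, hi, -, he⟩
  rw [imgsOf_getD σ hi] at he
  have := idx12_lt (σ (pt12 i))
  omega

theorem eq_one_of_imgs {σ : Equiv.Perm ArrayPt}
    (h : allBelow (fun i => Nat.beq ((imgsOf σ 12).getD i 0) i) 12 = true) : σ = 1 := by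
  apply Equiv.ext
  intro p
  have h1 := Nat.eq_of_beq_eq_true ((allBelow_iff _ _).mp h (idx12 p) (idx12_lt p))
  rw [imgsOf_getD σ (idx12_lt p), pt12_idx12] at h1
  exact idx12_injective h1

end Cfsg.Agent.Lib.helper94
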