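import Mathlib
import Cfsg.Agent.Lib.helper16.U34CDefs
import Cfsg.Agent.Lib.helper82.U34C_D1

/-!
# S1903, piece D2 (racer copy of helper94): the centralizer of the involution `tauE` in
`SU 3 F 4` (`|F| = 16`) is contained in `{dE^k * v | v ∈ UU}`.
-/

set_option autoImplicit false
set_option linter.unusedSectionVars false
set_option linter.unusedVariables false

namespace Cfsg.Agent.Lib.helper16.U34C

open Cfsg
open scoped commutatorElement
open Cfsg.Agent.Lib.helper58 Cfsg.Agent.Lib.helper7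

/-- PIECE D2 (racer copy) -/
theorem helper94_cent_upper {F : Type*} [Field F] [Fintype F] (hF : Fintype.card F = 16) (l : F)
    (hl : l ^ 5 = 1) (hl1 : l ≠ 1) :
    ∀ g : ↥(SU 3 F 4), g * tauE hF = tauE hF * g →
      ∃ k : ℕ, ∃ v ∈ UU hF, g = dE l hl ^ k * v := by
  intro g hg
  have h2 : (2 : F) = 0 := two0 hF
  have h11 : (1 : F) + 1 = 0 := by rw [one_add_one_eq_two]; exact h2
  have htv : ((tauE hF).1.1 : Matrix (Fin 3) (Fin 3) F) = su3M 4 0 1 := rfl
  have hmulv : ∀ g h : ↥(SU 3 F 4),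
      ((g * h).1.1 : Matrix (Fin 3) (Fin 3) F) = g.1.1 * h.1.1 := fun _ _ => rfl
  obtain ⟨M, hM⟩ : ∃ M : Matrix (Fin 3) (Fin 3) F, M = g.1.1 := ⟨_, rfl⟩
  have hcomm : M * su3M 4 0 1 = su3M 4 0 1 * M := by
    have := congrArg (fun g : ↥(SU 3 F 4) => (g.1.1 : Matrix (Fin 3) (Fin 3) F)) hg
    simp only [hmulv, htv] at this
    rw [hM]; exact this
  -- the shape of `M`
  have e10 : M 1 0 = M 0 1 := by
    have := congrFun (congrFun hcomm 0) 0
    simp [su3M, Matrix.mul_apply, Fin.sum_univ_three, h11] at this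
    exact this.symm
  have e11 : M 1 1 = M 0 0 := by
    have := congrFun (congrFun hcomm 0) 1
    simp [su3M, Matrix.mul_apply, Fin.sum_univ_three, h11] at this
    exact this.symm
  have e12 : M 1 2 = M 0 2 := by
    have := congrFun (congrFun hcomm 0) 2
    simp [su3M, Matrix.mul_apply, Fin.sum_univ_three, h11] at this
    exact this.symm
  have e21 : M 2 1 = M 2 0 := by
    have := congrFun (congrFun hcomm 2) 0
    simp [su3M, Matrix.mul_apply, Fin.sum_univ_three, h11] at this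
    exact this
  -- unitarity and determinant
  have hU : M.transpose * M.map (fun x => x ^ 4) = 1 := by
    rw [hM]
    exact IsIsom.transpose_mul_map (q := 4) (by norm_num) ((mem_SU_iff 3 g.1).1 g.2)
  have hdet : M.det = 1 := by rw [hM]; exact g.1.2
  have u00 := congrFun (congrFun hU 0) 0
  have u01 := congrFun (congrFun hU 0) 1
  have u02 := congrFun (congrFun hU 0) 2
  simp only [Matrix.mul_apply, Fin.sum_univ_three, Matrix.transpose_apply, Matrix.map_apply,
    Matrix.one_apply_eq, e10, e11, e12, e21] at u00 u01 u02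
  rw [Matrix.one_apply_ne (by decide)] at u01 u02
  rw [Matrix.det_fin_three] at hdet
  simp only [e10, e11, e12, e21] at hdet
  obtain ⟨A, hA⟩ : ∃ A : F, A = M 0 0 := ⟨_, rfl⟩
  obtain ⟨B, hB⟩ : ∃ B : F, B = M 0 1 := ⟨_, rfl⟩
  obtain ⟨c, hc⟩ : ∃ c : F, c = M 0 2 := ⟨_, rfl⟩
  obtain ⟨d, hd⟩ : ∃ d : F, d = M 2 0 := ⟨_, rfl⟩
  obtain ⟨e, he⟩ : ∃ e : F, e = M 2 2 := ⟨_, rfl⟩
  rw [← hA, ← hB, ← hd] at u00 u01
  rw [← hA, ← hB, ← hc, ← hd, ← he] at u02 hdet
  -- `s := A + B` is a fifth root of unity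
  have hs5 : (A + B) ^ 5 = 1 := by
    linear_combination u00 + u01 +
      (2 * A ^ 4 * B + 5 * A ^ 3 * B ^ 2 + 5 * A ^ 2 * B ^ 3 + 2 * A * B ^ 4 - d ^ 5) * h2
  have hprim : IsPrimitiveRoot l 5 := by
    have : Fact (Nat.Prime 5) := ⟨by norm_num⟩
    have h := IsPrimitiveRoot.orderOf l
    rwa [orderOf_eq_prime hl hl1] at h
  obtain ⟨k, -, hk⟩ := hprim.eq_pow_of_pow_eq_one hs5
  obtain ⟨s, hs⟩ : ∃ s : F, s = A + B := ⟨_, rfl⟩
  rw [← hs] at hs5 hk
  have hA' : A = s + B := by rw [hs]; linear_combination (-B) * h2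
  -- `e = s ^ 3`
  have hes : e * s ^ 2 = 1 := by
    rw [hs]
    linear_combination hdet + (e * A * B + e * B ^ 2 + A * c * d - B * c * d) * h2
  have he3 : e = s ^ 3 := by
    linear_combination (s ^ 3) * hes - e * hs5
  -- `c = d ^ 4 * s ^ 4`
  have hc16 : c ^ 16 = c := by
    have := FiniteField.pow_card c
    rwa [hF] at this
  have hsc : s * c ^ 4 = d * e ^ 4 := by
    rw [hs]
    linear_combination u02 + (-d * e ^ 4) * h2
  rw [he3] at hsc
  have hc4 : c ^ 4 = d * s := by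
    have h15 : s ^ 15 = 1 := by
      rw [show s ^ 15 = (s ^ 5) ^ 3 by ring, hs5, one_pow]
    linear_combination (s ^ 4) * hsc - c ^ 4 * hs5 + d * s * h15
  have hcd : c = d ^ 4 * s ^ 4 := by
    rw [← hc16, show c ^ 16 = (c ^ 4) ^ 4 by ring, hc4]; ring
  -- the relation for `a = d * s ^ 2`, `b = B * s ^ 4`
  have hab : B * s ^ 4 + (B * s ^ 4) ^ 4 = (d * s ^ 2) * (d * s ^ 2) ^ 4 := by
    have h10 : s ^ 10 = 1 := by
      rw [show s ^ 10 = (s ^ 5) ^ 2 by ring, hs5, one_pow]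
    have h15 : s ^ 15 = 1 := by
      rw [show s ^ 15 = (s ^ 5) ^ 3 by ring, hs5, one_pow]
    have hd5 : d ^ 5 = s * B ^ 4 + B * s ^ 4 := by
      rw [hA'] at u01
      linear_combination u01 +
        (-(s * B ^ 4) - B ^ 5 - 2 * B * s ^ 3 * B - 3 * B * s ^ 2 * B ^ 2 - 2 * B * s * B ^ 3
          - B * s ^ 4) * h2
    linear_combination (-(d ^ 5)) * h10 + (B ^ 4 * s) * h15 - hd5
  refine ⟨k, su3E (card16 hF) (two0 hF) (d * s ^ 2) (B * s ^ 4) hab,
    (mem_su3U_iff _ _ _).2 ⟨_, _, hab, rfl⟩, ?_⟩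
  apply su3_ext
  rw [hmulv, helper82_dE_pow_val, su3E_val, hk, ← hM]
  ext i j
  fin_cases i <;> fin_cases j <;>
    simp [su3M, dM, Matrix.mul_apply, Fin.sum_univ_three, e10, e11, e12, e21,
      ← hA, ← hB, ← hc, ← hd, ← he]
  · -- (0,0)
    rw [hA']; linear_combination (-B) * hs5
  · linear_combination (-B) * hs5
  · rw [hcd]; linear_combination (-(d ^ 4 * s ^ 4)) * hs5
  · linear_combination (-B) * hs5
  · rw [hA']; linear_combination (-B) * hs5
  · rw [hcd]; linear_combination (-(d ^ 4 * s ^ 4)) * hs5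
  · linear_combination (-d) * hs5
  · linear_combination (-d) * hs5
  · exact he3

end Cfsg.Agent.Lib.helper16.U34C
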