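import Mathlib

set_option autoImplicit false

/-!
# The field with 16 elements, concretely (helper94)

`U34K` is `F_2[x]/(x^4 + x + 1)`; the element `a0 + a1 x + a2 x^2 + a3 x^3` has code
`a0 + 2 a1 + 4 a2 + 8 a3 < 16`.  Addition is `xor` of the codes, multiplication, inversion and
the Frobenius map `a ↦ a^4` are read off tables packed into natural numbers, so that the kernel
evaluates them quickly.  Generated by `tools/helper94/u34/genfield.py`.
-/

namespace Cfsg.Agent.Lib.helper94

def u34addc (x y : Nat) : Nat := (x ^^^ y) % 16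

def u34mulc (x y : Nat) : Nat :=
  (116196760129267793630862849262464326346044543732748708940920453221664288556434379745879494961270582141731748813355742142288220638766218855867759359510984593843506004200114943278699875244065120512813025380665946106619127097398772031257643617143689515450995722003729973585221105779229319991106539050771048038400 >>> (4 * (16 * (x % 16) + y % 16))) % 16

def u34invc (x : Nat) : Nat := (9460475325918865680 >>> (4 * (x % 16))) % 16

def u34conjc (x : Nat) : Nat := (9924487649903846160 >>> (4 * (x % 16))) % 16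

theorem u34addc_lt (x y : Nat) : u34addc x y < 16 := Nat.mod_lt _ (by norm_num)
theorem u34mulc_lt (x y : Nat) : u34mulc x y < 16 := Nat.mod_lt _ (by norm_num)
theorem u34invc_lt (x : Nat) : u34invc x < 16 := Nat.mod_lt _ (by norm_num)
theorem u34conjc_lt (x : Nat) : u34conjc x < 16 := Nat.mod_lt _ (by norm_num)

/-- the field with 16 elements -/
structure U34K where
  c : Nat
  h : c < 16

namespace U34K

theorem ext' {a b : U34K} (h : a.c = b.c) : a = b := by
  cases a; cases b; simp only at h; subst h; rfl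

theorem ext_iff' {a b : U34K} : a = b ↔ a.c = b.c := ⟨fun h => by rw [h], ext'⟩

instance : DecidableEq U34K := fun a b => decidable_of_iff (a.c = b.c) ext_iff'.symm

/-- the element with a given code -/
def ofN (n : Nat) : U34K := ⟨n % 16, Nat.mod_lt _ (by norm_num)⟩

instance : Zero U34K := ⟨⟨0, by norm_num⟩⟩
instance : One U34K := ⟨⟨1, by norm_num⟩⟩
instance : Add U34K := ⟨fun a b => ⟨u34addc a.c b.c, u34addc_lt _ _⟩⟩
instance : Neg U34K := ⟨fun a => a⟩
instance : Mul U34K := ⟨fun a b => ⟨u34mulc a.c b.c, u34mulc_lt _ _⟩⟩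
instance : Inv U34K := ⟨fun a => ⟨u34invc a.c, u34invc_lt _⟩⟩

@[simp] theorem zero_c : (0 : U34K).c = 0 := rfl
@[simp] theorem one_c : (1 : U34K).c = 1 := rfl
@[simp] theorem add_c (a b : U34K) : (a + b).c = u34addc a.c b.c := rfl
@[simp] theorem neg_c (a : U34K) : (-a).c = a.c := rfl
@[simp] theorem mul_c (a b : U34K) : (a * b).c = u34mulc a.c b.c := rfl
@[simp] theorem inv_c (a : U34K) : (a⁻¹).c = u34invc a.c := rfl
@[simp] theorem ofN_c (n : Nat) : (ofN n).c = n % 16 := rfl

theorem ofN_c_self (a : U34K) : ofN a.c = a := ext' (Nat.mod_eq_of_lt a.h)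

theorem c3a : ∀ a, a < 16 → ∀ b, b < 16 → ∀ c, c < 16 →
    u34addc (u34addc a b) c = u34addc a (u34addc b c) := by
  decide +kernel

theorem c3m : ∀ a, a < 16 → ∀ b, b < 16 → ∀ c, c < 16 →
    u34mulc (u34mulc a b) c = u34mulc a (u34mulc b c) := by
  decide +kernel

theorem c3d : ∀ a, a < 16 → ∀ b, b < 16 → ∀ c, c < 16 →
    u34mulc a (u34addc b c) = u34addc (u34mulc a b) (u34mulc a c) := by
  decide +kernel

theorem c2 : ∀ a, a < 16 → ∀ b, b < 16 →
    u34mulc a b = u34mulc b a ∧
    u34conjc (u34addc a b) = u34addc (u34conjc a) (u34conjc b) ∧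
    u34conjc (u34mulc a b) = u34mulc (u34conjc a) (u34conjc b) := by
  decide +kernel

theorem c1 : ∀ a, a < 16 →
    u34addc 0 a = a ∧ u34addc a a = 0 ∧ u34mulc 1 a = a ∧
    (a ≠ 0 → u34mulc a (u34invc a) = 1) ∧
    u34mulc (u34mulc (u34mulc a a) a) a = u34conjc a ∧
    u34conjc (u34conjc a) = a := by
  decide +kernel

instance instField : Field U34K :=
  Field.ofMinimalAxioms U34K
    (fun a b c => ext' (c3a a.c a.h b.c b.h c.c c.h))
    (fun a => ext' (c1 a.c a.h).1)
    (fun a => ext' (c1 a.c a.h).2.1)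
    (fun a b c => ext' (c3m a.c a.h b.c b.h c.c c.h))
    (fun a b => ext' (c2 a.c a.h b.c b.h).1)
    (fun a => ext' (c1 a.c a.h).2.2.1)
    (fun a ha => ext' ((c1 a.c a.h).2.2.2.1 (fun h0 => ha (ext' h0))))
    (ext' (by decide))
    (fun a b c => ext' (c3d a.c a.h b.c b.h c.c c.h))
    ⟨0, 1, fun h => by
      have := congrArg U34K.c h
      simp at this⟩

/-- codes as an equivalence with `Fin 16` -/
def equivFin : U34K ≃ Fin 16 where
  toFun a := ⟨a.c, a.h⟩
  invFun i := ⟨i.1, i.2⟩
  left_inv _ := rfl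
  right_inv _ := rfl

instance : Fintype U34K := Fintype.ofEquiv (Fin 16) equivFin.symm

theorem card_eq : Fintype.card U34K = 16 := by
  rw [Fintype.card_congr equivFin, Fintype.card_fin]

/-- the conjugation `x ↦ x^4`, as a ring homomorphism -/
def conj : U34K →+* U34K where
  toFun a := ⟨u34conjc a.c, u34conjc_lt _⟩
  map_one' := ext' (by decide)
  map_mul' a b := ext' (c2 a.c a.h b.c b.h).2.2
  map_zero' := ext' (by decide)
  map_add' a b := ext' (c2 a.c a.h b.c b.h).2.1

@[simp] theorem conj_c (a : U34K) : (conj a).c = u34conjc a.c := rfl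

theorem conj_eq_pow (a : U34K) : conj a = a ^ 4 := by
  have h : a ^ 4 = a * a * a * a := by ring
  rw [h]
  exact ext' (c1 a.c a.h).2.2.2.2.1.symm

theorem conj_conj (a : U34K) : conj (conj a) = a := ext' (c1 a.c a.h).2.2.2.2.2

end U34K

end Cfsg.Agent.Lib.helper94
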