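import Mathlib
import Cfsg.Prelude.Def_Classical
import Cfsg.Agent.Lib.helper94.U34Field
import Cfsg.Agent.Lib.helper94.U34Defs
import Cfsg.Agent.Lib.helper48.UnitaryConj
import Cfsg.Agent.Lib.helper94.U34DataDefs

set_option autoImplicit false

/-!
# Data for `SU_3(4)` and the module of the Hermitian unital mod 5 (helper94) -- elements and orbits

Generated by `tools/helper94/u34/gendata.py`.
-/

namespace Cfsg.Agent.Lib.helper94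

open Matrix

theorem u34_X13 : Cfsg.Agent.Lib.helper48.cstar U34K.conj u34X13 * u34X13 = 1 ∧
    u34X13 0 0 * u34X13 1 1 * u34X13 2 2 - u34X13 0 0 * u34X13 1 2 * u34X13 2 1
      - u34X13 0 1 * u34X13 1 0 * u34X13 2 2 + u34X13 0 1 * u34X13 1 2 * u34X13 2 0
      + u34X13 0 2 * u34X13 1 0 * u34X13 2 1 - u34X13 0 2 * u34X13 1 1 * u34X13 2 0 = 1 := by
  decide +kernel

theorem u34_X10 : Cfsg.Agent.Lib.helper48.cstar U34K.conj u34X10 * u34X10 = 1 ∧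
    u34X10 0 0 * u34X10 1 1 * u34X10 2 2 - u34X10 0 0 * u34X10 1 2 * u34X10 2 1
      - u34X10 0 1 * u34X10 1 0 * u34X10 2 2 + u34X10 0 1 * u34X10 1 2 * u34X10 2 0
      + u34X10 0 2 * u34X10 1 0 * u34X10 2 1 - u34X10 0 2 * u34X10 1 1 * u34X10 2 0 = 1 := by
  decide +kernel

theorem u34_X15 : Cfsg.Agent.Lib.helper48.cstar U34K.conj u34X15 * u34X15 = 1 ∧
    u34X15 0 0 * u34X15 1 1 * u34X15 2 2 - u34X15 0 0 * u34X15 1 2 * u34X15 2 1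
      - u34X15 0 1 * u34X15 1 0 * u34X15 2 2 + u34X15 0 1 * u34X15 1 2 * u34X15 2 0
      + u34X15 0 2 * u34X15 1 0 * u34X15 2 1 - u34X15 0 2 * u34X15 1 1 * u34X15 2 0 = 1 := by
  decide +kernel

theorem u34_XP : u34XP 0 = 1 ∧ u34XP 1 = u34X13 ∧
    (∀ i : Fin 12, u34XP i.succ = u34X13 * u34XP i.castSucc) ∧ u34X13 * u34XP 12 = 1 ∧
    u34X13 ≠ 1 := by
  decide +kernel

theorem u34_X10_pow : u34X10 ^ 10 = 1 ∧ u34X10 ^ 5 ≠ 1 ∧ u34X10 ^ 2 ≠ 1 := by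
  decide +kernel

theorem u34_X15_pow : u34X15 ^ 15 = 1 ∧ u34X15 ^ 5 ≠ 1 ∧ u34X15 ^ 3 ≠ 1 := by
  decide +kernel

theorem u34_R : ∀ j : Fin 5, u34R j 0 * u34R j 0 ^ 4 + u34R j 1 * u34R j 1 ^ 4
    + u34R j 2 * u34R j 2 ^ 4 = 0 ∧ u34R j ≠ 0 := by
  decide +kernel

theorem u34_orb : ∀ a b c : U34K, a * a ^ 4 + b * b ^ 4 + c * c ^ 4 = 0 →
    ¬ (a = 0 ∧ b = 0 ∧ c = 0) →
    u34lam a b c ≠ 0 ∧
      ![a, b, c] = u34lam a b c • (u34XP (u34ii a b c)).mulVec (u34R (u34jj a b c)) := by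
  decide +kernel

theorem u34_F4 : (Finset.univ.filter (fun c : U34K => c ^ 4 = c)) = {0, 1, u34k 6, u34k 7} := by
  decide +kernel

theorem u34_BUW : ∀ k : Fin 4,
    u34BU k 0 * u34BU k 0 ^ 4 + u34BU k 1 * u34BU k 1 ^ 4 + u34BU k 2 * u34BU k 2 ^ 4 = 0 ∧
    u34BW k 0 * u34BW k 0 ^ 4 + u34BW k 1 * u34BW k 1 ^ 4 + u34BW k 2 * u34BW k 2 ^ 4 = 0 ∧
    u34BU k 0 * u34BW k 0 ^ 4 + u34BU k 1 * u34BW k 1 ^ 4 + u34BU k 2 * u34BW k 2 ^ 4 = 1 := by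
  decide +kernel

/-- the orbit index of a vector -/
def u34jv (v : Fin 3 → U34K) : Fin 5 := u34jj (v 0) (v 1) (v 2)

theorem u34_sep : ∀ a0 a1 a2 a3 a4 : ZMod 5,
    (∀ k : Fin 4, ![a0, a1, a2, a3, a4] (u34jv (u34BW k))
      + (![a0, a1, a2, a3, a4] (u34jv (u34BU k + (0 : U34K) • u34BW k))
      + (![a0, a1, a2, a3, a4] (u34jv (u34BU k + (1 : U34K) • u34BW k))
      + (![a0, a1, a2, a3, a4] (u34jv (u34BU k + u34k 6 • u34BW k))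
      + ![a0, a1, a2, a3, a4] (u34jv (u34BU k + u34k 7 • u34BW k))))) = 0) →
    a1 = a0 ∧ a2 = a0 ∧ a3 = a0 ∧ a4 = a0 := by
  decide +kernel

end Cfsg.Agent.Lib.helper94
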