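import Mathlib
import Cfsg.Prelude.Def_Classical
import Cfsg.Agent.Lib.helper94.U34Field
import Cfsg.Agent.Lib.helper94.U34Defs
import Cfsg.Agent.Lib.helper48.UnitaryConj
import Cfsg.Agent.Lib.helper94.U34DataDefs

set_option autoImplicit false

/-!
# Data for `SU_3(4)` and the module of the Hermitian unital mod 5 (helper94) -- the function in the module: invariance under scalars, support

Generated by `tools/helper94/u34/gendata.py`.
-/

namespace Cfsg.Agent.Lib.helper94

open Matrix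

theorem u34_g1 : ∀ s, s < 16 → s ≠ 0 → ∀ a, a < 16 → ∀ b, b < 16 → ∀ c, c < 16 →
    u34tab u34Phi (u34enc (u34mulc s a) (u34mulc s b) (u34mulc s c))
      = u34tab u34Phi (u34enc a b c) := by
  decide +kernel

theorem u34_g2 : ∀ a, a < 16 → ∀ b, b < 16 → ∀ c, c < 16 →
    (u34isoc a b c ≠ 0 ∨ (a = 0 ∧ b = 0 ∧ c = 0)) → u34tab u34Phi (u34enc a b c) = 0 := by
  decide +kernel

theorem u34_g4 : u34tab u34Phi (u34enc 1 1 0) ≠ u34tab u34Phi (u34enc 1 0 1) ∧
    u34isoc 1 1 0 = 0 ∧ u34isoc 1 0 1 = 0 := by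
  decide +kernel

end Cfsg.Agent.Lib.helper94
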