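import Mathlib
import Cfsg.Prelude.Def_Classical
import Cfsg.Agent.Lib.helper94.U34Field
import Cfsg.Agent.Lib.helper94.U34Defs
import Cfsg.Agent.Lib.helper48.UnitaryConj
import Cfsg.Agent.Lib.helper94.U34DataDefs

set_option autoImplicit false

/-!
# Data for `SU_3(4)` and the module of the Hermitian unital mod 5 (helper94) -- the function in the module: block sums, solving for the last coordinate

Generated by `tools/helper94/u34/gendata.py`.
-/

namespace Cfsg.Agent.Lib.helper94

open Matrix

/-- the last coordinate of `w` with `(u, w) = 1`, when the last coordinate of `u` is not `0` -/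
def u34fs (a b c d e : Nat) : Nat :=
  u34conjc (u34mulc (u34invc c)
    (u34addc 1 (u34addc (u34mulc a (u34conjc d)) (u34mulc b (u34conjc e)))))

/-- the middle coordinate of `w` with `(u, w) = 1`, when the last coordinate of `u` is `0` -/
def u34es (a b d : Nat) : Nat :=
  u34conjc (u34mulc (u34invc b) (u34addc 1 (u34mulc a (u34conjc d))))

/-- the block sums of `φ₀` at the pairs with first vector `(a, b, c)`, `c ≠ 0` -/
def u34innerC (a b c : Nat) : Prop :=
  ∀ d, d < 16 → ∀ e, e < 16 → u34isoc d e (u34fs a b c d e) = 0 →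
    u34bs a b c d e (u34fs a b c d e) % 5 = 0

instance (a b c : Nat) : Decidable (u34innerC a b c) := by
  unfold u34innerC
  infer_instance

/-- the block sums of `φ₀` at the pairs with first vector `(a, b, 0)`, `b ≠ 0` -/
def u34innerB (a b : Nat) : Prop :=
  ∀ d, d < 16 → ∀ f, f < 16 → u34isoc d (u34es a b d) f = 0 →
    u34bs a b 0 d (u34es a b d) f % 5 = 0

instance (a b : Nat) : Decidable (u34innerB a b) := by
  unfold u34innerB
  infer_instance

theorem u34_solve : ∀ c, c < 16 → c ≠ 0 → ∀ x, x < 16 → ∀ f, f < 16 →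
    u34addc x (u34mulc c (u34conjc f)) = 1 →
    f = u34conjc (u34mulc (u34invc c) (u34addc 1 x)) := by
  decide +kernel

theorem u34_solve0 : ∀ x, x < 16 → ∀ f, f < 16 → u34addc x (u34mulc 0 (u34conjc f)) = x := by
  decide +kernel

theorem u34_solve00 : ∀ a, a < 16 → u34isoc a 0 0 = 0 → ∀ d, d < 16 → ∀ e, e < 16 →
    ∀ f, f < 16 → u34hc a 0 0 d e f ≠ 1 := by
  decide +kernel

theorem u34_g3B : ∀ a, a < 16 → ∀ b, b < 16 → b ≠ 0 → u34isoc a b 0 = 0 → u34innerB a b := by
  decide +kernel

end Cfsg.Agent.Lib.helper94
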