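import Mathlib
import Cfsg.Prelude.Def_Classical
import Cfsg.Agent.Lib.helper94.U34Field
import Cfsg.Agent.Lib.helper94.U34Defs
import Cfsg.Agent.Lib.helper48.UnitaryConj
import Cfsg.Agent.Lib.helper94.U34DataDefs
import Cfsg.Agent.Lib.helper94.U34DataC0

set_option autoImplicit false

/-!
# Data for `SU_3(4)` and the module of the Hermitian unital mod 5 (helper94) -- the function in the module: block sums, part 4

Generated by `tools/helper94/u34/gendata.py`.
-/

namespace Cfsg.Agent.Lib.helper94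

open Matrix

theorem u34_g3C_12 : ∀ b, b < 16 → ∀ c, c < 16 → c ≠ 0 → u34isoc 12 b c = 0 →
    u34innerC 12 b c := by
  decide +kernel

theorem u34_g3C_13 : ∀ b, b < 16 → ∀ c, c < 16 → c ≠ 0 → u34isoc 13 b c = 0 →
    u34innerC 13 b c := by
  decide +kernel

theorem u34_g3C_14 : ∀ b, b < 16 → ∀ c, c < 16 → c ≠ 0 → u34isoc 14 b c = 0 →
    u34innerC 14 b c := by
  decide +kernel

theorem u34_g3C_15 : ∀ b, b < 16 → ∀ c, c < 16 → c ≠ 0 → u34isoc 15 b c = 0 →
    u34innerC 15 b c := by
  decide +kernel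

end Cfsg.Agent.Lib.helper94
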