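import Mathlib
import Cfsg.Prelude.Def_Classical
import Cfsg.Agent.Lib.helper94.U34Field
import Cfsg.Agent.Lib.helper94.U34Defs
import Cfsg.Agent.Lib.helper94.U34DataDefs
import Cfsg.Agent.Lib.helper94.U34DataA
import Cfsg.Agent.Lib.helper94.U34DataB
import Cfsg.Agent.Lib.helper94.U34DataC0
import Cfsg.Agent.Lib.helper94.U34DataC1
import Cfsg.Agent.Lib.helper94.U34DataC2
import Cfsg.Agent.Lib.helper94.U34DataC3
import Cfsg.Agent.Lib.helper94.U34DataC4
import Cfsg.Agent.Lib.helper99.PsuSpecB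
import Cfsg.Agent.Lib.helper7.SU

set_option autoImplicit false

/-!
# `SU_3(4)` over the concrete field: elements of order 10, 13, 15 and the module (helper94)

The concrete hypotheses of the construction of S3663: the order of `SU 3 U34K 4`, elements of
order 10, 13 and 15, a function in `u34M U34K` outside `u34M0 U34K`, and the fact that the element
of order 13 has no fixed point on the quotient.
-/

namespace Cfsg.Agent.Lib.helper94

open Cfsg Matrix Cfsg.Agent.Lib.helper7 Cfsg.Agent.Lib.helper48 Cfsg.Agent.Lib.helper99.PsuSpec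

abbrev U34G := SU 3 U34K 4

theorem u34_card_sq : Fintype.card U34K = 4 ^ 2 := by
  rw [U34K.card_eq]
  norm_num

theorem u34_card : Nat.card U34G = 2 ^ 6 * 3 * 5 ^ 2 * 13 := by
  have h := Cfsg.Agent.Lib.helper7.card_SU u34_card_sq 3 (by norm_num)
  have h2 : (∏ i ∈ Finset.range 3, (if Even i then 4 ^ (i + 1) + 1 else 4 ^ (i + 1) - 1))
      = 4875 := by decide
  rw [h2] at h
  norm_num at h
  have h3 : Nat.card ↥(SU 3 U34K 4) = 62400 := by omega
  show Nat.card ↥(SU 3 U34K 4) = _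
  rw [h3]
  norm_num

/-! ### elements -/

theorem u34_isIsom (M : Matrix (Fin 3) (Fin 3) U34K) (h : cstar U34K.conj M * M = 1) :
    IsIsom 3 4 M :=
  (isIsom_iff_cstar 4 (by norm_num) U34K.conj U34K.conj_eq_pow M).2 h

/-- the element of `SU_3(4)` with a given matrix -/
def u34mk (M : Matrix (Fin 3) (Fin 3) U34K) (h : cstar U34K.conj M * M = 1 ∧
    M 0 0 * M 1 1 * M 2 2 - M 0 0 * M 1 2 * M 2 1 - M 0 1 * M 1 0 * M 2 2
      + M 0 1 * M 1 2 * M 2 0 + M 0 2 * M 1 0 * M 2 1 - M 0 2 * M 1 1 * M 2 0 = 1) : U34G :=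
  ⟨(⟨M, (Matrix.det_fin_three M).trans h.2⟩ : Matrix.SpecialLinearGroup (Fin 3) U34K),
    (mem_SU_iff 3 _).2 (u34_isIsom M h.1)⟩

/-- the matrix of an element -/
def u34mat : U34G →* Matrix (Fin 3) (Fin 3) U34K where
  toFun g := g.1.1
  map_one' := rfl
  map_mul' _ _ := rfl

theorem u34mat_inj : Function.Injective u34mat := fun _ _ e => Subtype.ext (Subtype.ext e)

theorem u34_order (g : U34G) : orderOf g = orderOf (u34mat g) :=
  (orderOf_injective u34mat u34mat_inj g).symm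

/-- an element of order 13 -/
def u34x13 : U34G := u34mk u34X13 u34_X13

/-- an element of order 10 -/
def u34x10 : U34G := u34mk u34X10 u34_X10

/-- an element of order 15 -/
def u34x15 : U34G := u34mk u34X15 u34_X15

theorem u34XP_pow : ∀ k : Fin 13, u34XP k = u34X13 ^ (k : ℕ) := by
  intro k
  induction k using Fin.induction with
  | zero => rw [Fin.val_zero, pow_zero]; exact u34_XP.1
  | succ i ih => rw [u34_XP.2.2.1 i, ih, Fin.val_succ, pow_succ']; rfl

theorem u34X13_pow13 : u34X13 ^ 13 = 1 := by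
  have h := u34_XP.2.2.2.1
  rw [u34XP_pow 12] at h
  rw [pow_succ']
  exact h

theorem u34_order13 : orderOf u34x13 = 13 := by
  have : Fact (Nat.Prime 13) := ⟨by norm_num⟩
  rw [u34_order]
  exact orderOf_eq_prime u34X13_pow13 u34_XP.2.2.2.2

theorem u34_order10 : orderOf u34x10 = 10 := by
  rw [u34_order]
  refine orderOf_eq_of_pow_and_pow_div_prime (by norm_num) u34_X10_pow.1 ?_
  intro p hp hd
  have hp' : p = 2 ∨ p = 5 := by
    have h' : p ∣ 2 * 5 := hd
    rcases (Nat.Prime.dvd_mul hp).1 h' with h | h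
    · left
      exact (Nat.prime_dvd_prime_iff_eq hp Nat.prime_two).1 h
    · right
      exact (Nat.prime_dvd_prime_iff_eq hp Nat.prime_five).1 h
  rcases hp' with rfl | rfl
  · exact u34_X10_pow.2.1
  · exact u34_X10_pow.2.2

theorem u34_order15 : orderOf u34x15 = 15 := by
  rw [u34_order]
  refine orderOf_eq_of_pow_and_pow_div_prime (by norm_num) u34_X15_pow.1 ?_
  intro p hp hd
  have hp' : p = 3 ∨ p = 5 := by
    have h' : p ∣ 3 * 5 := hd
    rcases (Nat.Prime.dvd_mul hp).1 h' with h | h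
    · left
      exact (Nat.prime_dvd_prime_iff_eq hp Nat.prime_three).1 h
    · right
      exact (Nat.prime_dvd_prime_iff_eq hp Nat.prime_five).1 h
  rcases hp' with rfl | rfl
  · exact u34_X15_pow.2.1
  · exact u34_X15_pow.2.2

/-! ### the form in coordinates -/

theorem u34_herm (u w : Fin 3 → U34K) :
    hermForm 3 U34K 4 u w = u 0 * w 0 ^ 4 + u 1 * w 1 ^ 4 + u 2 * w 2 ^ 4 := by
  unfold hermForm
  rw [Fin.sum_univ_three]

theorem u34_herm_c (u w : Fin 3 → U34K) :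
    (hermForm 3 U34K 4 u w).c = u34hc (u 0).c (u 1).c (u 2).c (w 0).c (w 1).c (w 2).c := by
  rw [u34_herm, ← U34K.conj_eq_pow, ← U34K.conj_eq_pow, ← U34K.conj_eq_pow]
  rfl

theorem u34_iso_c (v : Fin 3 → U34K) :
    (hermForm 3 U34K 4 v v).c = u34isoc (v 0).c (v 1).c (v 2).c := by
  rw [u34_herm_c]
  rfl

theorem u34_vec (v : Fin 3 → U34K) : v = ![v 0, v 1, v 2] := by
  funext i
  fin_cases i <;> rfl

theorem u34_zero_iff (v : Fin 3 → U34K) : v = 0 ↔ (v 0 = 0 ∧ v 1 = 0 ∧ v 2 = 0) := by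
  constructor
  · rintro rfl
    exact ⟨rfl, rfl, rfl⟩
  · rintro ⟨h0, h1, h2⟩
    funext i
    fin_cases i
    · exact h0
    · exact h1
    · exact h2

/-! ### the function `φ₀` -/

/-- a function in the module, not constant on the isotropic vectors -/
def u34phi (v : Fin 3 → U34K) : ZMod 5 :=
  ((u34tab u34Phi (u34enc (v 0).c (v 1).c (v 2).c) : ℕ) : ZMod 5)

theorem u34phi_add (u w : Fin 3 → U34K) : u34phi (u + w) =
    ((u34tab u34Phi (u34enc (u34addc (u 0).c (w 0).c) (u34addc (u 1).c (w 1).c)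
      (u34addc (u 2).c (w 2).c)) : ℕ) : ZMod 5) := rfl

theorem u34phi_6 (u w : Fin 3 → U34K) : u34phi (u + u34k 6 • w) =
    ((u34tab u34Phi (u34enc (u34addc (u 0).c (u34mulc 6 (w 0).c))
      (u34addc (u 1).c (u34mulc 6 (w 1).c)) (u34addc (u 2).c (u34mulc 6 (w 2).c)) : ℕ)) :
        ZMod 5) := rfl

theorem u34phi_7 (u w : Fin 3 → U34K) : u34phi (u + u34k 7 • w) =
    ((u34tab u34Phi (u34enc (u34addc (u 0).c (u34mulc 7 (w 0).c))
      (u34addc (u 1).c (u34mulc 7 (w 1).c)) (u34addc (u 2).c (u34mulc 7 (w 2).c)) : ℕ)) :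
        ZMod 5) := rfl

theorem u34_g3C : ∀ a, a < 16 → ∀ b, b < 16 → ∀ c, c < 16 → c ≠ 0 → u34isoc a b c = 0 →
    u34innerC a b c := by
  intro a ha
  interval_cases a
  exacts [u34_g3C_0, u34_g3C_1, u34_g3C_2, u34_g3C_3, u34_g3C_4, u34_g3C_5, u34_g3C_6, u34_g3C_7,
    u34_g3C_8, u34_g3C_9, u34_g3C_10, u34_g3C_11, u34_g3C_12, u34_g3C_13, u34_g3C_14, u34_g3C_15]

theorem u34_g3 : ∀ a, a < 16 → ∀ b, b < 16 → ∀ c, c < 16 → u34isoc a b c = 0 →
    u34inner a b c := by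
  intro a ha b hb c hc hiso d hd e he f hf h1 hw
  by_cases hc0 : c = 0
  · subst hc0
    by_cases hb0 : b = 0
    · subst hb0
      exact absurd h1 (u34_solve00 a ha hiso d hd e he f hf)
    · have h2 : u34addc (u34mulc a (u34conjc d)) (u34mulc b (u34conjc e)) = 1 := by
        rw [← u34_solve0 (u34addc (u34mulc a (u34conjc d)) (u34mulc b (u34conjc e)))
          (u34addc_lt _ _) f hf]
        exact h1
      have h3 : e = u34es a b d := u34_solve b hb hb0 _ (u34mulc_lt _ _) e he h2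
      have h4 := u34_g3B a ha b hb hb0 hiso d hd f hf
      rw [← h3] at h4
      exact h4 hw
  · have h3 : f = u34fs a b c d e := u34_solve c hc hc0 _ (u34addc_lt _ _) f hf h1
    have h4 := u34_g3C a ha b hb c hc hc0 hiso d hd e he
    rw [← h3] at h4
    exact h4 hw

theorem u34phi_mem : u34phi ∈ u34M U34K := by
  rw [mem_u34M]
  refine ⟨fun c v hc => ?_, fun v hv => ?_, fun u w hu hw huw => ?_⟩
  · have hc' : c.c ≠ 0 := fun h0 => hc (U34K.ext' h0)
    have h := u34_g1 c.c c.h hc' (v 0).c (v 0).h (v 1).c (v 1).h (v 2).c (v 2).h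
    show ((u34tab u34Phi (u34enc (u34mulc c.c (v 0).c) (u34mulc c.c (v 1).c)
      (u34mulc c.c (v 2).c)) : ℕ) : ZMod 5) = _
    rw [h]
    rfl
  · have h : u34isoc (v 0).c (v 1).c (v 2).c ≠ 0 ∨ ((v 0).c = 0 ∧ (v 1).c = 0 ∧ (v 2).c = 0) := by
      by_cases h0 : hermForm 3 U34K 4 v v = 0
      · right
        have hv0 : v = 0 := by
          by_contra hne
          exact hv ⟨h0, hne⟩
        rw [hv0]
        exact ⟨rfl, rfl, rfl⟩
      · left
        intro hc
        apply h0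
        apply U34K.ext'
        rw [u34_iso_c, hc]
        rfl
    have h2 := u34_g2 (v 0).c (v 0).h (v 1).c (v 1).h (v 2).c (v 2).h h
    show ((u34tab u34Phi (u34enc (v 0).c (v 1).c (v 2).c) : ℕ) : ZMod 5) = 0
    rw [h2]
    rfl
  · have hu' : u34isoc (u 0).c (u 1).c (u 2).c = 0 := by
      rw [← u34_iso_c, hu]
      rfl
    have hw' : u34isoc (w 0).c (w 1).c (w 2).c = 0 := by
      rw [← u34_iso_c, hw]
      rfl
    have huw' : u34hc (u 0).c (u 1).c (u 2).c (w 0).c (w 1).c (w 2).c = 1 := by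
      rw [← u34_herm_c, huw]
      rfl
    have h := u34_g3 (u 0).c (u 0).h (u 1).c (u 1).h (u 2).c (u 2).h hu'
      (w 0).c (w 0).h (w 1).c (w 1).h (w 2).c (w 2).h huw' hw'
    have h5 : ((u34bs (u 0).c (u 1).c (u 2).c (w 0).c (w 1).c (w 2).c : ℕ) : ZMod 5) = 0 :=
      (ZMod.natCast_eq_zero_iff _ 5).2 (Nat.dvd_of_mod_eq_zero h)
    unfold u34bs at h5
    push_cast at h5
    rw [u34_F4]
    have n1 : (0 : U34K) ∉ ({1, u34k 6, u34k 7} : Finset U34K) := by decide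
    have n2 : (1 : U34K) ∉ ({u34k 6, u34k 7} : Finset U34K) := by decide
    have n3 : u34k 6 ∉ ({u34k 7} : Finset U34K) := by decide
    rw [Finset.sum_insert n1, Finset.sum_insert n2, Finset.sum_insert n3, Finset.sum_singleton,
      zero_smul, add_zero, one_smul, u34phi_add, u34phi_6, u34phi_7]
    show ((u34tab u34Phi (u34enc (w 0).c (w 1).c (w 2).c) : ℕ) : ZMod 5)
      + (((u34tab u34Phi (u34enc (u 0).c (u 1).c (u 2).c) : ℕ) : ZMod 5) + _) = 0
    linear_combination h5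

theorem u34_iso_110 : u34Iso U34K ![1, 1, 0] := by
  unfold u34Iso hermForm
  decide +kernel

theorem u34_iso_101 : u34Iso U34K ![1, 0, 1] := by
  unfold u34Iso hermForm
  decide +kernel

theorem u34phi_ne : u34phi ![1, 1, 0] ≠ u34phi ![1, 0, 1] := by
  unfold u34phi
  decide +kernel

theorem u34phi_not_mem : u34phi ∉ u34M0 U34K := by
  rintro ⟨_, c, hc⟩
  exact u34phi_ne ((hc _ u34_iso_110).trans (hc _ u34_iso_101).symm)

theorem u34_hne : ∃ φ ∈ u34M U34K, φ ∉ u34M0 U34K := ⟨u34phi, u34phi_mem, u34phi_not_mem⟩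

/-! ### the element of order 13 has no fixed point on the quotient -/

theorem u34_iso_iff (v : Fin 3 → U34K) : u34Iso U34K v ↔
    (v 0 * v 0 ^ 4 + v 1 * v 1 ^ 4 + v 2 * v 2 ^ 4 = 0 ∧ ¬ (v 0 = 0 ∧ v 1 = 0 ∧ v 2 = 0)) := by
  unfold u34Iso
  rw [u34_herm, Ne, u34_zero_iff]

theorem u34_iso_X (v : Fin 3 → U34K) (hv : u34Iso U34K v) : u34Iso U34K (u34X13 *ᵥ v) := by
  refine ⟨?_, ?_⟩
  · rw [u34_isIsom u34X13 u34_X13.1 v v]
    exact hv.1
  · intro h0
    apply hv.2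
    have h : (u34X13 ^ 12) *ᵥ (u34X13 *ᵥ v) = v := by
      rw [Matrix.mulVec_mulVec, ← pow_succ, u34X13_pow13, Matrix.one_mulVec]
    rw [← h, h0, Matrix.mulVec_zero]

theorem u34_iso_R (j : Fin 5) : u34Iso U34K (u34R j) := by
  rw [u34_iso_iff]
  refine ⟨(u34_R j).1, fun h => (u34_R j).2 ((u34_zero_iff _).2 h)⟩

theorem u34_BUW2 : ∀ k : Fin 4, ∀ c : U34K, c ^ 4 = c →
    (u34BU k + c • u34BW k) 0 * (u34BU k + c • u34BW k) 0 ^ 4
      + (u34BU k + c • u34BW k) 1 * (u34BU k + c • u34BW k) 1 ^ 4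
      + (u34BU k + c • u34BW k) 2 * (u34BU k + c • u34BW k) 2 ^ 4 = 0 ∧
    ¬ ((u34BU k + c • u34BW k) 0 = 0 ∧ (u34BU k + c • u34BW k) 1 = 0
      ∧ (u34BU k + c • u34BW k) 2 = 0) := by
  decide +kernel

theorem u34_BW_ne : ∀ k : Fin 4, ¬ (u34BW k 0 = 0 ∧ u34BW k 1 = 0 ∧ u34BW k 2 = 0) := by
  decide +kernel

theorem u34_c13 : ∀ c : ZMod 5, (13 : ℕ) • c = 0 → c = 0 := by
  decide

theorem u34_pow_step (φ : (Fin 3 → U34K) → ZMod 5) (c : ZMod 5)
    (h : ∀ v, u34Iso U34K v → φ (u34X13 *ᵥ v) - φ v = c) :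
    ∀ (k : ℕ) (v : Fin 3 → U34K), u34Iso U34K v → φ ((u34X13 ^ k) *ᵥ v) = φ v + k • c := by
  intro k
  induction k with
  | zero =>
    intro v _
    rw [pow_zero, Matrix.one_mulVec, zero_smul, add_zero]
  | succ k ih =>
    intro v hv
    have e : (u34X13 ^ (k + 1)) *ᵥ v = (u34X13 ^ k) *ᵥ (u34X13 *ᵥ v) := by
      rw [Matrix.mulVec_mulVec, ← pow_succ]
    rw [e, ih _ (u34_iso_X v hv), succ_nsmul]
    have h1 := h v hv
    linear_combination h1

theorem u34_hfpf : ∀ φ ∈ u34M U34K,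
    (fun v => φ (Matrix.mulVec (u34x13.1.1) v) - φ v) ∈ u34M0 U34K → φ ∈ u34M0 U34K := by
  intro φ hφ h
  obtain ⟨_, c, hc⟩ := h
  have hc' : ∀ v, u34Iso U34K v → φ (u34X13 *ᵥ v) - φ v = c := hc
  have hc0 : c = 0 := by
    apply u34_c13
    have h1 := u34_pow_step φ c hc' 13 (u34R 0) (u34_iso_R 0)
    rw [u34X13_pow13, Matrix.one_mulVec] at h1
    linear_combination -h1
  subst hc0
  have hpow : ∀ (k : ℕ) (v : Fin 3 → U34K), u34Iso U34K v → φ ((u34X13 ^ k) *ᵥ v) = φ v := by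
    intro k v hv
    rw [u34_pow_step φ 0 hc' k v hv, smul_zero, add_zero]
  have horb : ∀ v, u34Iso U34K v → φ v = φ (u34R (u34jv v)) := by
    intro v hv
    have h1 := u34_orb (v 0) (v 1) (v 2) ((u34_iso_iff v).1 hv).1 ((u34_iso_iff v).1 hv).2
    have h2 : v = u34lam (v 0) (v 1) (v 2) •
        (u34XP (u34ii (v 0) (v 1) (v 2))).mulVec (u34R (u34jv v)) := (u34_vec v).trans h1.2
    have h3 : φ v = φ (u34lam (v 0) (v 1) (v 2) •
        (u34XP (u34ii (v 0) (v 1) (v 2))).mulVec (u34R (u34jv v))) := congrArg φ h2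
    rw [h3, hφ.1 _ _ h1.1, u34XP_pow, hpow _ _ (u34_iso_R _)]
  have hvec : ∀ j : Fin 5, φ (u34R j)
      = ![φ (u34R 0), φ (u34R 1), φ (u34R 2), φ (u34R 3), φ (u34R 4)] j := by
    intro j
    fin_cases j <;> rfl
  have hkey : ∀ v, u34Iso U34K v → φ v
      = ![φ (u34R 0), φ (u34R 1), φ (u34R 2), φ (u34R 3), φ (u34R 4)] (u34jv v) := by
    intro v hv
    rw [horb v hv, hvec]
  have hsep := u34_sep (φ (u34R 0)) (φ (u34R 1)) (φ (u34R 2)) (φ (u34R 3)) (φ (u34R 4)) (by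
    intro k
    have hb := hφ.2.2 (u34BU k) (u34BW k) (by rw [u34_herm]; exact (u34_BUW k).1)
      (by rw [u34_herm]; exact (u34_BUW k).2.1) (by rw [u34_herm]; exact (u34_BUW k).2.2)
    rw [u34_F4] at hb
    have n1 : (0 : U34K) ∉ ({1, u34k 6, u34k 7} : Finset U34K) := by decide
    have n2 : (1 : U34K) ∉ ({u34k 6, u34k 7} : Finset U34K) := by decide
    have n3 : u34k 6 ∉ ({u34k 7} : Finset U34K) := by decide
    rw [Finset.sum_insert n1, Finset.sum_insert n2, Finset.sum_insert n3,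
      Finset.sum_singleton] at hb
    have i0 : u34Iso U34K (u34BW k) :=
      (u34_iso_iff _).2 ⟨(u34_BUW k).2.1, u34_BW_ne k⟩
    have ic : ∀ c : U34K, c ^ 4 = c → u34Iso U34K (u34BU k + c • u34BW k) :=
      fun c hc => (u34_iso_iff _).2 (u34_BUW2 k c hc)
    rw [hkey _ i0, hkey _ (ic 0 (by decide)), hkey _ (ic 1 (by decide)),
      hkey _ (ic (u34k 6) (by decide)), hkey _ (ic (u34k 7) (by decide))] at hb
    exact hb)
  refine (mem_u34M0 U34K φ).2 ⟨hφ, φ (u34R 0), fun v hv => ?_⟩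
  rw [horb v hv]
  obtain ⟨e1, e2, e3, e4⟩ := hsep
  generalize u34jv v = j
  fin_cases j
  · rfl
  · exact e1
  · exact e2
  · exact e3
  · exact e4

end Cfsg.Agent.Lib.helper94
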