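import Mathlib
import Cfsg.Prelude.Def_Classical
import Cfsg.Agent.Lib.helper94.U34Main
import Cfsg.Agent.Lib.helper6.S3663T2
import Cfsg.Agent.Lib.helper63.S3663T3
import Cfsg.Agent.Lib.helper63.S3663T4
import Cfsg.Agent.Lib.helper63.S3663T5
import Cfsg.Agent.Lib.helper17.U42Transport
import Cfsg.Agent.Lib.helper7.SUCenter

set_option autoImplicit false

/-!
# Groups of arbitrarily large order with the prime graph of `PSU_3(4)` (helper94)

`SU_3(4)` (whose centre is trivial) acts on the module `u34M / u34M0` of the Hermitian unital over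
`ZMod 5`, on which an element of order 13 has no fixed point; the semidirect products of the
powers of this module with `SU_3(4)` have the prime graph of `PSU_3(4)`.

The pieces `pg_of_module` (helper6), `module_of_functions`, `su_perm_rep`, `u34M_invariant`,
`u34M0_invariant` (helper63) are combined here with the concrete data of `U34Main`.
-/

namespace Cfsg.Agent.Lib.helper94

open Cfsg

/-- the assembly of the pieces -/
theorem u34_assembly (K : Type) [Field K] [Fintype K] [DecidableEq K]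
    (hcard : Nat.card ↥(SU 3 K 4) = 2 ^ 6 * 3 * 5 ^ 2 * 13)
    (x10 x13 x15 : ↥(SU 3 K 4)) (h10 : orderOf x10 = 10) (h13 : orderOf x13 = 13)
    (h15 : orderOf x15 = 15)
    (hne : ∃ φ ∈ u34M K, φ ∉ u34M0 K)
    (hfpf : ∀ φ ∈ u34M K, (fun v => φ (Matrix.mulVec (x13.1.1) v) - φ v) ∈ u34M0 K → φ ∈ u34M0 K)
    (N : ℕ) :
    ∃ (H : Type) (_ : Group H) (_ : Finite H), N < Nat.card H ∧
      ((∀ q : ℕ, q.Prime → (q ∣ Nat.card ↥(SU 3 K 4) ↔ q ∣ Nat.card H)) ∧
       (∀ q s : ℕ, q.Prime → s.Prime → q ≠ s →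
         ((∃ g : ↥(SU 3 K 4), orderOf g = q * s) ↔ (∃ g : H, orderOf g = q * s)))) := by
  obtain ⟨σ, hσ⟩ := Cfsg.Agent.Lib.helper63.S3663.su_perm_rep 3 K 4
  have : Fact (Nat.Prime 5) := ⟨by norm_num⟩
  obtain ⟨A, iA, iF, iN, α, hα1, hαmul, hαadd, hA, hx⟩ :=
    Cfsg.Agent.Lib.helper63.S3663.module_of_functions 5 σ (u34M K) (u34M0 K) (u34M0_le K)
    (fun g φ hφ => by
      have h := Cfsg.Agent.Lib.helper63.S3663.u34M_invariant K g φ hφ
      have e : (fun ω => φ (σ g ω)) = (fun v => φ (Matrix.mulVec (g.1.1) v)) := by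
        funext v
        rw [hσ]
      rw [e]
      exact h)
    (fun g φ hφ => by
      have h := Cfsg.Agent.Lib.helper63.S3663.u34M0_invariant K g φ hφ
      have e : (fun ω => φ (σ g ω)) = (fun v => φ (Matrix.mulVec (g.1.1) v)) := by
        funext v
        rw [hσ]
      rw [e]
      exact h)
    hne x13
    (fun φ hφ h => by
      apply hfpf φ hφ
      have e : (fun ω => φ (σ x13 ω) - φ ω) = (fun v => φ (Matrix.mulVec (x13.1.1) v) - φ v) := by
        funext v
        rw [hσ]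
      rw [← e]
      exact h)
  have : Finite ↥(SU 3 K 4) := Nat.finite_of_card_ne_zero (by rw [hcard]; norm_num)
  refine Cfsg.Agent.Lib.helper6.S3663.pg_of_module 5 13 (by norm_num) (by norm_num) (by norm_num)
    (by rw [hcard]; norm_num) (by rw [hcard]; norm_num) ?_ A hA α hα1 hαmul hαadd x13 h13 hx N
  intro s hs hs5 hs13 hdvd
  rw [hcard] at hdvd
  have h1 : s ∣ 2 ^ 6 * 3 * (5 ^ 2 * 13) := by
    rw [show 2 ^ 6 * 3 * (5 ^ 2 * 13) = 2 ^ 6 * 3 * 5 ^ 2 * 13 by norm_num]
    exact hdvd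
  rcases (Nat.Prime.dvd_mul hs).1 h1 with h | h
  · rcases (Nat.Prime.dvd_mul hs).1 h with h | h
    · have := (Nat.prime_dvd_prime_iff_eq hs Nat.prime_two).1 (hs.dvd_of_dvd_pow h)
      subst this
      exact ⟨x10, by rw [h10]⟩
    · have := (Nat.prime_dvd_prime_iff_eq hs Nat.prime_three).1 h
      subst this
      exact ⟨x15, by rw [h15]⟩
  · rcases (Nat.Prime.dvd_mul hs).1 h with h | h
    · exact absurd ((Nat.prime_dvd_prime_iff_eq hs Nat.prime_five).1 (hs.dvd_of_dvd_pow h)) hs5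
    · exact absurd ((Nat.prime_dvd_prime_iff_eq hs (by norm_num)).1 h) hs13

/-- the statement for the concrete field -/
theorem u34_concrete (N : ℕ) :
    ∃ (H : Type) (_ : Group H) (_ : Finite H), N < Nat.card H ∧
      ((∀ q : ℕ, q.Prime → (q ∣ Nat.card ↥(SU 3 U34K 4) ↔ q ∣ Nat.card H)) ∧
       (∀ q s : ℕ, q.Prime → s.Prime → q ≠ s →
         ((∃ g : ↥(SU 3 U34K 4), orderOf g = q * s) ↔ (∃ g : H, orderOf g = q * s)))) :=
  u34_assembly U34K u34_card u34x10 u34x13 u34x15 u34_order10 u34_order13 u34_order15 u34_hne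
    u34_hfpf N

theorem u34_center : Subgroup.center (SU 3 U34K 4) = ⊥ := by
  have h := Cfsg.Agent.Lib.helper7.card_center_SU u34_card_sq 3 (by norm_num)
  have h1 : Nat.card (Subgroup.center (SU 3 U34K 4)) = 1 := by
    rw [h]
    rfl
  exact Subgroup.card_eq_one.1 h1

/-- the statement for every field with 16 elements -/
theorem u34_final {F : Type*} [Field F] [Fintype F] (hF : Fintype.card F = 16) (N : ℕ) :
    ∃ (H : Type) (_ : Group H) (_ : Finite H), N < Nat.card H ∧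
      ((∀ p : ℕ, p.Prime → (p ∣ Nat.card (Cfsg.PSU 3 F 4) ↔ p ∣ Nat.card H)) ∧
      (∀ p q : ℕ, p.Prime → q.Prime → p ≠ q →
        ((∃ g : (Cfsg.PSU 3 F 4), orderOf g = p * q) ↔ (∃ g : H, orderOf g = p * q)))) := by
  have e1 : U34K ≃+* F := FiniteField.ringEquivOfCardEq (by rw [hF, U34K.card_eq])
  obtain ⟨e2⟩ := Cfsg.Agent.Lib.helper17.u42_psu_congr e1 3 4
  have e3 : ↥(SU 3 U34K 4) ≃* PSU 3 U34K 4 :=
    ((QuotientGroup.quotientMulEquivOfEq u34_center).trans QuotientGroup.quotientBot).symm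
  have e : ↥(SU 3 U34K 4) ≃* PSU 3 F 4 := e3.trans e2
  obtain ⟨H, iG, iF, hN, h1, h2⟩ := u34_concrete N
  refine ⟨H, iG, iF, hN, ?_, ?_⟩
  · intro p hp
    rw [← h1 p hp, Nat.card_congr e.toEquiv]
  · intro p q hp hq hpq
    rw [← h2 p q hp hq hpq]
    constructor
    · rintro ⟨g, hg⟩
      exact ⟨e.symm g, by rw [MulEquiv.orderOf_eq]; exact hg⟩
    · rintro ⟨g, hg⟩
      exact ⟨e g, by rw [MulEquiv.orderOf_eq]; exact hg⟩

end Cfsg.Agent.Lib.helper94
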