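import Mathlib

set_option autoImplicit false

/-!
# The field with 25 elements, concretely (helper94)

`U35K` is `F_5[i]/(i^2 = 2)`; the element `a0 + a1 i` has code `a0 + 5 a1 < 25`.
All operations are arithmetic on the codes, so that the kernel evaluates them quickly.
-/

namespace Cfsg.Agent.Lib.helper94

def u35addc (x y : Nat) : Nat := (x % 5 + y % 5) % 5 + 5 * ((x / 5 + y / 5) % 5)

def u35negc (x : Nat) : Nat := (5 - x % 5) % 5 + 5 * ((5 - x / 5 % 5) % 5)

def u35mulc (x y : Nat) : Nat :=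
  ((x % 5) * (y % 5) + 2 * ((x / 5) * (y / 5))) % 5
    + 5 * (((x % 5) * (y / 5) + (x / 5) * (y % 5)) % 5)

def u35conjc (x : Nat) : Nat := x % 5 + 5 * ((5 - x / 5 % 5) % 5)

def u35invc (x : Nat) : Nat :=
  u35mulc (u35conjc x)
    ((u35mulc x (u35conjc x) * u35mulc x (u35conjc x) * u35mulc x (u35conjc x)) % 5)

theorem u35addc_lt (x y : Nat) : u35addc x y < 25 := by unfold u35addc; omega
theorem u35negc_lt (x : Nat) : u35negc x < 25 := by unfold u35negc; omega
theorem u35mulc_lt (x y : Nat) : u35mulc x y < 25 := by unfold u35mulc; omega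
theorem u35conjc_lt (x : Nat) : u35conjc x < 25 := by unfold u35conjc; omega
theorem u35invc_lt (x : Nat) : u35invc x < 25 := u35mulc_lt _ _

/-- the field with 25 elements -/
structure U35K where
  c : Nat
  h : c < 25

namespace U35K

theorem ext' {a b : U35K} (h : a.c = b.c) : a = b := by
  cases a; cases b; simp only at h; subst h; rfl

theorem ext_iff' {a b : U35K} : a = b ↔ a.c = b.c := ⟨fun h => by rw [h], ext'⟩

instance : DecidableEq U35K := fun a b => decidable_of_iff (a.c = b.c) ext_iff'.symm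

/-- the element with a given code -/
def ofN (n : Nat) : U35K := ⟨n % 25, Nat.mod_lt _ (by norm_num)⟩

instance : Zero U35K := ⟨⟨0, by norm_num⟩⟩
instance : One U35K := ⟨⟨1, by norm_num⟩⟩
instance : Add U35K := ⟨fun a b => ⟨u35addc a.c b.c, u35addc_lt _ _⟩⟩
instance : Neg U35K := ⟨fun a => ⟨u35negc a.c, u35negc_lt _⟩⟩
instance : Mul U35K := ⟨fun a b => ⟨u35mulc a.c b.c, u35mulc_lt _ _⟩⟩
instance : Inv U35K := ⟨fun a => ⟨u35invc a.c, u35invc_lt _⟩⟩

@[simp] theorem zero_c : (0 : U35K).c = 0 := rfl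
@[simp] theorem one_c : (1 : U35K).c = 1 := rfl
@[simp] theorem add_c (a b : U35K) : (a + b).c = u35addc a.c b.c := rfl
@[simp] theorem neg_c (a : U35K) : (-a).c = u35negc a.c := rfl
@[simp] theorem mul_c (a b : U35K) : (a * b).c = u35mulc a.c b.c := rfl
@[simp] theorem inv_c (a : U35K) : (a⁻¹).c = u35invc a.c := rfl
@[simp] theorem ofN_c (n : Nat) : (ofN n).c = n % 25 := rfl

theorem ofN_c_self (a : U35K) : ofN a.c = a := ext' (Nat.mod_eq_of_lt a.h)

theorem c3a : ∀ a, a < 25 → ∀ b, b < 25 → ∀ c, c < 25 →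
    u35addc (u35addc a b) c = u35addc a (u35addc b c) := by
  decide +kernel

theorem c3m : ∀ a, a < 25 → ∀ b, b < 25 → ∀ c, c < 25 →
    u35mulc (u35mulc a b) c = u35mulc a (u35mulc b c) := by
  decide +kernel

theorem c3d : ∀ a, a < 25 → ∀ b, b < 25 → ∀ c, c < 25 →
    u35mulc a (u35addc b c) = u35addc (u35mulc a b) (u35mulc a c) := by
  decide +kernel

theorem c2 : ∀ a, a < 25 → ∀ b, b < 25 →
    u35mulc a b = u35mulc b a ∧
    u35conjc (u35addc a b) = u35addc (u35conjc a) (u35conjc b) ∧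
    u35conjc (u35mulc a b) = u35mulc (u35conjc a) (u35conjc b) := by
  decide +kernel

theorem c1 : ∀ a, a < 25 →
    u35addc 0 a = a ∧ u35addc (u35negc a) a = 0 ∧ u35mulc 1 a = a ∧
    (a ≠ 0 → u35mulc a (u35invc a) = 1) ∧
    u35mulc (u35mulc (u35mulc (u35mulc a a) a) a) a = u35conjc a ∧
    u35conjc (u35conjc a) = a := by
  decide +kernel

instance instField : Field U35K :=
  Field.ofMinimalAxioms U35K
    (fun a b c => ext' (c3a a.c a.h b.c b.h c.c c.h))
    (fun a => ext' (c1 a.c a.h).1)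
    (fun a => ext' (c1 a.c a.h).2.1)
    (fun a b c => ext' (c3m a.c a.h b.c b.h c.c c.h))
    (fun a b => ext' (c2 a.c a.h b.c b.h).1)
    (fun a => ext' (c1 a.c a.h).2.2.1)
    (fun a ha => ext' ((c1 a.c a.h).2.2.2.1 (fun h0 => ha (ext' h0))))
    (ext' (by decide))
    (fun a b c => ext' (c3d a.c a.h b.c b.h c.c c.h))
    ⟨0, 1, fun h => by
      have := congrArg U35K.c h
      simp at this⟩

/-- codes as an equivalence with `Fin 25` -/
def equivFin : U35K ≃ Fin 25 where
  toFun a := ⟨a.c, a.h⟩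
  invFun i := ⟨i.1, i.2⟩
  left_inv _ := rfl
  right_inv _ := rfl

instance : Fintype U35K := Fintype.ofEquiv (Fin 25) equivFin.symm

theorem card_eq : Fintype.card U35K = 25 := by
  rw [Fintype.card_congr equivFin, Fintype.card_fin]

/-- the conjugation `x ↦ x^5`, as a ring homomorphism -/
def conj : U35K →+* U35K where
  toFun a := ⟨u35conjc a.c, u35conjc_lt _⟩
  map_one' := ext' (by decide)
  map_mul' a b := ext' (c2 a.c a.h b.c b.h).2.2
  map_zero' := ext' (by decide)
  map_add' a b := ext' (c2 a.c a.h b.c b.h).2.1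

@[simp] theorem conj_c (a : U35K) : (conj a).c = u35conjc a.c := rfl

theorem conj_eq_pow (a : U35K) : conj a = a ^ 5 := by
  have h : a ^ 5 = a * a * a * a * a := by ring
  rw [h]
  exact ext' (c1 a.c a.h).2.2.2.2.1.symm

theorem conj_conj (a : U35K) : conj (conj a) = a := ext' (c1 a.c a.h).2.2.2.2.2

end U35K

end Cfsg.Agent.Lib.helper94
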