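import Mathlib
import Cfsg.Agent.Lib.helper94.U35Field
import Cfsg.Agent.Lib.helper99.PsuSpecB

set_option autoImplicit false

/-!
# 3 x 3 matrices over the field with 25 elements, packed into one natural number (helper94)

A matrix is packed as its nine entry codes in base 25.  The packed operations are plain
arithmetic on natural numbers; `u35ofMat` carries the abstract operations to them.
-/

namespace Cfsg.Agent.Lib.helper94

open Cfsg Matrix

/-- the `k`-th base 25 digit -/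
def u35dg (x k : Nat) : Nat := x / 25 ^ k % 25

def u35pack (d0 d1 d2 d3 d4 d5 d6 d7 d8 : Nat) : Nat :=
  d0 + 25 * (d1 + 25 * (d2 + 25 * (d3 + 25 * (d4 + 25 * (d5 + 25 * (d6 + 25 * (d7 + 25 * d8)))))))

abbrev U35M := Matrix (Fin 3) (Fin 3) U35K

def u35ofMat (M : U35M) : Nat :=
  u35pack (M 0 0).c (M 0 1).c (M 0 2).c (M 1 0).c (M 1 1).c (M 1 2).c (M 2 0).c (M 2 1).c (M 2 2).c

def u35toMat (x : Nat) : U35M :=
  Matrix.of fun i j => U35K.ofN (x / 25 ^ (3 * i.val + j.val))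

def u35dot (a1 b1 a2 b2 a3 b3 : Nat) : Nat :=
  u35addc (u35addc (u35mulc a1 b1) (u35mulc a2 b2)) (u35mulc a3 b3)

def u35pmul (x y : Nat) : Nat :=
  u35pack
    (u35dot (u35dg x 0) (u35dg y 0) (u35dg x 1) (u35dg y 3) (u35dg x 2) (u35dg y 6))
    (u35dot (u35dg x 0) (u35dg y 1) (u35dg x 1) (u35dg y 4) (u35dg x 2) (u35dg y 7))
    (u35dot (u35dg x 0) (u35dg y 2) (u35dg x 1) (u35dg y 5) (u35dg x 2) (u35dg y 8))
    (u35dot (u35dg x 3) (u35dg y 0) (u35dg x 4) (u35dg y 3) (u35dg x 5) (u35dg y 6))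
    (u35dot (u35dg x 3) (u35dg y 1) (u35dg x 4) (u35dg y 4) (u35dg x 5) (u35dg y 7))
    (u35dot (u35dg x 3) (u35dg y 2) (u35dg x 4) (u35dg y 5) (u35dg x 5) (u35dg y 8))
    (u35dot (u35dg x 6) (u35dg y 0) (u35dg x 7) (u35dg y 3) (u35dg x 8) (u35dg y 6))
    (u35dot (u35dg x 6) (u35dg y 1) (u35dg x 7) (u35dg y 4) (u35dg x 8) (u35dg y 7))
    (u35dot (u35dg x 6) (u35dg y 2) (u35dg x 7) (u35dg y 5) (u35dg x 8) (u35dg y 8))

def u35pcstar (x : Nat) : Nat :=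
  u35pack (u35conjc (u35dg x 0)) (u35conjc (u35dg x 3)) (u35conjc (u35dg x 6)) (u35conjc (u35dg x 1)) (u35conjc (u35dg x 4)) (u35conjc (u35dg x 7)) (u35conjc (u35dg x 2)) (u35conjc (u35dg x 5)) (u35conjc (u35dg x 8))

def u35psmul (c x : Nat) : Nat :=
  u35pack (u35mulc c (u35dg x 0)) (u35mulc c (u35dg x 1)) (u35mulc c (u35dg x 2)) (u35mulc c (u35dg x 3)) (u35mulc c (u35dg x 4)) (u35mulc c (u35dg x 5)) (u35mulc c (u35dg x 6)) (u35mulc c (u35dg x 7)) (u35mulc c (u35dg x 8))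

def u35padd (x y : Nat) : Nat :=
  u35pack (u35addc (u35dg x 0) (u35dg y 0)) (u35addc (u35dg x 1) (u35dg y 1)) (u35addc (u35dg x 2) (u35dg y 2)) (u35addc (u35dg x 3) (u35dg y 3)) (u35addc (u35dg x 4) (u35dg y 4)) (u35addc (u35dg x 5) (u35dg y 5)) (u35addc (u35dg x 6) (u35dg y 6)) (u35addc (u35dg x 7) (u35dg y 7)) (u35addc (u35dg x 8) (u35dg y 8))

def u35pdet (x : Nat) : Nat :=
  (u35addc (u35addc (u35addc (u35addc (u35addc (u35mulc (u35mulc (u35dg x 0) (u35dg x 4)) (u35dg x 8)) (u35negc (u35mulc (u35mulc (u35dg x 0) (u35dg x 5)) (u35dg x 7)))) (u35negc (u35mulc (u35mulc (u35dg x 1) (u35dg x 3)) (u35dg x 8)))) (u35mulc (u35mulc (u35dg x 1) (u35dg x 5)) (u35dg x 6))) (u35mulc (u35mulc (u35dg x 2) (u35dg x 3)) (u35dg x 7))) (u35negc (u35mulc (u35mulc (u35dg x 2) (u35dg x 4)) (u35dg x 6))))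

def u35ptrace (x : Nat) : Nat := u35addc (u35addc (u35dg x 0) (u35dg x 4)) (u35dg x 8)

def u35pone : Nat := 152588281251

def u35isSU (x : Nat) : Bool :=
  decide (x < 3814697265625) && (u35pmul (u35pcstar x) x == u35pone) && (u35pdet x == 1)

theorem u35dg_ofMat (M : U35M) :
    u35dg (u35ofMat M) 0 = (M 0 0).c ∧ u35dg (u35ofMat M) 1 = (M 0 1).c ∧
    u35dg (u35ofMat M) 2 = (M 0 2).c ∧ u35dg (u35ofMat M) 3 = (M 1 0).c ∧
    u35dg (u35ofMat M) 4 = (M 1 1).c ∧ u35dg (u35ofMat M) 5 = (M 1 2).c ∧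
    u35dg (u35ofMat M) 6 = (M 2 0).c ∧ u35dg (u35ofMat M) 7 = (M 2 1).c ∧
    u35dg (u35ofMat M) 8 = (M 2 2).c := by
  have h00 := (M 0 0).h
  have h01 := (M 0 1).h
  have h02 := (M 0 2).h
  have h10 := (M 1 0).h
  have h11 := (M 1 1).h
  have h12 := (M 1 2).h
  have h20 := (M 2 0).h
  have h21 := (M 2 1).h
  have h22 := (M 2 2).h
  simp only [u35dg, u35ofMat, u35pack]
  norm_num
  refine ⟨?_, ?_, ?_, ?_, ?_, ?_, ?_, ?_, ?_⟩ <;> omega

theorem u35pack_lt (d0 d1 d2 d3 d4 d5 d6 d7 d8 : Nat) (h0 : d0 < 25) (h1 : d1 < 25)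
    (h2 : d2 < 25) (h3 : d3 < 25) (h4 : d4 < 25) (h5 : d5 < 25) (h6 : d6 < 25) (h7 : d7 < 25)
    (h8 : d8 < 25) : u35pack d0 d1 d2 d3 d4 d5 d6 d7 d8 < 3814697265625 := by
  unfold u35pack
  have k7 : d7 + 25 * d8 < 625 := by omega
  generalize d7 + 25 * d8 = r7 at k7 ⊢
  have k6 : d6 + 25 * r7 < 15625 := by omega
  generalize d6 + 25 * r7 = r6 at k6 ⊢
  have k5 : d5 + 25 * r6 < 390625 := by omega
  generalize d5 + 25 * r6 = r5 at k5 ⊢
  have k4 : d4 + 25 * r5 < 9765625 := by omega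
  generalize d4 + 25 * r5 = r4 at k4 ⊢
  have k3 : d3 + 25 * r4 < 244140625 := by omega
  generalize d3 + 25 * r4 = r3 at k3 ⊢
  have k2 : d2 + 25 * r3 < 6103515625 := by omega
  generalize d2 + 25 * r3 = r2 at k2 ⊢
  have k1 : d1 + 25 * r2 < 152587890625 := by omega
  generalize d1 + 25 * r2 = r1 at k1 ⊢
  omega

theorem u35ofMat_lt (M : U35M) : u35ofMat M < 3814697265625 :=
  u35pack_lt _ _ _ _ _ _ _ _ _ (M 0 0).h (M 0 1).h (M 0 2).h (M 1 0).h (M 1 1).h (M 1 2).h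
    (M 2 0).h (M 2 1).h (M 2 2).h

theorem u35toMat_apply_c (x : Nat) (i j : Fin 3) :
    (u35toMat x i j).c = u35dg x (3 * i.val + j.val) := rfl

theorem u35toMat_ofMat (M : U35M) : u35toMat (u35ofMat M) = M := by
  obtain ⟨h0, h1, h2, h3, h4, h5, h6, h7, h8⟩ := u35dg_ofMat M
  ext i j
  apply U35K.ext'
  rw [u35toMat_apply_c]
  fin_cases i <;> fin_cases j
  · exact h0
  · exact h1
  · exact h2
  · exact h3
  · exact h4
  · exact h5
  · exact h6
  · exact h7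
  · exact h8

theorem u35ofMat_injective : Function.Injective u35ofMat :=
  Function.LeftInverse.injective u35toMat_ofMat

theorem u35ofMat_toMat (x : Nat) (hx : x < 3814697265625) : u35ofMat (u35toMat x) = x := by
  simp only [u35ofMat, u35toMat, Matrix.of_apply, U35K.ofN_c, u35pack]
  norm_num
  omega

theorem u35ofMat_mul (M N : U35M) : u35ofMat (M * N) = u35pmul (u35ofMat M) (u35ofMat N) := by
  obtain ⟨h0, h1, h2, h3, h4, h5, h6, h7, h8⟩ := u35dg_ofMat M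
  obtain ⟨k0, k1, k2, k3, k4, k5, k6, k7, k8⟩ := u35dg_ofMat N
  unfold u35pmul
  rw [h0, h1, h2, h3, h4, h5, h6, h7, h8, k0, k1, k2, k3, k4, k5, k6, k7, k8]
  simp only [u35ofMat, Matrix.mul_apply, Fin.sum_univ_three, U35K.add_c, U35K.mul_c, u35dot]

theorem u35ofMat_one : u35ofMat 1 = u35pone := by
  simp [u35ofMat, u35pack, u35pone]

theorem u35ofMat_cstar (M : U35M) :
    u35ofMat (Cfsg.Agent.Lib.helper48.cstar U35K.conj M) = u35pcstar (u35ofMat M) := by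
  obtain ⟨h0, h1, h2, h3, h4, h5, h6, h7, h8⟩ := u35dg_ofMat M
  unfold u35pcstar
  rw [h0, h1, h2, h3, h4, h5, h6, h7, h8]
  simp only [u35ofMat, Cfsg.Agent.Lib.helper48.cstar_apply, U35K.conj_c]

theorem u35ofMat_smul (a : U35K) (M : U35M) :
    u35ofMat (a • M) = u35psmul a.c (u35ofMat M) := by
  obtain ⟨h0, h1, h2, h3, h4, h5, h6, h7, h8⟩ := u35dg_ofMat M
  unfold u35psmul
  rw [h0, h1, h2, h3, h4, h5, h6, h7, h8]
  simp only [u35ofMat, Matrix.smul_apply, smul_eq_mul, U35K.mul_c]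

theorem u35ofMat_add (M N : U35M) : u35ofMat (M + N) = u35padd (u35ofMat M) (u35ofMat N) := by
  obtain ⟨h0, h1, h2, h3, h4, h5, h6, h7, h8⟩ := u35dg_ofMat M
  obtain ⟨k0, k1, k2, k3, k4, k5, k6, k7, k8⟩ := u35dg_ofMat N
  unfold u35padd
  rw [h0, h1, h2, h3, h4, h5, h6, h7, h8, k0, k1, k2, k3, k4, k5, k6, k7, k8]
  simp only [u35ofMat, Matrix.add_apply, U35K.add_c]

theorem u35_det_c (M : U35M) : (M.det).c = u35pdet (u35ofMat M) := by
  obtain ⟨h0, h1, h2, h3, h4, h5, h6, h7, h8⟩ := u35dg_ofMat M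
  unfold u35pdet
  rw [h0, h1, h2, h3, h4, h5, h6, h7, h8, Matrix.det_fin_three]
  simp only [sub_eq_add_neg, U35K.add_c, U35K.mul_c, U35K.neg_c]

theorem u35_trace_c (M : U35M) : (M.trace).c = u35ptrace (u35ofMat M) := by
  obtain ⟨h0, h1, h2, h3, h4, h5, h6, h7, h8⟩ := u35dg_ofMat M
  unfold u35ptrace
  rw [h0, h4, h8, Matrix.trace_fin_three]
  simp only [U35K.add_c]

end Cfsg.Agent.Lib.helper94
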