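import Mathlib
import Cfsg.Agent.Lib.helper94.U35Mat

set_option autoImplicit false

/-!
# `SU_3(5)` over the concrete field, through packed matrices (helper94)

`u35code` is an injective map from `SU 3 U35K 5` to the natural numbers, multiplicative
for the packed product, with image the packed matrices passing `u35isSU`.
-/

namespace Cfsg.Agent.Lib.helper94

open Cfsg Matrix Cfsg.Agent.Lib.helper7 Cfsg.Agent.Lib.helper48 Cfsg.Agent.Lib.helper99.PsuSpec

abbrev U35G := SU 3 U35K 5

/-- the packed matrix of an element of `SU_3(5)` -/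
def u35code (g : U35G) : Nat := u35ofMat g.1.1

theorem u35code_injective : Function.Injective u35code := by
  intro g h hgh
  apply Subtype.ext
  apply Subtype.ext
  exact u35ofMat_injective hgh

theorem u35code_mul (g h : U35G) : u35code (g * h) = u35pmul (u35code g) (u35code h) := by
  unfold u35code
  rw [← u35ofMat_mul]
  rfl

theorem u35code_one : u35code 1 = u35pone := by
  unfold u35code
  rw [← u35ofMat_one]
  rfl

theorem u35_isIsom_iff (M : U35M) :
    IsIsom 3 5 M ↔ u35pmul (u35pcstar (u35ofMat M)) (u35ofMat M) = u35pone := by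
  rw [isIsom_iff_cstar 5 (by norm_num) U35K.conj U35K.conj_eq_pow, ← u35ofMat_cstar,
    ← u35ofMat_mul, ← u35ofMat_one]
  exact ⟨fun h => by rw [h], fun h => u35ofMat_injective h⟩

theorem u35_det_iff (M : U35M) : M.det = 1 ↔ u35pdet (u35ofMat M) = 1 := by
  rw [← u35_det_c]
  exact ⟨fun h => by rw [h]; rfl, fun h => U35K.ext' h⟩

theorem u35isSU_iff (x : Nat) : u35isSU x = true ↔
    x < 3814697265625 ∧ u35pmul (u35pcstar x) x = u35pone ∧ u35pdet x = 1 := by
  unfold u35isSU
  simp [and_assoc]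

theorem u35code_isSU (g : U35G) : u35isSU (u35code g) = true := by
  rw [u35isSU_iff]
  exact ⟨u35ofMat_lt _, (u35_isIsom_iff g.1.1).1 ((mem_SU_iff 3 g.1).1 g.2),
    (u35_det_iff g.1.1).1 g.1.2⟩

theorem u35toMat_det (x : Nat) (h : u35isSU x = true) : (u35toMat x).det = 1 := by
  have h' := (u35isSU_iff x).1 h
  rw [u35_det_iff, u35ofMat_toMat x h'.1]
  exact h'.2.2

theorem u35toMat_isIsom (x : Nat) (h : u35isSU x = true) : IsIsom 3 5 (u35toMat x) := by
  have h' := (u35isSU_iff x).1 h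
  rw [u35_isIsom_iff, u35ofMat_toMat x h'.1]
  exact h'.2.1

/-- the element of `SU_3(5)` with a given packed matrix -/
def u35mk (x : Nat) (h : u35isSU x = true) : U35G :=
  ⟨(⟨u35toMat x, u35toMat_det x h⟩ : Matrix.SpecialLinearGroup (Fin 3) U35K),
    (mem_SU_iff 3 _).2 (u35toMat_isIsom x h)⟩

theorem u35code_mk (x : Nat) (h : u35isSU x = true) : u35code (u35mk x h) = x :=
  u35ofMat_toMat x ((u35isSU_iff x).1 h).1

theorem u35_exists_of_isSU (x : Nat) (h : u35isSU x = true) : ∃ g : U35G, u35code g = x :=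
  ⟨u35mk x h, u35code_mk x h⟩

theorem u35code_inv (g : U35G) : u35code g⁻¹ = u35pcstar (u35code g) := by
  have h1 : IsIsom 3 5 g.1.1 := (mem_SU_iff 3 g.1).1 g.2
  rw [isIsom_iff_cstar 5 (by norm_num) U35K.conj U35K.conj_eq_pow] at h1
  have h2 : (g⁻¹).1.1 * g.1.1 = 1 := by
    have h3 : g⁻¹ * g = 1 := inv_mul_cancel g
    have h4 := congrArg (fun k : U35G => k.1.1) h3
    exact h4
  have h5 : g.1.1 * cstar U35K.conj g.1.1 = 1 := mul_eq_one_comm.mp h1
  have h6 : (g⁻¹).1.1 = cstar U35K.conj g.1.1 := by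
    calc (g⁻¹).1.1 = (g⁻¹).1.1 * (g.1.1 * cstar U35K.conj g.1.1) := by rw [h5, mul_one]
      _ = ((g⁻¹).1.1 * g.1.1) * cstar U35K.conj g.1.1 := by rw [mul_assoc]
      _ = cstar U35K.conj g.1.1 := by rw [h2, one_mul]
  unfold u35code
  rw [h6, u35ofMat_cstar]

theorem u35code_eq_one_iff (g : U35G) : u35code g = u35pone ↔ g = 1 := by
  rw [← u35code_one]
  exact u35code_injective.eq_iff

end Cfsg.Agent.Lib.helper94
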