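import Mathlib
import Cfsg.Agent.Lib.helper94.U35SU

set_option autoImplicit false

/-!
# Faster packed product for kernel evaluation (helper94)

The same product as `u35pmul`, with the field multiplication read off a table packed into
one natural number, sums of three products reduced by a second table, and every digit
forced to a numeral first.  Generated by `tools/helper94/u35/genfast.py`.
-/

namespace Cfsg.Agent.Lib.helper94

/-- force a natural number to a numeral before passing it on (kernel evaluation) -/
def u35force {α : Type} (n : ℕ) (f : ℕ → α) : α :=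
  match n with
  | 0 => f 0
  | Nat.succ k => f (Nat.succ k)

theorem u35force_eq {α : Type} (n : ℕ) (f : ℕ → α) : u35force n f = f n := by
  cases n <;> rfl

/-- multiplication table: the product of codes `a`, `b` as `re + 16 im` in byte `25 a + b` -/
def u35MT : Nat := 194236847434728402481019829274874966933952286764621390629194055248606335088002803430391330800266165305248062722869158448440661817240112332256605003878681729341262191375305415189886711675929988029847633235308972752820264915942556745026924394570920895264997361182506305422257681046974320051795493367699727298797253390547868480768399066368819106903810503569073838154248039410880395855945721153223349314561107452892302148219232841458256812311323472697874821528823227866037881786843513879459666393146875482179252619852863226430396726253393042334582898419633057090458439767515261421176411804411046953476940946622093031377915319231231707321995731393321359655558658796975618105323257941962467532667826713128943471106522077748887888076842959618160215069560487396528140085392692232954591757115566947381583032421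72931457033633584528304490079724207188262776072179715516799039647984597130638274735977259779107411026742393420113068323058066059612701558646651972208109719721730073415303300133406359389342084782390651341669662783555855939272528766563306631168094833968697817616646585957197047089736570151717141576447932371984800823057502644138303015037793671403225232981726433093939960719941245703622763742320814384383001967598655284411227645587430159941864696495445544993478192503107199587238126691912446313575888070899667858979488199692357182340696270699298500201799064843705750505614608850877173329574748678509745576002580740488089761840973953082702325052386959660880572191529125422441471280022248853279365650605670400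

/-- reduction table: for `s = re + 16 im` with `re, im < 16`, the code of `(re mod 5, im mod 5)` -/
def u35RT : Nat := 83258045526906079044299999217863784238504318263025162734081138468122792959706749827434767156670546171658033971914755791641602666009016780764290311126000903713093180477530961805710307839846503536718702240757704925472570796313611543684468702784029796467392843461690962762823286541445674439108838647091349803683115096425962118011989854460560030491193300286115920286997816205982744807456

def u35enc (s : Nat) : Nat := s % 5 + 16 * (s / 5)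

def u35mT (a b : Nat) : Nat :=
  Nat.land (Nat.shiftRight u35MT (Nat.mul 8 (Nat.add (Nat.mul 25 a) b))) 255

def u35redT (s : Nat) : Nat := Nat.land (Nat.shiftRight u35RT (Nat.mul 5 s)) 31

def u35dotF (a1 b1 a2 b2 a3 b3 : Nat) : Nat :=
  u35redT (Nat.add (Nat.add (u35mT a1 b1) (u35mT a2 b2)) (u35mT a3 b3))

theorem u35mT_eq : ∀ a, a < 25 → ∀ b, b < 25 → u35mT a b = u35enc (u35mulc a b) := by
  decide +kernel

theorem u35redT_eq : ∀ s1, s1 < 25 → ∀ s2, s2 < 25 → ∀ s3, s3 < 25 →
    u35redT (Nat.add (Nat.add (u35enc s1) (u35enc s2)) (u35enc s3))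
      = u35addc (u35addc s1 s2) s3 := by
  decide +kernel

theorem u35dotF_eq (a1 b1 a2 b2 a3 b3 : Nat) (h1 : a1 < 25) (k1 : b1 < 25) (h2 : a2 < 25)
    (k2 : b2 < 25) (h3 : a3 < 25) (k3 : b3 < 25) :
    u35dotF a1 b1 a2 b2 a3 b3 = u35dot a1 b1 a2 b2 a3 b3 := by
  unfold u35dotF u35dot
  rw [u35mT_eq a1 h1 b1 k1, u35mT_eq a2 h2 b2 k2, u35mT_eq a3 h3 b3 k3,
    u35redT_eq _ (u35mulc_lt _ _) _ (u35mulc_lt _ _) _ (u35mulc_lt _ _)]

def u35packF (d0 d1 d2 d3 d4 d5 d6 d7 d8 : Nat) : Nat :=
  Nat.add d0 (Nat.mul 25 (Nat.add d1 (Nat.mul 25 (Nat.add d2 (Nat.mul 25 (Nat.add d3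
    (Nat.mul 25 (Nat.add d4 (Nat.mul 25 (Nat.add d5 (Nat.mul 25 (Nat.add d6
      (Nat.mul 25 (Nat.add d7 (Nat.mul 25 d8)))))))))))))))

theorem u35packF_eq (d0 d1 d2 d3 d4 d5 d6 d7 d8 : Nat) :
    u35packF d0 d1 d2 d3 d4 d5 d6 d7 d8 = u35pack d0 d1 d2 d3 d4 d5 d6 d7 d8 := rfl

theorem u35dg_lt (x k : Nat) : u35dg x k < 25 := Nat.mod_lt _ (by norm_num)

def u35pmulF (x y : Nat) : Nat :=
  u35force (Nat.mod x 25) fun x0 =>
  u35force (Nat.mod (Nat.div x 25) 25) fun x1 =>
  u35force (Nat.mod (Nat.div x 625) 25) fun x2 =>
  u35force (Nat.mod (Nat.div x 15625) 25) fun x3 =>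
  u35force (Nat.mod (Nat.div x 390625) 25) fun x4 =>
  u35force (Nat.mod (Nat.div x 9765625) 25) fun x5 =>
  u35force (Nat.mod (Nat.div x 244140625) 25) fun x6 =>
  u35force (Nat.mod (Nat.div x 6103515625) 25) fun x7 =>
  u35force (Nat.mod (Nat.div x 152587890625) 25) fun x8 =>
  u35force (Nat.mod y 25) fun y0 =>
  u35force (Nat.mod (Nat.div y 25) 25) fun y1 =>
  u35force (Nat.mod (Nat.div y 625) 25) fun y2 =>
  u35force (Nat.mod (Nat.div y 15625) 25) fun y3 =>
  u35force (Nat.mod (Nat.div y 390625) 25) fun y4 =>
  u35force (Nat.mod (Nat.div y 9765625) 25) fun y5 =>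
  u35force (Nat.mod (Nat.div y 244140625) 25) fun y6 =>
  u35force (Nat.mod (Nat.div y 6103515625) 25) fun y7 =>
  u35force (Nat.mod (Nat.div y 152587890625) 25) fun y8 =>
  u35packF
    (u35dotF x0 y0 x1 y3 x2 y6)
    (u35dotF x0 y1 x1 y4 x2 y7)
    (u35dotF x0 y2 x1 y5 x2 y8)
    (u35dotF x3 y0 x4 y3 x5 y6)
    (u35dotF x3 y1 x4 y4 x5 y7)
    (u35dotF x3 y2 x4 y5 x5 y8)
    (u35dotF x6 y0 x7 y3 x8 y6)
    (u35dotF x6 y1 x7 y4 x8 y7)
    (u35dotF x6 y2 x7 y5 x8 y8)

theorem u35pmulF_eq (x y : Nat) : u35pmulF x y = u35pmul x y := by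
  unfold u35pmulF u35pmul
  simp only [u35force_eq, u35packF_eq]
  have h0 : ∀ z : Nat, Nat.mod z 25 = u35dg z 0 := fun z => by
    show z % 25 = z / 25 ^ 0 % 25
    simp
  have h1 : ∀ z : Nat, Nat.mod (Nat.div z 25) 25 = u35dg z 1 := fun z => rfl
  have h2 : ∀ z : Nat, Nat.mod (Nat.div z 625) 25 = u35dg z 2 := fun z => rfl
  have h3 : ∀ z : Nat, Nat.mod (Nat.div z 15625) 25 = u35dg z 3 := fun z => rfl
  have h4 : ∀ z : Nat, Nat.mod (Nat.div z 390625) 25 = u35dg z 4 := fun z => rfl
  have h5 : ∀ z : Nat, Nat.mod (Nat.div z 9765625) 25 = u35dg z 5 := fun z => rfl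
  have h6 : ∀ z : Nat, Nat.mod (Nat.div z 244140625) 25 = u35dg z 6 := fun z => rfl
  have h7 : ∀ z : Nat, Nat.mod (Nat.div z 6103515625) 25 = u35dg z 7 := fun z => rfl
  have h8 : ∀ z : Nat, Nat.mod (Nat.div z 152587890625) 25 = u35dg z 8 := fun z => rfl
  rw [h0, h0, h1, h1, h2, h2, h3, h3, h4, h4, h5, h5, h6, h6, h7, h7, h8, h8]
  simp only [u35dotF_eq _ _ _ _ _ _ (u35dg_lt _ _) (u35dg_lt _ _) (u35dg_lt _ _) (u35dg_lt _ _)
    (u35dg_lt _ _) (u35dg_lt _ _)]

end Cfsg.Agent.Lib.helper94
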