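import Mathlib
import Cfsg.Agent.Lib.helper94.U35Fast

set_option autoImplicit false

/-!
# Certified two-generator subgroups of `SU_3(5)` (helper94)

A spanning tree of the Cayley graph (left multiplication by the two generators) lists the
elements of the subgroup; a search tree built from the list checks that the list is closed
under the generators and has no repetition.
-/

namespace Cfsg.Agent.Lib.helper94

open Cfsg

/-- spanning tree: the two subtrees hang below the products with the two generators -/
inductive U35T where
  | nil : U35T
  | node : U35T → U35T → U35T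

def u35elems (a b : Nat) : U35T → Nat → List Nat → List Nat
  | .nil, _, acc => acc
  | .node l r, m, acc =>
    u35force m fun m' => m' :: u35elems a b l (u35pmulF a m') (u35elems a b r (u35pmulF b m') acc)

/-- search tree -/
inductive U35B where
  | leaf : U35B
  | node : U35B → Nat → U35B → U35B

namespace U35B

/-- force a tree to constructor form before passing it on (kernel evaluation) -/
def force {α : Type} (t : U35B) (f : U35B → α) : α :=
  match t with
  | .leaf => f .leaf
  | .node l k r => f (.node l k r)

theorem force_eq {α : Type} (t : U35B) (f : U35B → α) : t.force f = f t := by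
  cases t <;> rfl

def ins : U35B → Nat → U35B
  | .leaf, x => .node .leaf x .leaf
  | .node l k r, x =>
    match Nat.blt x k with
    | true => (l.ins x).force fun l' => .node l' k r
    | false => (r.ins x).force fun r' => .node l k r'

def has : U35B → Nat → Bool
  | .leaf, _ => false
  | .node l k r, x =>
    match Nat.blt x k with
    | true => l.has x
    | false =>
      match Nat.blt k x with
      | true => r.has x
      | false => true

def toList : U35B → List Nat → List Nat
  | .leaf, acc => acc
  | .node l k r, acc => l.toList (k :: r.toList acc)

def all (p : Nat → Bool) : U35B → Bool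
  | .leaf => true
  | .node l k r => p k && (l.all p && r.all p)

theorem toList_eq (t : U35B) (acc : List Nat) : t.toList acc = t.toList [] ++ acc := by
  induction t generalizing acc with
  | leaf => rfl
  | node l k r ihl ihr =>
    simp only [toList]
    rw [ihl (k :: r.toList acc), ihl (k :: r.toList []), ihr acc]
    simp

theorem toList_node (l : U35B) (k : Nat) (r : U35B) :
    (U35B.node l k r).toList [] = l.toList [] ++ k :: r.toList [] := by
  simp only [toList]
  rw [toList_eq l]

theorem ins_perm (t : U35B) (x : Nat) : ((t.ins x).toList []).Perm (x :: t.toList []) := by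
  induction t with
  | leaf => simp [ins, toList]
  | node l k r ihl ihr =>
    unfold ins
    cases Nat.blt x k
    · simp only [force_eq]
      rw [toList_node, toList_node]
      refine (List.Perm.append_left _ (List.Perm.cons k ihr)).trans ?_
      refine (List.Perm.append_left _ (List.Perm.swap x k _)).trans ?_
      exact List.perm_middle
    · simp only [force_eq]
      rw [toList_node, toList_node]
      exact List.Perm.append_right _ ihl

theorem has_mem (t : U35B) (x : Nat) (h : t.has x = true) : x ∈ t.toList [] := by
  induction t with
  | leaf => simp [has] at h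
  | node l k r ihl ihr =>
    rw [toList_node]
    unfold has at h
    cases h1 : Nat.blt x k
    · rw [h1] at h
      simp only at h
      cases h2 : Nat.blt k x
      · have e1 : ¬ x < k := by
          intro hlt
          have : Nat.blt x k = true := by simp [Nat.blt_eq, hlt]
          rw [h1] at this
          exact Bool.false_ne_true this
        have e2 : ¬ k < x := by
          intro hlt
          have : Nat.blt k x = true := by simp [Nat.blt_eq, hlt]
          rw [h2] at this
          exact Bool.false_ne_true this
        have : x = k := by omega
        simp [this]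
      · rw [h2] at h
        simp only at h
        simp [ihr h]
    · rw [h1] at h
      simp only at h
      simp [ihl h]

theorem all_mem (p : Nat → Bool) (t : U35B) (h : t.all p = true) :
    ∀ x ∈ t.toList [], p x = true := by
  induction t with
  | leaf => simp [toList]
  | node l k r ihl ihr =>
    rw [toList_node]
    simp only [all, Bool.and_eq_true] at h
    intro x hx
    simp only [List.mem_append, List.mem_cons] at hx
    rcases hx with hx | rfl | hx
    · exact ihl h.2.1 x hx
    · exact h.1
    · exact ihr h.2.2 x hx

end U35B

def u35fromList : List Nat → U35B → U35B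
  | [], t => t
  | x :: xs, t => (t.ins x).force fun t' => u35fromList xs t'

/-- length, with a forced accumulator -/
def u35len : List Nat → Nat → Nat
  | [], n => n
  | _ :: l, n => u35force (n + 1) fun n' => u35len l n'

theorem u35len_eq : ∀ (l : List Nat) (n : Nat), u35len l n = l.length + n
  | [], n => by simp [u35len]
  | _ :: l, n => by
    simp only [u35len, u35force_eq, List.length_cons]
    rw [u35len_eq l (n + 1)]
    omega

theorem u35fromList_perm (xs : List Nat) (t : U35B) :
    ((u35fromList xs t).toList []).Perm (xs ++ t.toList []) := by
  induction xs generalizing t with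
  | nil => simp [u35fromList]
  | cons x xs ih =>
    simp only [u35fromList, U35B.force_eq]
    refine (ih (t.ins x)).trans ?_
    refine (List.Perm.append_left _ (U35B.ins_perm t x)).trans ?_
    simp

def u35sorted : List Nat → Bool
  | [] => true
  | [_] => true
  | x :: y :: l => Nat.blt x y && u35sorted (y :: l)

theorem u35sorted_lt : ∀ (l : List Nat) (x : Nat), u35sorted (x :: l) = true → ∀ y ∈ l, x < y
  | [], _, _ => by simp
  | z :: l, x, h => by
    simp only [u35sorted, Bool.and_eq_true, Nat.blt_eq] at h
    intro y hy
    rcases List.mem_cons.1 hy with rfl | hy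
    · exact h.1
    · exact lt_trans h.1 (u35sorted_lt l z h.2 y hy)

theorem u35sorted_nodup : ∀ (l : List Nat), u35sorted l = true → l.Nodup
  | [], _ => List.nodup_nil
  | x :: l, h => by
    have h2 : u35sorted l = true := by
      cases l with
      | nil => rfl
      | cons y l =>
        simp only [u35sorted, Bool.and_eq_true] at h
        exact h.2
    refine List.nodup_cons.2 ⟨?_, u35sorted_nodup l h2⟩
    intro hx
    exact lt_irrefl x (u35sorted_lt l x h x hx)

/-- membership test by a linear scan -/
def u35notin : List Nat → Nat → Bool
  | [], _ => true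
  | y :: l, x => !(Nat.beq x y) && u35notin l x

theorem u35notin_spec : ∀ (l : List Nat) (x : Nat), u35notin l x = true → x ∉ l
  | [], _, _ => by simp
  | y :: l, x, h => by
    simp only [u35notin, Bool.and_eq_true, Bool.not_eq_true'] at h
    simp only [List.mem_cons, not_or]
    exact ⟨Nat.ne_of_beq_eq_false h.1, u35notin_spec l x h.2⟩

/-- the sorted list of the elements listed by the spanning tree -/
def u35keys (a b : Nat) (T : U35T) : List Nat :=
  (u35fromList (u35elems a b T u35pone []) .leaf).toList []

/-- the whole certificate -/
def u35certOK (a b : Nat) (T : U35T) (n : Nat) : Bool :=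
  u35isSU a && u35isSU b &&
  (match T with
   | .nil => false
   | .node _ _ => true) &&
  (u35sorted ((u35fromList (u35elems a b T u35pone []) .leaf).toList []) &&
   (u35fromList (u35elems a b T u35pone []) .leaf).all (fun x =>
     (u35fromList (u35elems a b T u35pone []) .leaf).has (u35pmulF a x) &&
     (u35fromList (u35elems a b T u35pone []) .leaf).has (u35pmulF b x)) &&
   Nat.beq (u35len ((u35fromList (u35elems a b T u35pone []) .leaf).toList []) 0) n)

theorem u35elems_ind (a b : Nat) (Q : Nat → Prop) (hQa : ∀ m, Q m → Q (u35pmul a m))
    (hQb : ∀ m, Q m → Q (u35pmul b m)) :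
    ∀ (T : U35T) (m : Nat) (acc : List Nat), Q m → (∀ x ∈ acc, Q x) →
      ∀ x ∈ u35elems a b T m acc, Q x := by
  intro T
  induction T with
  | nil =>
    intro m acc _ hacc x hx
    exact hacc x hx
  | node l r ihl ihr =>
    intro m acc hm hacc x hx
    simp only [u35elems, u35force_eq, u35pmulF_eq] at hx
    rcases List.mem_cons.1 hx with rfl | hx
    · exact hm
    · exact ihl (u35pmul a m) _ (hQa m hm) (ihr (u35pmul b m) acc (hQb m hm) hacc) x hx

theorem u35keys_mem (a b : Nat) (T : U35T) (x : Nat) :
    x ∈ u35keys a b T ↔ x ∈ u35elems a b T u35pone [] := by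
  unfold u35keys
  rw [(u35fromList_perm _ _).mem_iff]
  simp [U35B.toList]

/-- the subgroup generated by two packed matrices -/
def u35gen (a b : Nat) (hA : u35isSU a = true) (hB : u35isSU b = true) : Subgroup U35G :=
  Subgroup.closure {u35mk a hA, u35mk b hB}

section
variable {a b : Nat} {T : U35T} {n : Nat}

theorem u35cert_unpack (h : u35certOK a b T n = true) :
    ∃ (hA : u35isSU a = true) (hB : u35isSU b = true),
      u35pone ∈ u35keys a b T ∧ (u35keys a b T).Nodup ∧
      (∀ x ∈ u35keys a b T, u35pmul a x ∈ u35keys a b T ∧ u35pmul b x ∈ u35keys a b T) ∧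
      (u35keys a b T).length = n := by
  unfold u35certOK at h
  simp only [Bool.and_eq_true] at h
  obtain ⟨⟨⟨hA, hB⟩, hT⟩, ⟨hs, hc⟩, hn⟩ := h
  refine ⟨hA, hB, ?_, u35sorted_nodup _ hs, ?_, by
    have := Nat.eq_of_beq_eq_true hn
    rw [u35len_eq, Nat.add_zero] at this
    exact this⟩
  · rw [u35keys_mem]
    cases T with
    | nil => simp at hT
    | node l r => simp [u35elems, u35force_eq]
  · intro x hx
    have h1 := U35B.all_mem _ _ hc x hx
    simp only [Bool.and_eq_true, u35pmulF_eq] at h1
    exact ⟨U35B.has_mem _ _ h1.1, U35B.has_mem _ _ h1.2⟩

theorem u35cert_mem (h : u35certOK a b T n = true) (hA : u35isSU a = true)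
    (hB : u35isSU b = true) (g : U35G) :
    g ∈ u35gen a b hA hB ↔ u35code g ∈ u35keys a b T := by
  obtain ⟨_, _, h1, _, hcl, _⟩ := u35cert_unpack h
  constructor
  · intro hg
    have hg' : g ∈ (Subgroup.closure {u35mk a hA, u35mk b hB}).toSubmonoid := hg
    rw [Subgroup.closure_toSubmonoid_of_finite] at hg'
    refine Submonoid.closure_induction_left
      (motive := fun g _ => u35code g ∈ u35keys a b T) ?_ ?_ hg'
    · rw [u35code_one]; exact h1
    · intro x hx y _ ih
      rw [u35code_mul]
      rcases hx with rfl | rfl
      · rw [u35code_mk]; exact (hcl _ ih).1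
      · rw [u35code_mk]; exact (hcl _ ih).2
  · intro hg
    rw [u35keys_mem] at hg
    have key : ∀ x ∈ u35elems a b T u35pone [], ∃ k ∈ u35gen a b hA hB, u35code k = x := by
      apply u35elems_ind a b (fun x => ∃ k ∈ u35gen a b hA hB, u35code k = x)
      · rintro m ⟨k, hk, rfl⟩
        refine ⟨u35mk a hA * k, ?_, ?_⟩
        · exact Subgroup.mul_mem _ (Subgroup.subset_closure (by simp)) hk
        · rw [u35code_mul, u35code_mk]
      · rintro m ⟨k, hk, rfl⟩
        refine ⟨u35mk b hB * k, ?_, ?_⟩
        · exact Subgroup.mul_mem _ (Subgroup.subset_closure (by simp)) hk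
        · rw [u35code_mul, u35code_mk]
      · exact ⟨1, Subgroup.one_mem _, u35code_one⟩
      · simp
    obtain ⟨k, hk, hkc⟩ := key _ hg
    rw [← u35code_injective hkc]
    exact hk

theorem u35cert_card (h : u35certOK a b T n = true) (hA : u35isSU a = true)
    (hB : u35isSU b = true) : Nat.card (u35gen a b hA hB) = n := by
  obtain ⟨_, _, _, hnd, _, hlen⟩ := u35cert_unpack h
  have e : (u35gen a b hA hB) ≃ {x // x ∈ (u35keys a b T).toFinset} :=
    Equiv.ofBijective
      (fun g => ⟨u35code g.1, List.mem_toFinset.2 ((u35cert_mem h hA hB g.1).1 g.2)⟩) (by
        constructor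
        · intro g1 g2 h12
          apply Subtype.ext
          exact u35code_injective (congrArg Subtype.val h12)
        · rintro ⟨x, hx⟩
          rw [List.mem_toFinset] at hx
          obtain ⟨hA', hB', hrest⟩ := u35cert_unpack h
          have hx' := hx
          rw [u35keys_mem] at hx'
          have hsu : ∀ y ∈ u35elems a b T u35pone [], u35isSU y = true := by
            apply u35elems_ind a b (fun y => u35isSU y = true)
            · intro m hm
              obtain ⟨k, rfl⟩ := u35_exists_of_isSU m hm
              rw [← u35code_mk a hA, ← u35code_mul]
              exact u35code_isSU _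
            · intro m hm
              obtain ⟨k, rfl⟩ := u35_exists_of_isSU m hm
              rw [← u35code_mk b hB, ← u35code_mul]
              exact u35code_isSU _
            · rw [← u35code_one]; exact u35code_isSU _
            · simp
          refine ⟨⟨u35mk x (hsu x hx'), ?_⟩, ?_⟩
          · rw [u35cert_mem h hA hB, u35code_mk]
            exact hx
          · apply Subtype.ext
            exact u35code_mk x (hsu x hx'))
  rw [Nat.card_congr e, Nat.card_eq_fintype_card, Fintype.card_coe,
    List.toFinset_card_of_nodup hnd, hlen]

end

end Cfsg.Agent.Lib.helper94
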