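import Mathlib
import Cfsg.Agent.Lib.helper94.U35Cert

set_option autoImplicit false

/-!
# Words, conjugation, normalizers of finite sets and the centre of `SU_3(5)` (helper94)
-/

namespace Cfsg.Agent.Lib.helper94

open Cfsg Matrix Cfsg.Agent.Lib.helper7 Cfsg.Agent.Lib.helper48 Cfsg.Agent.Lib.helper99.PsuSpec

/-- word evaluation: `false` is the first generator, `true` the second -/
def u35wd (a b : Nat) : List Bool → Nat
  | [] => u35pone
  | false :: w => u35pmulF a (u35wd a b w)
  | true :: w => u35pmulF b (u35wd a b w)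

theorem u35wd_mem {a b : Nat} (hA : u35isSU a = true) (hB : u35isSU b = true) (w : List Bool) :
    ∃ k ∈ u35gen a b hA hB, u35code k = u35wd a b w := by
  induction w with
  | nil => exact ⟨1, Subgroup.one_mem _, u35code_one⟩
  | cons c w ih =>
    obtain ⟨k, hk, hkc⟩ := ih
    cases c
    · refine ⟨u35mk a hA * k, Subgroup.mul_mem _ (Subgroup.subset_closure (by simp)) hk, ?_⟩
      simp only [u35wd, u35pmulF_eq]
      rw [u35code_mul, u35code_mk, hkc]
    · refine ⟨u35mk b hB * k, Subgroup.mul_mem _ (Subgroup.subset_closure (by simp)) hk, ?_⟩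
      simp only [u35wd, u35pmulF_eq]
      rw [u35code_mul, u35code_mk, hkc]

theorem u35_dvd_of_cert (K : Subgroup U35G) {p q : Nat} {T : U35T} {n : Nat}
    (h : u35certOK p q T n = true) (hp : ∃ k ∈ K, u35code k = p) (hq : ∃ k ∈ K, u35code k = q) :
    n ∣ Nat.card K := by
  obtain ⟨hP, hQ, _⟩ := u35cert_unpack h
  have hle : u35gen p q hP hQ ≤ K := by
    unfold u35gen
    rw [Subgroup.closure_le]
    rintro x (rfl | rfl)
    · obtain ⟨k, hk, hkc⟩ := hp
      have : k = u35mk p hP := u35code_injective (by rw [hkc, u35code_mk])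
      rw [← this]
      exact hk
    · obtain ⟨k, hk, hkc⟩ := hq
      have : k = u35mk q hQ := u35code_injective (by rw [hkc, u35code_mk])
      rw [← this]
      exact hk
  have := Subgroup.card_dvd_of_le hle
  rwa [u35cert_card h hP hQ] at this

/-- packed conjugation -/
def u35conj (g y : Nat) : Nat := u35pmulF (u35pmulF g y) (u35pcstar g)

theorem u35code_conj (g y : U35G) :
    u35code (g * y * g⁻¹) = u35conj (u35code g) (u35code y) := by
  unfold u35conj
  rw [u35pmulF_eq, u35pmulF_eq, u35code_mul, u35code_mul, u35code_inv]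

/-- membership test by a linear scan -/
def u35inl : List Nat → Nat → Bool
  | [], _ => false
  | y :: l, x => Nat.beq x y || u35inl l x

theorem u35inl_spec : ∀ (l : List Nat) (x : Nat), u35inl l x = true → x ∈ l
  | [], _, h => by simp [u35inl] at h
  | y :: l, x, h => by
    simp only [u35inl, Bool.or_eq_true] at h
    rcases h with h | h
    · exact List.mem_cons.2 (Or.inl (Nat.eq_of_beq_eq_true h))
    · exact List.mem_cons.2 (Or.inr (u35inl_spec l x h))

/-- the elements whose packed matrix is in a list -/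
def u35setOf (L : List Nat) : Set U35G := {g | u35code g ∈ L}

theorem u35_mem_normalizer (L : List Nat) (g : U35G)
    (h : L.all (fun y => u35inl L (u35conj (u35code g) y)) = true) :
    g ∈ Subgroup.normalizer (u35setOf L) := by
  apply Subgroup.mem_normalizer_fintype
  intro n hn
  show u35code (g * n * g⁻¹) ∈ L
  rw [u35code_conj]
  rw [List.all_eq_true] at h
  exact u35inl_spec _ _ (h _ hn)

theorem u35_not_mem_normalizer (L : List Nat) (g y : U35G) (hy : u35code y ∈ L)
    (h : u35notin L (u35conj (u35code g) (u35code y)) = true) :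
    g ∉ Subgroup.normalizer (u35setOf L) := by
  intro hg
  rw [Subgroup.mem_set_normalizer_iff] at hg
  have h1 : g * y * g⁻¹ ∈ u35setOf L := (hg y).1 hy
  have h2 : u35code (g * y * g⁻¹) ∈ L := h1
  rw [u35code_conj] at h2
  exact u35notin_spec _ _ h h2

theorem u35_center_le_normalizer (S : Set U35G) :
    Subgroup.center U35G ≤ Subgroup.normalizer S := by
  intro z hz
  rw [Subgroup.mem_set_normalizer_iff]
  intro n
  have : z * n * z⁻¹ = n := by
    rw [Subgroup.mem_center_iff] at hz
    rw [← hz n, mul_inv_cancel_right]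
  rw [this]

def u35Z1 : Nat := 1831059375012

def u35Z2 : Nat := 2594000781267

theorem u35card_sq : Fintype.card U35K = 5 ^ 2 := by
  rw [U35K.card_eq]
  norm_num

theorem u35scal_aux : ∀ c, c < 25 → u35pdet (u35psmul c u35pone) = 1 →
    c = 1 ∨ c = 12 ∨ c = 17 := by
  decide +kernel

theorem u35center_scalar (z : U35G) (hz : z ∈ Subgroup.center U35G) :
    ∃ c : U35K, (c.c = 1 ∨ c.c = 12 ∨ c.c = 17) ∧ z.1.1 = c • (1 : U35M) := by
  obtain ⟨c, hc⟩ := (mem_center_iff_scalar 5 u35card_sq z).1 hz
  refine ⟨c, ?_, hc⟩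
  have h1 := (u35isSU_iff _).1 (u35code_isSU z)
  have h2 : u35code z = u35psmul c.c u35pone := by
    unfold u35code
    rw [hc, u35ofMat_smul, u35ofMat_one]
  rw [h2] at h1
  exact u35scal_aux c.c c.h h1.2.2

theorem u35center_of_scalar (z : U35G) (c : U35K) (hc : z.1.1 = c • (1 : U35M)) :
    z ∈ Subgroup.center U35G :=
  (mem_center_iff_scalar 5 u35card_sq z).2 ⟨c, hc⟩

theorem u35center_code (z : U35G) (hz : z ∈ Subgroup.center U35G) :
    u35code z = u35pone ∨ u35code z = u35Z1 ∨ u35code z = u35Z2 := by
  obtain ⟨c, hc, hz'⟩ := u35center_scalar z hz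
  have h2 : u35code z = u35psmul c.c u35pone := by
    unfold u35code
    rw [hz', u35ofMat_smul, u35ofMat_one]
  rw [h2]
  rcases hc with h | h | h <;> rw [h]
  · left; decide
  · right; left; decide
  · right; right; decide

theorem u35center_of_code (z : U35G)
    (h : u35code z = u35pone ∨ u35code z = u35Z1 ∨ u35code z = u35Z2) :
    z ∈ Subgroup.center U35G := by
  have key : ∀ c : Nat, c < 25 → u35code z = u35psmul c u35pone →
      z ∈ Subgroup.center U35G := by
    intro c hc hz
    apply u35center_of_scalar z (U35K.ofN c)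
    apply u35ofMat_injective
    rw [u35ofMat_smul, u35ofMat_one, U35K.ofN_c, Nat.mod_eq_of_lt hc]
    exact hz
  rcases h with h | h | h
  · exact key 1 (by norm_num) (by rw [h]; decide)
  · exact key 12 (by norm_num) (by rw [h]; decide)
  · exact key 17 (by norm_num) (by rw [h]; decide)

/-- packed powers -/
def u35ppow (x : Nat) : Nat → Nat
  | 0 => u35pone
  | n + 1 => u35pmulF x (u35ppow x n)

theorem u35code_pow (g : U35G) (n : Nat) : u35code (g ^ n) = u35ppow (u35code g) n := by
  induction n with
  | zero => rw [pow_zero, u35code_one]; rfl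
  | succ n ih => rw [pow_succ', u35code_mul, ih]; simp only [u35ppow, u35pmulF_eq]

end Cfsg.Agent.Lib.helper94
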