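import Mathlib
import Cfsg.Agent.Lib.helper94.U35Words

set_option autoImplicit false

/-!
# Data for a subgroup `3.A_7` of `SU_3(5)` (helper94)

Two generators `a`, `b`; words in them generating subgroups of orders 27, 8, 5, 7; and the
105 involutions of the subgroup, a set normalized by `a` and `b` but not by `g`.
Generated by `tools/helper94/u35/gen8.py`.
-/

namespace Cfsg.Agent.Lib.helper94

def u35a : Nat := 998003255786

def u35b : Nat := 643501983464

def u35g : Nat := 2746587750364

def u35wp3 : List Bool := [true, true, false, false, true, false, false]

def u35wq3 : List Bool := [true, false, false, true, true, false, false]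

def u35wp2 : List Bool := [true, true, true, false, true, false]

def u35wq2 : List Bool := [false, true, true, true, false, true]

def u35wg5 : List Bool := [true]

def u35wg7 : List Bool := [true, false, true, false, false]

open U35T in
def u35T27 : U35T :=
  (node (node (node nil (node (node (node nil nil) (node nil (node nil nil))) (node (node nil (node nil nil)) nil))) (node (node (node nil nil) (node nil (node nil nil))) (node (node nil (node nil nil)) nil))) (node (node (node nil nil) (node nil (node nil nil))) (node (node nil (node nil nil)) nil)))

open U35T in
def u35T8 : U35T :=
  (node (node nil (node (node nil (node nil nil)) nil)) (node (node nil (node nil nil)) nil))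

open U35T in
def u35T5 : U35T :=
  (node (node (node (node (node nil nil) nil) nil) nil) nil)

open U35T in
def u35T7 : U35T :=
  (node (node (node (node (node (node (node nil nil) nil) nil) nil) nil) nil) nil)

def u35Om : List Nat :=
  [13936951726, 17599129726, 20294452226, 23956474226, 34131746777, 42198661101,
   43672439778, 44404779253, 45137374653, 49541657778, 58829522351, 60538598251,
   62647138403, 72178893977, 97510412153, 117325387727, 126026273027, 130187045751,
   130675228601, 135078767778, 140947829778, 145586582153, 146318834253, 148526796101,
   152589453129, 159434439476, 165059000652, 171904705652, 177530141976, 185743415700,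
   198213275853, 200166118653, 205547210153, 212149039827, 218652378178, 221593123725,
   233575279051, 240177342725, 243595020525, 245459028178, 252305968025, 255724207725,
   262325271551, 274307958725, 278370365700, 283750604827, 290351902653, 295732526153,
   297685930853, 307130483128, 310548441878, 314219526476, 315439992476, 322041977900,
   326202135400, 332803277476, 334024211476, 338086124777, 345909303875, 346641665275,
   346885847225, 348116406254, 364981337375, 374668062377, 379561268276, 381514104426,
   384941891776, 388848101326, 391543267852, 392275716377, 393008046727, 403428032852,
   408066629227, 408799146377, 410029784276, 412227011326, 415410875776, 419560976926,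
   426406332377, 432422051027, 436094619875, 445635937504, 452969840975, 454434635275,
   455167121375, 466808104703, 486612789703, 490674577675, 498496335251, 499472784951,
   527256421625, 537530657303, 562618549803, 578994691625, 585010503925, 605556778701,
   607754152751, 610351750425, 610351844075, 610352469328, 610352578378, 610352703328,
   610352844302, 610352891002, 610353078302]

theorem u35a_su : u35isSU u35a = true := by decide +kernel

theorem u35b_su : u35isSU u35b = true := by decide +kernel

theorem u35g_su : u35isSU u35g = true := by decide +kernel

theorem u35cert27 :
    u35certOK (u35wd u35a u35b u35wp3) (u35wd u35a u35b u35wq3) u35T27 27 = true := by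
  decide +kernel

theorem u35cert8 :
    u35certOK (u35wd u35a u35b u35wp2) (u35wd u35a u35b u35wq2) u35T8 8 = true := by
  decide +kernel

theorem u35cert5 :
    u35certOK (u35wd u35a u35b u35wg5) (u35wd u35a u35b u35wg5) u35T5 5 = true := by
  decide +kernel

theorem u35cert7 :
    u35certOK (u35wd u35a u35b u35wg7) (u35wd u35a u35b u35wg7) u35T7 7 = true := by
  decide +kernel

theorem u35Om_a : u35Om.all (fun y => u35inl u35Om (u35conj u35a y)) = true := by
  decide +kernel

theorem u35Om_b : u35Om.all (fun y => u35inl u35Om (u35conj u35b y)) = true := by
  decide +kernel

theorem u35Om_g : u35isSU 13936951726 = true ∧ u35inl u35Om 13936951726 = true ∧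
    u35notin u35Om (u35conj u35g 13936951726) = true := by
  decide +kernel

end Cfsg.Agent.Lib.helper94
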