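import Mathlib
import Cfsg.Agent.Lib.helper94.U35DataA
import Cfsg.Agent.Lib.helper27.IndexFifty
import Cfsg.Agent.Lib.helper58.SU3Sylow

set_option autoImplicit false

/-!
# A subgroup of index 50 in `PSU_3(5)` (helper94)

The subgroup generated by `a`, `b` in `SU_3(5)` has order divisible by `27 · 8 · 5 · 7` and
normalizes the set of its 105 involutions, which `g` does not normalize.
-/

namespace Cfsg.Agent.Lib.helper94

open Cfsg

/-- the subgroup `3.A_7` -/
def u35K : Subgroup U35G := u35gen u35a u35b u35a_su u35b_su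

/-- the normalizer of the set of involutions of `u35K` -/
def u35N : Subgroup U35G := Subgroup.normalizer (u35setOf u35Om)

theorem u35K_dvd27 : 27 ∣ Nat.card u35K :=
  u35_dvd_of_cert u35K u35cert27 (u35wd_mem _ _ _) (u35wd_mem _ _ _)

theorem u35K_dvd8 : 8 ∣ Nat.card u35K :=
  u35_dvd_of_cert u35K u35cert8 (u35wd_mem _ _ _) (u35wd_mem _ _ _)

theorem u35K_dvd5 : 5 ∣ Nat.card u35K :=
  u35_dvd_of_cert u35K u35cert5 (u35wd_mem _ _ _) (u35wd_mem _ _ _)

theorem u35K_dvd7 : 7 ∣ Nat.card u35K :=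
  u35_dvd_of_cert u35K u35cert7 (u35wd_mem _ _ _) (u35wd_mem _ _ _)

theorem u35K_le_N : u35K ≤ u35N := by
  unfold u35K u35gen
  rw [Subgroup.closure_le]
  rintro x (rfl | rfl)
  · exact u35_mem_normalizer u35Om _ (by rw [u35code_mk]; exact u35Om_a)
  · exact u35_mem_normalizer u35Om _ (by rw [u35code_mk]; exact u35Om_b)

theorem u35N_ne_top : u35N ≠ ⊤ := by
  intro h
  obtain ⟨h1, h2, h3⟩ := u35Om_g
  have hg : u35mk u35g u35g_su ∈ u35N := by rw [h]; exact Subgroup.mem_top _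
  refine u35_not_mem_normalizer u35Om (u35mk u35g u35g_su) (u35mk _ h1) ?_ ?_ hg
  · rw [u35code_mk]
    exact u35inl_spec _ _ h2
  · rw [u35code_mk, u35code_mk]
    exact h3

theorem u35card_SU : Nat.card U35G = 378000 := by
  have h := Cfsg.Agent.Lib.helper58.card_SU3 (F := U35K) (q := 5) u35card_sq
  rw [h]
  norm_num

theorem u35_index50 (hmin : ∀ H : Subgroup (PSU 3 U35K 5), H ≠ ⊤ → 50 ≤ H.index) :
    ∃ H : Subgroup (PSU 3 U35K 5), H.index = 50 :=
  Cfsg.Agent.Lib.helper27.index_fifty_of_data u35card_SU hmin u35K u35N u35K_dvd27 u35K_dvd8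
    u35K_dvd5 u35K_dvd7 u35K_le_N (u35_center_le_normalizer _) u35N_ne_top

end Cfsg.Agent.Lib.helper94
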