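import Mathlib
import Cfsg.Agent.Lib.helper94.U35Words

set_option autoImplicit false

/-!
# Raw-arithmetic versions of further packed operations (helper94)

Generated by `tools/helper94/u35/genraw.py`.
-/

namespace Cfsg.Agent.Lib.helper94

def u35addcR (x y : Nat) : Nat :=
  Nat.add (Nat.mod (Nat.add (Nat.mod x 5) (Nat.mod y 5)) 5)
    (Nat.mul 5 (Nat.mod (Nat.add (Nat.div x 5) (Nat.div y 5)) 5))

def u35mulcR (x y : Nat) : Nat :=
  Nat.add
    (Nat.mod (Nat.add (Nat.mul (Nat.mod x 5) (Nat.mod y 5))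
      (Nat.mul 2 (Nat.mul (Nat.div x 5) (Nat.div y 5)))) 5)
    (Nat.mul 5 (Nat.mod (Nat.add (Nat.mul (Nat.mod x 5) (Nat.div y 5))
      (Nat.mul (Nat.div x 5) (Nat.mod y 5))) 5))

def u35negcR (x : Nat) : Nat :=
  Nat.add (Nat.mod (Nat.sub 5 (Nat.mod x 5)) 5)
    (Nat.mul 5 (Nat.mod (Nat.sub 5 (Nat.mod (Nat.div x 5) 5)) 5))

theorem u35addcR_eq (x y : Nat) : u35addcR x y = u35addc x y := rfl

theorem u35mulcR_eq (x y : Nat) : u35mulcR x y = u35mulc x y := rfl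

theorem u35negcR_eq (x : Nat) : u35negcR x = u35negc x := rfl

theorem u35dgR0 (z : Nat) : Nat.mod z 25 = u35dg z 0 := by
  show z % 25 = z / 25 ^ 0 % 25
  simp

theorem u35dgR1 (z : Nat) : Nat.mod (Nat.div z 25) 25 = u35dg z 1 := rfl

theorem u35dgR2 (z : Nat) : Nat.mod (Nat.div z 625) 25 = u35dg z 2 := rfl

theorem u35dgR3 (z : Nat) : Nat.mod (Nat.div z 15625) 25 = u35dg z 3 := rfl

theorem u35dgR4 (z : Nat) : Nat.mod (Nat.div z 390625) 25 = u35dg z 4 := rfl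

theorem u35dgR5 (z : Nat) : Nat.mod (Nat.div z 9765625) 25 = u35dg z 5 := rfl

theorem u35dgR6 (z : Nat) : Nat.mod (Nat.div z 244140625) 25 = u35dg z 6 := rfl

theorem u35dgR7 (z : Nat) : Nat.mod (Nat.div z 6103515625) 25 = u35dg z 7 := rfl

theorem u35dgR8 (z : Nat) : Nat.mod (Nat.div z 152587890625) 25 = u35dg z 8 := rfl

def u35psmulR (c x : Nat) : Nat :=
  u35force (Nat.mod x 25) fun x0 =>
  u35force (Nat.mod (Nat.div x 25) 25) fun x1 =>
  u35force (Nat.mod (Nat.div x 625) 25) fun x2 =>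
  u35force (Nat.mod (Nat.div x 15625) 25) fun x3 =>
  u35force (Nat.mod (Nat.div x 390625) 25) fun x4 =>
  u35force (Nat.mod (Nat.div x 9765625) 25) fun x5 =>
  u35force (Nat.mod (Nat.div x 244140625) 25) fun x6 =>
  u35force (Nat.mod (Nat.div x 6103515625) 25) fun x7 =>
  u35force (Nat.mod (Nat.div x 152587890625) 25) fun x8 =>
  u35packF (u35mulcR c x0) (u35mulcR c x1) (u35mulcR c x2) (u35mulcR c x3) (u35mulcR c x4) (u35mulcR c x5) (u35mulcR c x6) (u35mulcR c x7) (u35mulcR c x8)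

theorem u35psmulR_eq (c x : Nat) : u35psmulR c x = u35psmul c x := by
  unfold u35psmulR u35psmul
  simp only [u35force_eq, u35packF_eq, u35mulcR_eq, u35dgR1, u35dgR2, u35dgR3, u35dgR4,
    u35dgR5, u35dgR6, u35dgR7, u35dgR8]
  simp only [u35dgR0]

def u35paddR (x y : Nat) : Nat :=
  u35force (Nat.mod x 25) fun x0 =>
  u35force (Nat.mod (Nat.div x 25) 25) fun x1 =>
  u35force (Nat.mod (Nat.div x 625) 25) fun x2 =>
  u35force (Nat.mod (Nat.div x 15625) 25) fun x3 =>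
  u35force (Nat.mod (Nat.div x 390625) 25) fun x4 =>
  u35force (Nat.mod (Nat.div x 9765625) 25) fun x5 =>
  u35force (Nat.mod (Nat.div x 244140625) 25) fun x6 =>
  u35force (Nat.mod (Nat.div x 6103515625) 25) fun x7 =>
  u35force (Nat.mod (Nat.div x 152587890625) 25) fun x8 =>
  u35force (Nat.mod y 25) fun y0 =>
  u35force (Nat.mod (Nat.div y 25) 25) fun y1 =>
  u35force (Nat.mod (Nat.div y 625) 25) fun y2 =>
  u35force (Nat.mod (Nat.div y 15625) 25) fun y3 =>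
  u35force (Nat.mod (Nat.div y 390625) 25) fun y4 =>
  u35force (Nat.mod (Nat.div y 9765625) 25) fun y5 =>
  u35force (Nat.mod (Nat.div y 244140625) 25) fun y6 =>
  u35force (Nat.mod (Nat.div y 6103515625) 25) fun y7 =>
  u35force (Nat.mod (Nat.div y 152587890625) 25) fun y8 =>
  u35packF (u35addcR x0 y0) (u35addcR x1 y1) (u35addcR x2 y2) (u35addcR x3 y3) (u35addcR x4 y4) (u35addcR x5 y5) (u35addcR x6 y6) (u35addcR x7 y7) (u35addcR x8 y8)

theorem u35paddR_eq (x y : Nat) : u35paddR x y = u35padd x y := by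
  unfold u35paddR u35padd
  simp only [u35force_eq, u35packF_eq, u35addcR_eq, u35dgR1, u35dgR2, u35dgR3, u35dgR4,
    u35dgR5, u35dgR6, u35dgR7, u35dgR8]
  simp only [u35dgR0]

def u35pdetR (x : Nat) : Nat :=
  u35force (Nat.mod x 25) fun x0 =>
  u35force (Nat.mod (Nat.div x 25) 25) fun x1 =>
  u35force (Nat.mod (Nat.div x 625) 25) fun x2 =>
  u35force (Nat.mod (Nat.div x 15625) 25) fun x3 =>
  u35force (Nat.mod (Nat.div x 390625) 25) fun x4 =>
  u35force (Nat.mod (Nat.div x 9765625) 25) fun x5 =>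
  u35force (Nat.mod (Nat.div x 244140625) 25) fun x6 =>
  u35force (Nat.mod (Nat.div x 6103515625) 25) fun x7 =>
  u35force (Nat.mod (Nat.div x 152587890625) 25) fun x8 =>
  (u35addcR (u35addcR (u35addcR (u35addcR (u35addcR (u35mulcR (u35mulcR x0 x4) x8) (u35negcR (u35mulcR (u35mulcR x0 x5) x7))) (u35negcR (u35mulcR (u35mulcR x1 x3) x8))) (u35mulcR (u35mulcR x1 x5) x6)) (u35mulcR (u35mulcR x2 x3) x7)) (u35negcR (u35mulcR (u35mulcR x2 x4) x6)))

theorem u35pdetR_eq (x : Nat) : u35pdetR x = u35pdet x := by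
  unfold u35pdetR u35pdet
  simp only [u35force_eq, u35addcR_eq, u35mulcR_eq, u35negcR_eq, u35dgR1, u35dgR2,
    u35dgR3, u35dgR4, u35dgR5, u35dgR6, u35dgR7, u35dgR8]
  simp only [u35dgR0]

/-- add the scalar `a` on the diagonal -/
def u35shift (q a : Nat) : Nat :=

  u35force (Nat.mod q 25) fun x0 =>
  u35force (Nat.mod (Nat.div q 25) 25) fun x1 =>
  u35force (Nat.mod (Nat.div q 625) 25) fun x2 =>
  u35force (Nat.mod (Nat.div q 15625) 25) fun x3 =>
  u35force (Nat.mod (Nat.div q 390625) 25) fun x4 =>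
  u35force (Nat.mod (Nat.div q 9765625) 25) fun x5 =>
  u35force (Nat.mod (Nat.div q 244140625) 25) fun x6 =>
  u35force (Nat.mod (Nat.div q 6103515625) 25) fun x7 =>
  u35force (Nat.mod (Nat.div q 152587890625) 25) fun x8 =>
  u35packF (u35addcR x0 a) x1 x2 x3 (u35addcR x4 a) x5 x6 x7 (u35addcR x8 a)

theorem u35shift_aux : ∀ a, a < 25 →
    u35dg (u35psmul a u35pone) 0 = a ∧ u35dg (u35psmul a u35pone) 1 = 0 ∧
    u35dg (u35psmul a u35pone) 2 = 0 ∧ u35dg (u35psmul a u35pone) 3 = 0 ∧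
    u35dg (u35psmul a u35pone) 4 = a ∧ u35dg (u35psmul a u35pone) 5 = 0 ∧
    u35dg (u35psmul a u35pone) 6 = 0 ∧ u35dg (u35psmul a u35pone) 7 = 0 ∧
    u35dg (u35psmul a u35pone) 8 = a := by
  decide +kernel

theorem u35addc_zero : ∀ d, d < 25 → u35addc d 0 = d := by decide +kernel

theorem u35shift_eq (q a : Nat) (ha : a < 25) :
    u35shift q a = u35padd q (u35psmul a u35pone) := by
  obtain ⟨h0, h1, h2, h3, h4, h5, h6, h7, h8⟩ := u35shift_aux a ha
  unfold u35shift u35padd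
  simp only [u35force_eq, u35packF_eq, u35addcR_eq, u35dgR1, u35dgR2, u35dgR3, u35dgR4,
    u35dgR5, u35dgR6, u35dgR7, u35dgR8]
  simp only [u35dgR0]
  rw [h0, h1, h2, h3, h4, h5, h6, h7, h8, u35addc_zero _ (u35dg_lt q 1),
    u35addc_zero _ (u35dg_lt q 2), u35addc_zero _ (u35dg_lt q 3), u35addc_zero _ (u35dg_lt q 5),
    u35addc_zero _ (u35dg_lt q 6), u35addc_zero _ (u35dg_lt q 7)]

end Cfsg.Agent.Lib.helper94
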