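import Mathlib
import Cfsg.Agent.Lib.helper94.U35Raw

set_option autoImplicit false

/-!
# Data for the Sylow 7-subgroup of `SU_3(5)` (helper94)

An element `x` of order 7, an element `s` with `s x s⁻¹ = x²`, the matrix `E` with columns
`e₀, x e₀, x² e₀` and its inverse, and the 21 elements of the centralizer of `x`.
Generated by `tools/helper94/u35/gen7.py`.
-/

namespace Cfsg.Agent.Lib.helper94

def u35x : Nat := 2052674921717

def u35x2 : Nat := 2754211651353

def u35s : Nat := 938818226025

def u35E : Nat := 958454689801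

def u35Ei : Nat := 409002735276

def u35L21 : List Nat :=
  [152588281251, 2052674921717, 2754211651353, 1047249898422, 3318427605957, 2114764138253, 2828284201612, 1831059375012, 642953443451, 2062225251081, 3225381854510, 537562418858, 632931142856, 2008733662792, 2594000781267, 2835741657612, 714874523471, 495790688498, 942901494840, 2783615832171, 726275686376]

theorem u35x_su : u35isSU u35x = true := by decide +kernel

theorem u35s_su : u35isSU u35s = true := by decide +kernel

theorem u35x2_eq : u35pmul u35x u35x = u35x2 := by decide +kernel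

theorem u35x_pow7 : u35ppow u35x 7 = u35pone := by decide +kernel

theorem u35x_ne : u35x ≠ u35pone ∧ u35x ≠ u35Z1 ∧ u35x ≠ u35Z2 := by decide +kernel

theorem u35s_x : u35pmul u35s u35x = u35pmul u35x2 u35s := by decide +kernel

theorem u35tr_chk : ∀ k, k < 7 →
    (u35ptrace u35x = u35mulc 1 (u35ptrace (u35ppow u35x k)) → (k = 1 ∨ k = 2 ∨ k = 4)) ∧
    u35ptrace u35x ≠ u35mulc 12 (u35ptrace (u35ppow u35x k)) ∧
    u35ptrace u35x ≠ u35mulc 17 (u35ptrace (u35ppow u35x k)) := by
  decide +kernel

theorem u35E_chk : u35E < 3814697265625 ∧ u35Ei < 3814697265625 ∧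
    u35pmul u35E u35Ei = u35pone ∧
    u35dg u35E 0 = 1 ∧ u35dg u35E 3 = 0 ∧ u35dg u35E 6 = 0 ∧
    u35dg u35E 1 = u35dg u35x 0 ∧ u35dg u35E 4 = u35dg u35x 3 ∧ u35dg u35E 7 = u35dg u35x 6 ∧
    u35dg u35E 2 = u35dg u35x2 0 ∧ u35dg u35E 5 = u35dg u35x2 3 ∧ u35dg u35E 8 = u35dg u35x2 6 := by
  decide +kernel

theorem u35L21_spec : ∀ y ∈ u35L21, ∃ i, i < 7 ∧
    (y = u35pmul (u35ppow u35x i) u35pone ∨ y = u35pmul (u35ppow u35x i) u35Z1 ∨
      y = u35pmul (u35ppow u35x i) u35Z2) := by
  decide +kernel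

theorem u35Z_su : u35isSU u35pone = true ∧ u35isSU u35Z1 = true ∧ u35isSU u35Z2 = true := by
  decide +kernel

/-- one candidate of the commutant: not in `SU_3(5)`, or one of the 21 -/
def u35centOne (p : Nat) : Bool :=
  !(Nat.beq (u35pdetR p) 1) || !(Nat.beq (u35pmulF (u35pcstar p) p) u35pone) || u35inl u35L21 p

def u35centA (q : Nat) : Nat → Bool
  | 0 => true
  | a + 1 => u35centOne (u35shift q a) && u35centA q a

def u35centBC (b c : Nat) : Bool :=
  u35force (u35paddR (u35psmulR b u35x) (u35psmulR c u35x2)) fun q => u35centA q 25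

theorem u35cent_chk0 : ∀ b, b < 25 → b / 5 = 0 → ∀ c, c < 25 → u35centBC b c = true := by
  decide +kernel

theorem u35cent_chk1 : ∀ b, b < 25 → b / 5 = 1 → ∀ c, c < 25 → u35centBC b c = true := by
  decide +kernel

theorem u35cent_chk2 : ∀ b, b < 25 → b / 5 = 2 → ∀ c, c < 25 → u35centBC b c = true := by
  decide +kernel

theorem u35cent_chk3 : ∀ b, b < 25 → b / 5 = 3 → ∀ c, c < 25 → u35centBC b c = true := by
  decide +kernel

theorem u35cent_chk4 : ∀ b, b < 25 → b / 5 = 4 → ∀ c, c < 25 → u35centBC b c = true := by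
  decide +kernel

end Cfsg.Agent.Lib.helper94
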