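import Mathlib
import Cfsg.Agent.Lib.helper94.U35Words

set_option autoImplicit false

/-!
# Data for a Sylow 5-subgroup of `SU_3(5)` (helper94)

Generators `u1`, `u2` of a subgroup of order 125, an element `t` of order 24 normalizing it,
and an element `w` conjugating it to a subgroup meeting its normalizer trivially.
Generated by `tools/helper94/u35/gen9.py`.
-/

namespace Cfsg.Agent.Lib.helper94

def u35u1 : Nat := 171896156978

def u35u2 : Nat := 214941440677

def u35t : Nat := 2746587750364

def u35w : Nat := 6103531875

open U35T in
def u35TU : U35T :=
  (node (node (node (node (node nil (node (node (node (node (node nil nil) nil) nil) (node (node nil nil) (node (node nil nil) (node nil (node nil nil))))) (node (node (node nil nil) (node nil (node nil (node nil nil)))) (node (node nil (node nil (node nil nil))) (node (node nil (node nil nil)) nil))))) (node (node (node (node (node nil nil) nil) nil) (node (node nil nil) (node (node nil nil) (node nil (node nil nil))))) (node (node (node nil nil) (node nil (node nil (node nil nil)))) (node (node nil (node nil (node nil nil))) (node (node nil (node nil nil)) nil))))) (node (node (node (node (node nil nil) nil) nil) (node (node nil nil) (node (node nil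 nil) (node nil (node nil nil))))) (node (node (node nil nil) (node nil (node nil (node nil nil)))) (node (node nil (node nil (node nil nil))) (node (node nil (node nil nil)) nil))))) (node (node (node (node (node nil nil) nil) nil) (node (node nil nil) (node (node nil nil) (node nil (node nil nil))))) (node (node (node nil nil) (node nil (node nil (node nil nil)))) (node (node nil (node nil (node nil nil))) (node (node nil (node nil nil)) nil))))) (node (node (node (node (node nil nil) nil) nil) (node (node nil nil) (node (node nil nil) (node nil (node nil nil))))) (node (node (node nil nil) (node nil (node nil (node nil nil)))) (node (node nil (node nil (node nil nil))) (node (node nil (node nil nil)) nil)))))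

theorem u35certU : u35certOK u35u1 u35u2 u35TU 125 = true := by decide +kernel

theorem u35t_su : u35isSU u35t = true := by decide +kernel

theorem u35w_su : u35isSU u35w = true := by decide +kernel

theorem u35t_norm : (u35keys u35u1 u35u2 u35TU).all
    (fun y => u35inl (u35keys u35u1 u35u2 u35TU) (u35conj u35t y)) = true := by
  decide +kernel

theorem u35t_ord : u35ppow u35t 24 = u35pone ∧ u35ppow u35t 12 ≠ u35pone ∧
    u35ppow u35t 8 ≠ u35pone := by
  decide +kernel

theorem u35w_disj : (u35keys u35u1 u35u2 u35TU).all
    (fun y => Nat.beq y u35pone ||
      (u35notin (u35keys u35u1 u35u2 u35TU) (u35conj (u35conj u35w y) u35u1) ||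
        u35notin (u35keys u35u1 u35u2 u35TU) (u35conj (u35conj u35w y) u35u2))) = true := by
  decide +kernel

theorem u35U_Z : u35notin (u35keys u35u1 u35u2 u35TU) u35Z1 = true ∧
    u35notin (u35keys u35u1 u35u2 u35TU) u35Z2 = true := by
  decide +kernel

end Cfsg.Agent.Lib.helper94
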