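import Mathlib
import Cfsg.Agent.Lib.helper94.U35DataN
import Cfsg.Agent.Lib.helper70.CommCyc3
import Cfsg.Agent.Lib.helper72.NormCondLift
import Cfsg.Agent.Lib.helper77.NormSyl7
import Cfsg.Agent.Lib.helper96.PSU3Five

set_option autoImplicit false

/-!
# The normalizer of a Sylow 7-subgroup of `PSU_3(5)` has order 21 (helper94)
-/

namespace Cfsg.Agent.Lib.helper94

open Cfsg Matrix

/-- the element of order 7 -/
def u35xh : U35G := u35mk u35x u35x_su

/-- an element with `s x s⁻¹ = x²` -/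
def u35sh : U35G := u35mk u35s u35s_su

theorem u35code_xh : u35code u35xh = u35x := u35code_mk _ _

theorem u35code_sh : u35code u35sh = u35s := u35code_mk _ _

theorem u35mat_mul (g h : U35G) : (g * h).1.1 = g.1.1 * h.1.1 := rfl

theorem u35mat_one : (1 : U35G).1.1 = 1 := rfl

theorem u35_entry_c (M : U35M) (i j : Fin 3) :
    (M i j).c = u35dg (u35ofMat M) (3 * i.val + j.val) := by
  obtain ⟨h0, h1, h2, h3, h4, h5, h6, h7, h8⟩ := u35dg_ofMat M
  fin_cases i <;> fin_cases j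
  · exact h0.symm
  · exact h1.symm
  · exact h2.symm
  · exact h3.symm
  · exact h4.symm
  · exact h5.symm
  · exact h6.symm
  · exact h7.symm
  · exact h8.symm

theorem u35xh_pow7 : u35xh ^ 7 = 1 := by
  apply u35code_injective
  rw [u35code_pow, u35code_one, u35code_xh]
  exact u35x_pow7

theorem u35xh_not_center : u35xh ∉ Subgroup.center U35G := by
  intro h
  have h1 := u35center_code _ h
  rw [u35code_xh] at h1
  obtain ⟨e1, e2, e3⟩ := u35x_ne
  rcases h1 with h1 | h1 | h1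
  · exact e1 h1
  · exact e2 h1
  · exact e3 h1

theorem u35sh_xh : u35sh * u35xh = u35xh * u35xh * u35sh := by
  apply u35code_injective
  rw [u35code_mul, u35code_mul, u35code_mul, u35code_xh, u35code_sh, u35x2_eq]
  exact u35s_x

theorem u35centA_spec (q : Nat) :
    ∀ n, u35centA q n = true → ∀ a, a < n → u35centOne (u35shift q a) = true
  | 0, _, a, ha => absurd ha (Nat.not_lt_zero a)
  | n + 1, h, a, ha => by
    simp only [u35centA, Bool.and_eq_true] at h
    rcases Nat.lt_succ_iff_lt_or_eq.1 ha with h1 | rfl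
    · exact u35centA_spec q n h.2 a h1
    · exact h.1

theorem u35cent_main (a b c : Nat) (ha : a < 25) (hb : b < 25) (hc : c < 25)
    (h : u35isSU
      (u35padd (u35padd (u35psmul b u35x) (u35psmul c u35x2)) (u35psmul a u35pone)) = true) :
    u35padd (u35padd (u35psmul b u35x) (u35psmul c u35x2)) (u35psmul a u35pone) ∈ u35L21 := by
  have hbc : u35centBC b c = true := by
    have h5 : b / 5 = 0 ∨ b / 5 = 1 ∨ b / 5 = 2 ∨ b / 5 = 3 ∨ b / 5 = 4 := by omega
    rcases h5 with hj | hj | hj | hj | hj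
    · exact u35cent_chk0 b hb hj c hc
    · exact u35cent_chk1 b hb hj c hc
    · exact u35cent_chk2 b hb hj c hc
    · exact u35cent_chk3 b hb hj c hc
    · exact u35cent_chk4 b hb hj c hc
  unfold u35centBC at hbc
  rw [u35force_eq, u35paddR_eq, u35psmulR_eq, u35psmulR_eq] at hbc
  have h1 := u35centA_spec _ 25 hbc a ha
  rw [u35shift_eq _ _ ha] at h1
  unfold u35centOne at h1
  rw [u35pdetR_eq, u35pmulF_eq] at h1
  have h2 := (u35isSU_iff _).1 h
  rw [h2.2.2, h2.2.1] at h1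
  simp only [Nat.beq_refl, Bool.not_true, Bool.false_or] at h1
  exact u35inl_spec _ _ h1

theorem u35conj_pow {G : Type*} [Group G] (s x : G) (hsx : s * x = x * x * s) :
    s * x * s⁻¹ = x ^ 2 ∧ s ^ 2 * x * (s ^ 2)⁻¹ = x ^ 4 := by
  have h1 : s * x * s⁻¹ = x ^ 2 := by
    rw [hsx, mul_inv_cancel_right, pow_two]
  refine ⟨h1, ?_⟩
  have h2 : s ^ 2 * x * (s ^ 2)⁻¹ = s * (s * x * s⁻¹) * s⁻¹ := by
    rw [pow_two, _root_.mul_inv_rev]
    simp only [mul_assoc]
  have h3 : s * x ^ 2 * s⁻¹ = (s * x * s⁻¹) ^ 2 := by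
    rw [pow_two, pow_two]
    simp only [mul_assoc, inv_mul_cancel_left]
  rw [h2, h1, h3, h1, ← pow_mul]

theorem u35E_hyps :
    (∀ i, (u35toMat u35E) i 0 = (1 : U35M) i 0) ∧
    (∀ i, (u35toMat u35E) i 1 = u35xh.1.1 i 0) ∧
    (∀ i, (u35toMat u35E) i 2 = (u35xh.1.1 * u35xh.1.1) i 0) ∧
    u35toMat u35E * u35toMat u35Ei = 1 := by
  obtain ⟨hE, hEi, hmul, c0, c3, c6, c1, c4, c7, c2, c5, c8⟩ := u35E_chk
  have hX : u35ofMat u35xh.1.1 = u35x := u35code_xh
  have hXX : u35ofMat (u35xh.1.1 * u35xh.1.1) = u35x2 := by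
    rw [u35ofMat_mul, hX, u35x2_eq]
  refine ⟨?_, ?_, ?_, ?_⟩
  · intro i
    apply U35K.ext'
    rw [u35_entry_c, u35_entry_c, u35ofMat_toMat _ hE, u35ofMat_one]
    fin_cases i <;> decide
  · intro i
    apply U35K.ext'
    rw [u35_entry_c, u35_entry_c, u35ofMat_toMat _ hE, hX]
    fin_cases i <;> decide
  · intro i
    apply U35K.ext'
    rw [u35_entry_c, u35_entry_c, u35ofMat_toMat _ hE, hXX]
    fin_cases i <;> decide
  · apply u35ofMat_injective
    rw [u35ofMat_mul, u35ofMat_toMat _ hE, u35ofMat_toMat _ hEi, u35ofMat_one]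
    exact hmul

theorem u35n7_h (n z : U35G) (hz : z ∈ Subgroup.center U35G) (k : ℕ) (hk : k < 7)
    (h : n * u35xh * n⁻¹ = z * u35xh ^ k) :
    ∃ j < 3, ∃ i < 7, ∃ z' ∈ Subgroup.center U35G, n = u35sh ^ j * u35xh ^ i * z' := by
  obtain ⟨c, hc, hzc⟩ := u35center_scalar z hz
  -- traces
  have htr : (u35xh.1.1).trace = c * ((u35xh ^ k).1.1).trace := by
    have h1 := congrArg (fun g : U35G => (g.1.1).trace) h
    simp only [u35mat_mul] at h1
    rw [Matrix.trace_mul_comm, ← Matrix.mul_assoc, ← u35mat_mul, inv_mul_cancel, u35mat_one,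
      Matrix.one_mul, hzc, Matrix.smul_mul, Matrix.one_mul, Matrix.trace_smul, smul_eq_mul] at h1
    exact h1
  have hcode : u35ptrace u35x = u35mulc c.c (u35ptrace (u35ppow u35x k)) := by
    have h1 := congrArg U35K.c htr
    rw [u35_trace_c, U35K.mul_c, u35_trace_c] at h1
    have e1 : u35ofMat u35xh.1.1 = u35x := u35code_xh
    have e2 : u35ofMat (u35xh ^ k).1.1 = u35ppow u35x k := by
      have := u35code_pow u35xh k
      rw [u35code_xh] at this
      exact this
    rw [e1, e2] at h1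
    exact h1
  obtain ⟨t1, t12, t17⟩ := u35tr_chk k hk
  have hc1 : c.c = 1 := by
    rcases hc with hc | hc | hc
    · exact hc
    · rw [hc] at hcode; exact absurd hcode t12
    · rw [hc] at hcode; exact absurd hcode t17
  rw [hc1] at hcode
  have hk' := t1 hcode
  have hz1 : z = 1 := by
    rw [← u35code_eq_one_iff]
    have : c = 1 := U35K.ext' hc1
    unfold u35code
    rw [hzc, this, one_smul, u35ofMat_one]
  rw [hz1, one_mul] at h
  obtain ⟨cj1, cj2⟩ := u35conj_pow u35sh u35xh u35sh_xh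
  -- the element of the normalizer, up to a power of `s`
  have key : ∀ t : U35G, n * u35xh * n⁻¹ = t * u35xh * t⁻¹ →
      ∃ i < 7, ∃ z' ∈ Subgroup.center U35G, n = t * u35xh ^ i * z' := by
    intro t ht
    have hm : (t⁻¹ * n) * u35xh = u35xh * (t⁻¹ * n) := by
      calc (t⁻¹ * n) * u35xh = t⁻¹ * (n * u35xh * n⁻¹) * n := by group
        _ = t⁻¹ * (t * u35xh * t⁻¹) * n := by rw [ht]
        _ = u35xh * (t⁻¹ * n) := by group
    have hmat : (t⁻¹ * n).1.1 * u35xh.1.1 = u35xh.1.1 * (t⁻¹ * n).1.1 := by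
      have := congrArg (fun g : U35G => g.1.1) hm
      exact this
    obtain ⟨hE0, hE1, hE2, hEi⟩ := u35E_hyps
    obtain ⟨a, b, c', habc⟩ := Cfsg.Agent.Lib.helper70.comm_cyclic3 u35xh.1.1 (u35toMat u35E)
      (u35toMat u35Ei) hE0 hE1 hE2 hEi (t⁻¹ * n).1.1 hmat
    have habc' : (t⁻¹ * n).1.1 =
        (b • u35xh.1.1 + c' • (u35xh.1.1 * u35xh.1.1)) + a • (1 : U35M) := by
      rw [habc]; abel
    have hcm : u35code (t⁻¹ * n) =
        u35padd (u35padd (u35psmul b.c u35x) (u35psmul c'.c u35x2)) (u35psmul a.c u35pone) := by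
      unfold u35code
      rw [habc', u35ofMat_add, u35ofMat_add, u35ofMat_smul, u35ofMat_smul, u35ofMat_smul,
        u35ofMat_mul, u35ofMat_one]
      have e1 : u35ofMat u35xh.1.1 = u35x := u35code_xh
      rw [e1, u35x2_eq]
    have hsu := u35code_isSU (t⁻¹ * n)
    rw [hcm] at hsu
    have hin := u35cent_main a.c b.c c'.c a.h b.h c'.h hsu
    rw [← hcm] at hin
    obtain ⟨i, hi, hy⟩ := u35L21_spec _ hin
    obtain ⟨s1, s2, s3⟩ := u35Z_su
    have fin : ∀ cz : Nat, ∀ hcz : u35isSU cz = true,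
        (cz = u35pone ∨ cz = u35Z1 ∨ cz = u35Z2) →
        u35code (t⁻¹ * n) = u35pmul (u35ppow u35x i) cz →
        ∃ z' ∈ Subgroup.center U35G, n = t * u35xh ^ i * z' := by
      intro cz hcz hczc hm2
      refine ⟨u35mk cz hcz, u35center_of_code _ (by rw [u35code_mk]; exact hczc), ?_⟩
      have e : t⁻¹ * n = u35xh ^ i * u35mk cz hcz := by
        apply u35code_injective
        rw [hm2, u35code_mul, u35code_pow, u35code_xh, u35code_mk]
      calc n = t * (t⁻¹ * n) := by group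
        _ = t * (u35xh ^ i * u35mk cz hcz) := by rw [e]
        _ = t * u35xh ^ i * u35mk cz hcz := by rw [mul_assoc]
    rcases hy with hy | hy | hy
    · exact ⟨i, hi, fin _ s1 (Or.inl rfl) hy⟩
    · exact ⟨i, hi, fin _ s2 (Or.inr (Or.inl rfl)) hy⟩
    · exact ⟨i, hi, fin _ s3 (Or.inr (Or.inr rfl)) hy⟩
  rcases hk' with rfl | rfl | rfl
  · obtain ⟨i, hi, z', hz', hn⟩ := key 1 (by rw [h]; group)
    exact ⟨0, by norm_num, i, hi, z', hz', by rw [hn]; group⟩
  · obtain ⟨i, hi, z', hz', hn⟩ := key u35sh (by rw [h, cj1])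
    exact ⟨1, by norm_num, i, hi, z', hz', by rw [hn, pow_one]⟩
  · obtain ⟨i, hi, z', hz', hn⟩ := key (u35sh ^ 2) (by rw [h, cj2])
    exact ⟨2, by norm_num, i, hi, z', hz', hn⟩

theorem u35_hN7 : ∀ S : Sylow 7 (PSU 3 U35K 5),
    Nat.card (Subgroup.normalizer ((S : Subgroup (PSU 3 U35K 5)) : Set (PSU 3 U35K 5))) = 21 := by
  obtain ⟨ho, hn⟩ := Cfsg.Agent.Lib.helper72.norm_cond_of_lift u35xh u35sh u35xh_pow7
    u35xh_not_center u35n7_h
  exact Cfsg.Agent.Lib.helper77.norm_syl7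
    (Cfsg.Agent.Lib.helper96.card_psu3_five U35K.card_eq) _ _ ho hn

end Cfsg.Agent.Lib.helper94
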