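import Mathlib
import Cfsg.Agent.Lib.helper94.U35DataU
import Cfsg.Agent.Lib.helper58.SU3Sylow

set_option autoImplicit false

/-!
# A Sylow 5-subgroup of `SU_3(5)` and its normalizer (helper94)

The facts about the subgroup `U` of order 125 needed for the trivial-intersection property:
`U` meets the centre trivially, its normalizer has order at least 3000, and the conjugate
of `U` by `w` meets the normalizer of `U` trivially.
-/

namespace Cfsg.Agent.Lib.helper94

open Cfsg

theorem u35u1_su : u35isSU u35u1 = true := by decide +kernel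

theorem u35u2_su : u35isSU u35u2 = true := by decide +kernel

/-- a Sylow 5-subgroup of `SU_3(5)` -/
def u35U : Subgroup U35G := u35gen u35u1 u35u2 u35u1_su u35u2_su

theorem u35U_card : Nat.card u35U = 125 := u35cert_card u35certU _ _

theorem u35U_mem (g : U35G) : g ∈ u35U ↔ u35code g ∈ u35keys u35u1 u35u2 u35TU :=
  u35cert_mem u35certU _ _ g

theorem u35U_set : (u35U : Set U35G) = u35setOf (u35keys u35u1 u35u2 u35TU) :=
  Set.ext fun g => u35U_mem g

theorem u35U_center : ∀ z ∈ Subgroup.center U35G, z ∈ u35U → z = 1 := by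
  intro z hz hzU
  rw [u35U_mem] at hzU
  obtain ⟨n1, n2⟩ := u35U_Z
  rw [← u35code_eq_one_iff]
  rcases u35center_code z hz with h | h | h
  · exact h
  · rw [h] at hzU; exact absurd hzU (u35notin_spec _ _ n1)
  · rw [h] at hzU; exact absurd hzU (u35notin_spec _ _ n2)

theorem u35U_disj : ∀ u ∈ u35U,
    u35mk u35w u35w_su * u * (u35mk u35w u35w_su)⁻¹ ∈ Subgroup.normalizer (u35U : Set U35G) →
    u = 1 := by
  intro u hu hn
  rw [u35U_mem] at hu
  have h1 := List.all_eq_true.1 u35w_disj _ hu
  simp only [Bool.or_eq_true] at h1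
  have hc : u35code (u35mk u35w u35w_su * u * (u35mk u35w u35w_su)⁻¹)
      = u35conj u35w (u35code u) := by
    rw [u35code_conj, u35code_mk]
  rw [u35U_set] at hn
  rcases h1 with h1 | h1 | h1
  · rw [← u35code_eq_one_iff]
    exact Nat.eq_of_beq_eq_true h1
  · exfalso
    refine u35_not_mem_normalizer _ _ (u35mk u35u1 u35u1_su) ?_ ?_ hn
    · rw [← u35U_mem]
      exact Subgroup.subset_closure (by simp)
    · rw [hc, u35code_mk]
      exact h1
  · exfalso
    refine u35_not_mem_normalizer _ _ (u35mk u35u2 u35u2_su) ?_ ?_ hn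
    · rw [← u35U_mem]
      exact Subgroup.subset_closure (by simp)
    · rw [hc, u35code_mk]
      exact h1

theorem u35t_mem_normalizer :
    u35mk u35t u35t_su ∈ Subgroup.normalizer (u35U : Set U35G) := by
  rw [u35U_set]
  exact u35_mem_normalizer _ _ (by rw [u35code_mk]; exact u35t_norm)

theorem u35t_order : orderOf (u35mk u35t u35t_su) = 24 := by
  obtain ⟨h24, h12, h8⟩ := u35t_ord
  have e : ∀ n : Nat, (u35mk u35t u35t_su) ^ n = 1 ↔ u35ppow u35t n = u35pone := by
    intro n
    rw [← u35code_eq_one_iff, u35code_pow, u35code_mk]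
  apply orderOf_eq_of_pow_and_pow_div_prime (by norm_num)
  · exact (e 24).2 h24
  · intro p hp hdvd
    have hp' : p = 2 ∨ p = 3 := by
      have h1 : p ∣ 2 ^ 3 * 3 := by norm_num; exact hdvd
      rcases (Nat.Prime.dvd_mul hp).1 h1 with h2 | h2
      · left
        exact (Nat.prime_dvd_prime_iff_eq hp Nat.prime_two).1 (hp.dvd_of_dvd_pow h2)
      · right
        exact (Nat.prime_dvd_prime_iff_eq hp Nat.prime_three).1 h2
    rcases hp' with rfl | rfl
    · intro h
      exact h12 ((e 12).1 h)
    · intro h
      exact h8 ((e 8).1 h)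

theorem u35N_card : Nat.card U35G ≤
    Nat.card (Subgroup.normalizer (u35U : Set U35G)) * 126 := by
  have h125 : 125 ∣ Nat.card (Subgroup.normalizer (u35U : Set U35G)) := by
    have := Subgroup.card_dvd_of_le (Subgroup.le_normalizer (H := u35U))
    rwa [u35U_card] at this
  have h24 : 24 ∣ Nat.card (Subgroup.normalizer (u35U : Set U35G)) := by
    have hle : Subgroup.zpowers (u35mk u35t u35t_su) ≤ Subgroup.normalizer (u35U : Set U35G) := by
      rw [Subgroup.zpowers_le]
      exact u35t_mem_normalizer
    have := Subgroup.card_dvd_of_le hle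
    rwa [Nat.card_zpowers, u35t_order] at this
  have h3000 : 125 * 24 ∣ Nat.card (Subgroup.normalizer (u35U : Set U35G)) :=
    Nat.Coprime.mul_dvd_of_dvd_of_dvd (by norm_num) h125 h24
  have hpos : 0 < Nat.card (Subgroup.normalizer (u35U : Set U35G)) := Nat.card_pos
  have hle := Nat.le_of_dvd hpos h3000
  have hE : Nat.card U35G = 378000 := by
    have h := Cfsg.Agent.Lib.helper58.card_SU3 (F := U35K) (q := 5) u35card_sq
    rw [h]
    norm_num
  rw [hE]
  omega

end Cfsg.Agent.Lib.helper94
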