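import Mathlib
import Cfsg.Agent.Lib.helper94.U35N7
import Cfsg.Agent.Lib.helper94.U35A7
import Cfsg.Agent.Lib.helper94.U35TI
import Cfsg.Agent.Lib.helper70.MinIdx50
import Cfsg.Agent.Lib.helper72.TI5Quot
import Cfsg.Agent.Lib.helper17.U42Transport

set_option autoImplicit false

/-!
# The minimal index of a proper subgroup of `PSU_3(5)` is 50 (helper94)

Assembly on the concrete field `U35K`, and transport to any field with 25 elements.
-/

namespace Cfsg.Agent.Lib.helper94

open Cfsg

theorem u35_main : (∀ H : Subgroup (PSU 3 U35K 5), H ≠ ⊤ → 50 ≤ H.index) ∧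
    (∃ H : Subgroup (PSU 3 U35K 5), H.index = 50) := by
  have hG := Cfsg.Agent.Lib.helper96.card_psu3_five U35K.card_eq
  obtain ⟨hTI, hne⟩ := Cfsg.Agent.Lib.helper72.ti5_central_quotient hG u35U
    (u35mk u35w u35w_su) u35U_card u35U_center u35U_disj u35N_card
  have hmin := Cfsg.Agent.Lib.helper70.min_index_fifty hG hTI hne u35_hN7
  exact ⟨hmin, u35_index50 hmin⟩

theorem u35_transport {G : Type*} {G' : Type*} [Group G] [Group G'] (e : G ≃* G')
    (h : (∀ H : Subgroup G', H ≠ ⊤ → 50 ≤ H.index) ∧ (∃ H : Subgroup G', H.index = 50)) :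
    (∀ H : Subgroup G, H ≠ ⊤ → 50 ≤ H.index) ∧ (∃ H : Subgroup G, H.index = 50) := by
  obtain ⟨h1, H', hH'⟩ := h
  constructor
  · intro H hH
    have h2 : (H.map (e : G →* G')).index = H.index := Subgroup.index_map_equiv H e
    have h3 : H.map (e : G →* G') ≠ ⊤ := by
      intro htop
      apply hH
      rw [← Subgroup.index_eq_one, ← h2, htop, Subgroup.index_top]
    have h4 := h1 _ h3
    rwa [h2] at h4
  · refine ⟨H'.map (e.symm : G' →* G), ?_⟩
    have h2 : (H'.map (e.symm : G' →* G)).index = H'.index :=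
      Subgroup.index_map_equiv H' e.symm
    rw [h2, hH']

theorem u35_result {F : Type*} [Field F] [Fintype F] (hF : Fintype.card F = 25) :
    (∀ H : Subgroup (Cfsg.PSU 3 F 5), H ≠ ⊤ → 50 ≤ H.index) ∧
      (∃ H : Subgroup (Cfsg.PSU 3 F 5), H.index = 50) := by
  have e1 : F ≃+* U35K := FiniteField.ringEquivOfCardEq (by rw [hF, U35K.card_eq])
  obtain ⟨e⟩ := Cfsg.Agent.Lib.helper17.u42_psu_congr e1 3 5
  exact u35_transport e u35_main

end Cfsg.Agent.Lib.helper94
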